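import Mathlib.GroupTheory.PGroup
import Mathlib.GroupTheory.Subgroup.Centralizer
import Mathlib.Algebra.MonoidAlgebra.Basic
import Mathlib.Algebra.CharP.Basic
import Mathlib.Data.ZMod.Basic
import Mathlib.RingTheory.Nilpotent.Defs
import Mathlib.Tactic

set_option autoImplicit false

namespace Cfsg.Agent.H35

/-- The sum of the class of `g` as an element of a monoid algebra. -/
noncomputable def classSumAlg {G : Type*} [Group G] [Finite G] (R : Type*) [Semiring R] (g : G) :
    MonoidAlgebra R G :=
  ∑ x ∈ ((Set.toFinite {x : G | IsConj g x}).toFinset), MonoidAlgebra.single x (1 : R)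

theorem classSumAlg_eq_finsum {G : Type*} [Group G] [Finite G] (R : Type*) [Semiring R] (g : G) :
    (∑ᶠ x ∈ ConjClasses.carrier (ConjClasses.mk g), MonoidAlgebra.single x (1 : R)) =
      classSumAlg R g := by
  rw [classSumAlg, ← finsum_mem_eq_finite_toFinset_sum]
  apply finsum_mem_congr _ (fun _ _ => rfl)
  ext x
  simp only [ConjClasses.mem_carrier_iff_mk_eq, ConjClasses.mk_eq_mk_iff_isConj, Set.Finite.mem_toFinset, Finset.mem_coe, Set.mem_ofPred_eq, Set.mem_setOf_eq]
  exact isConj_comm

section
variable {G : Type*} [Group G] [Finite G] {p : ℕ} [Fact p.Prime] (Q : Subgroup G)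

/-- The next term of the ascending fixed-point series of the left regular module. -/
noncomputable def fixStep (W : AddSubgroup (MonoidAlgebra (ZMod p) G)) :
    AddSubgroup (MonoidAlgebra (ZMod p) G) where
  carrier := {v | ∀ q ∈ Q, MonoidAlgebra.single q 1 * v - v ∈ W}
  zero_mem' := by simp
  add_mem' := by
    intro a b ha hb q hq
    have := W.add_mem (ha q hq) (hb q hq)
    convert this using 1
    rw [mul_add]; abel
  neg_mem' := by
    intro a ha q hq
    have := W.neg_mem (ha q hq)
    convert this using 1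
    rw [mul_neg]; abel

noncomputable def fixSeries : ℕ → AddSubgroup (MonoidAlgebra (ZMod p) G)
  | 0 => ⊥
  | n + 1 => fixStep Q (fixSeries n)

variable {Q}

theorem single_mul_mem_fixSeries [Q.Normal] : ∀ (n : ℕ) (x : G) {v : MonoidAlgebra (ZMod p) G},
    v ∈ fixSeries Q n → MonoidAlgebra.single x 1 * v ∈ fixSeries Q n := by
  intro n
  induction n with
  | zero =>
    intro x v hv
    simp only [fixSeries, AddSubgroup.mem_bot] at hv ⊢
    simp [hv]
  | succ n ih =>
    intro x v hv q hq
    have hq' : x⁻¹ * q * x ∈ Q := by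
      simpa using Subgroup.Normal.conj_mem ‹Q.Normal› q hq x⁻¹
    have := ih x (hv _ hq')
    convert this using 1
    rw [mul_sub, ← mul_assoc, ← mul_assoc, MonoidAlgebra.single_mul_single,
      MonoidAlgebra.single_mul_single]
    group

theorem fixSeries_le_succ [Q.Normal] (n : ℕ) :
    fixSeries (p := p) Q n ≤ fixSeries Q (n + 1) := by
  intro v hv q _
  exact AddSubgroup.sub_mem _ (single_mul_mem_fixSeries n q hv) hv

theorem fixSeries_eq_top [Q.Normal] (hQ : IsPGroup p Q) :
    ∃ n, fixSeries (p := p) Q n = ⊤ := by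
  classical
  have : Finite (MonoidAlgebra (ZMod p) G) := by
    have : Fintype G := Fintype.ofFinite G
    exact Finite.of_equiv (G → ZMod p)
      ((Finsupp.equivFunOnFinite).symm.trans MonoidAlgebra.coeffEquiv.symm)
  obtain ⟨n, hn⟩ := WellFoundedGT.monotone_chain_condition
    ⟨fixSeries (p := p) Q, monotone_nat_of_le_succ fixSeries_le_succ⟩
  refine ⟨n, ?_⟩
  by_contra hne
  set W := fixSeries (p := p) Q n
  let V := MonoidAlgebra (ZMod p) G ⧸ W
  let act : Q → V → V := fun q => Quotient.lift
    (fun v => (QuotientAddGroup.mk (MonoidAlgebra.single (q : G) 1 * v) : V)) (by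
      intro a b hab
      have hab' : -a + b ∈ W := QuotientAddGroup.leftRel_apply.mp hab
      apply QuotientAddGroup.eq.mpr
      have := single_mul_mem_fixSeries n (q : G) hab'
      rwa [mul_add, mul_neg] at this)
  let _ : SMul Q V := ⟨act⟩
  let _ : MulAction Q V :=
    { one_smul := fun v => by
        induction v using Quotient.ind with
        | _ v =>
          show (QuotientAddGroup.mk (MonoidAlgebra.single ((1 : Q) : G) 1 * v) : V) = _
          rw [OneMemClass.coe_one, ← MonoidAlgebra.one_def, one_mul]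
      mul_smul := fun q q' v => by
        induction v using Quotient.ind with
        | _ v =>
          show (QuotientAddGroup.mk (MonoidAlgebra.single ((q * q' : Q) : G) 1 * v) : V) =
            QuotientAddGroup.mk (MonoidAlgebra.single (q : G) 1 *
              (MonoidAlgebra.single (q' : G) 1 * v))
          rw [← mul_assoc, MonoidAlgebra.single_mul_single, mul_one, Subgroup.coe_mul] }
  obtain ⟨v, hv⟩ : ∃ v, v ∉ W := by
    by_contra h
    push Not at h
    exact hne (eq_top_iff.mpr fun v _ => h v)
  have hp : p ∣ Nat.card V := by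
    have hne0 : (QuotientAddGroup.mk v : V) ≠ 0 := by
      rwa [Ne, QuotientAddGroup.eq_zero_iff]
    have hp0 : p • (QuotientAddGroup.mk v : V) = 0 := by
      rw [← QuotientAddGroup.mk_nsmul]
      have : p • v = 0 := by
        rw [← Nat.cast_smul_eq_nsmul (ZMod p) p v, ZMod.natCast_self, zero_smul]
      rw [this]; rfl
    have := addOrderOf_eq_prime hp0 hne0
    rw [← this]
    exact addOrderOf_dvd_natCard _
  have h0 : (0 : V) ∈ MulAction.fixedPoints Q V := by
    intro q
    show (QuotientAddGroup.mk (MonoidAlgebra.single (q : G) 1 * 0) : V) = 0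
    simp
  obtain ⟨b, hb, hb0⟩ := hQ.exists_fixed_point_of_prime_dvd_card_of_fixed_point V hp h0
  obtain ⟨b, rfl⟩ := QuotientAddGroup.mk_surjective b
  apply hb0
  symm
  rw [QuotientAddGroup.eq_zero_iff]
  have hb1 : b ∈ fixSeries (p := p) Q (n + 1) := by
    intro q hq
    have := hb ⟨q, hq⟩
    have h' : (QuotientAddGroup.mk (MonoidAlgebra.single q 1 * b) : V) = QuotientAddGroup.mk b := this
    have := QuotientAddGroup.eq.mp h'.symm
    rwa [neg_add_eq_sub] at this
  have heq : fixSeries (p := p) Q n = fixSeries Q (n + 1) := hn (n + 1) (Nat.le_succ n)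
  show b ∈ fixSeries (p := p) Q n
  rw [heq]; exact hb1

theorem classSum_mul_mem [Q.Normal] (hQ : IsPGroup p Q) (g : G)
    (hg : ∀ x : G, IsConj g x → x ∉ Subgroup.centralizer (Q : Set G)) (n : ℕ)
    {v : MonoidAlgebra (ZMod p) G} (hv : v ∈ fixSeries Q (n + 1)) :
    classSumAlg (ZMod p) g * v ∈ fixSeries Q n := by
  classical
  set S := (Set.toFinite {x : G | IsConj g x}).toFinset
  have hS : ∀ x, x ∈ S ↔ IsConj g x := by simp [S]
  rw [classSumAlg, Finset.sum_mul]
  rw [← Finset.sum_fiberwise_of_maps_to (t := S.image (fun x : G => (x : G ⧸ Q)))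
    (g := fun x : G => (x : G ⧸ Q)) (fun x hx => Finset.mem_image_of_mem _ hx)]
  apply AddSubgroup.sum_mem
  intro c hc
  set T := S.filter (fun x : G => (x : G ⧸ Q) = c)
  obtain ⟨x₀, hx₀S, hx₀⟩ := Finset.mem_image.mp hc
  -- all terms of the fibre agree modulo the previous term
  have hagree : ∀ x ∈ T, MonoidAlgebra.single x 1 * v - MonoidAlgebra.single x₀ 1 * v
      ∈ fixSeries Q n := by
    intro x hx
    have hxc : (x : G ⧸ Q) = c := (Finset.mem_filter.mp hx).2
    have hmem : x₀⁻¹ * x ∈ Q := QuotientGroup.eq.mp (hx₀.trans hxc.symm)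
    have := single_mul_mem_fixSeries n x₀ (hv _ hmem)
    rwa [mul_sub, ← mul_assoc, MonoidAlgebra.single_mul_single, mul_one, mul_inv_cancel_left]
      at this
  have hcard : p ∣ T.card := by
    let X := {x : G // IsConj g x ∧ (x : G ⧸ Q) = c}
    let _ : SMul Q X := ⟨fun q x => ⟨(q : G) * x.1 * (q : G)⁻¹,
      x.2.1.trans (isConj_iff.mpr ⟨(q : G), rfl⟩), by
        refine Eq.trans ?_ x.2.2
        apply QuotientGroup.eq.mpr
        have h1 : (x.1⁻¹ * (q : G) * x.1) ∈ Q := by
          simpa using Subgroup.Normal.conj_mem ‹Q.Normal› _ q.2 x.1⁻¹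
        have h2 := Q.mul_mem q.2 (Q.inv_mem h1)
        convert h2 using 1
        group⟩⟩
    let _ : MulAction Q X :=
      { one_smul := fun x => by
          apply Subtype.ext
          show ((1 : Q) : G) * x.1 * ((1 : Q) : G)⁻¹ = x.1
          simp
        mul_smul := fun a b x => by
          apply Subtype.ext
          show ((a * b : Q) : G) * x.1 * ((a * b : Q) : G)⁻¹ =
            (a : G) * ((b : G) * x.1 * (b : G)⁻¹) * (a : G)⁻¹
          push_cast
          group }
    have hfix : MulAction.fixedPoints Q X = ∅ := by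
      ext x
      simp only [MulAction.mem_fixedPoints, Set.mem_empty_iff_false, iff_false]
      intro h
      apply hg x.1 x.2.1
      rw [Subgroup.mem_centralizer_iff]
      intro u hu
      exact mul_inv_eq_iff_eq_mul.mp (congrArg Subtype.val (h ⟨u, hu⟩))
    have := hQ.card_modEq_card_fixedPoints X
    rw [hfix] at this
    simp only [Nat.card_of_isEmpty] at this
    have hTX : T.card = Nat.card X := by
      rw [← Nat.card_eq_finsetCard]
      exact Nat.card_congr (Equiv.subtypeEquivRight (fun x => by simp [T, hS]))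
    rw [hTX]
    exact Nat.modEq_zero_iff_dvd.mp this
  have h1 : ∑ x ∈ T, (MonoidAlgebra.single x 1 * v - MonoidAlgebra.single x₀ 1 * v)
      ∈ fixSeries Q n := AddSubgroup.sum_mem _ hagree
  rw [Finset.sum_sub_distrib, Finset.sum_const] at h1
  obtain ⟨k, hk⟩ := hcard
  have h2 : T.card • (MonoidAlgebra.single x₀ (1 : ZMod p) * v) = 0 := by
    rw [← Nat.cast_smul_eq_nsmul (ZMod p), hk, Nat.cast_mul, ZMod.natCast_self, zero_mul,
      zero_smul]
  rw [h2, sub_zero] at h1
  exact h1

theorem classSumAlg_nilpotent [Q.Normal] (hQ : IsPGroup p Q) (g : G)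
    (hg : ∀ x : G, IsConj g x → x ∉ Subgroup.centralizer (Q : Set G)) :
    IsNilpotent (classSumAlg (ZMod p) g) := by
  obtain ⟨n, hn⟩ := fixSeries_eq_top (p := p) hQ
  refine ⟨n, ?_⟩
  have key : ∀ k (v : MonoidAlgebra (ZMod p) G), v ∈ fixSeries Q k →
      classSumAlg (ZMod p) g ^ k * v = 0 := by
    intro k
    induction k with
    | zero => intro v hv; simpa [fixSeries] using hv
    | succ k ih =>
      intro v hv
      rw [pow_succ, mul_assoc]
      exact ih _ (classSum_mul_mem hQ g hg k hv)
  simpa using key n 1 (by rw [hn]; trivial)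

theorem classSum_isNilpotent [Q.Normal] (hQ : IsPGroup p Q) (g : G)
    (hg : ∀ x : G, IsConj g x → x ∉ Subgroup.centralizer (Q : Set G))
    (F : Type*) [CommSemiring F] [Nontrivial F] [Algebra (ZMod p) F] :
    IsNilpotent (classSumAlg F g) := by
  have := (classSumAlg_nilpotent hQ g hg).map
    (MonoidAlgebra.mapRingHom G (algebraMap (ZMod p) F))
  have heq : MonoidAlgebra.mapRingHom G (algebraMap (ZMod p) F) (classSumAlg (ZMod p) g) =
      classSumAlg F g := by
    simp [classSumAlg, map_sum]
  rwa [heq] at this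

end

end Cfsg.Agent.H35
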