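import Cfsg.Agent.BlockBasic.Basic
import Mathlib.GroupTheory.PGroup
import Mathlib.GroupTheory.Sylow

/-!
# The min-max theorem for block idempotents and central characters
-/

set_option autoImplicit false

open scoped ComplexConjugate
open MonoidAlgebra

namespace Cfsg.Agent.H35

open CharBasic BlockBasic

universe u

variable {p : ℕ} {M : Ideal AlgInt}

/-- An invariant local-integer valued sum is congruent to the sum over the fixed points. -/
theorem sum_sub_fixed_mem [Fact p.Prime] (hM : IsPModular p M) {Q X : Type*} [Group Q] [Fintype X]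
    [MulAction Q X] (hQ : IsPGroup p Q) (F : X → ℂ) (hF : ∀ x, MemLocalRing M (F x))
    (hinv : ∀ (q : Q) (x : X), F (q • x) = F x)
    [DecidablePred fun x : X => x ∈ MulAction.fixedPoints Q X] :
    MemLocalIdeal M (∑ x : X, F x - ∑ x with x ∈ MulAction.fixedPoints Q X, F x) := by
  classical
  rw [← Finset.sum_filter_add_sum_filter_not Finset.univ
    (fun x : X => x ∈ MulAction.fixedPoints Q X) F, add_sub_cancel_left]
  let Ω := Quotient (MulAction.orbitRel Q X)
  rw [← Finset.sum_fiberwise _ (fun x : X => (Quotient.mk'' x : Ω)) F]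
  refine memLocalIdeal_sum hM _ _ fun o _ => ?_
  set T := (Finset.univ.filter fun x : X => ¬ x ∈ MulAction.fixedPoints Q X).filter
    (fun x => (Quotient.mk'' x : Ω) = o)
  rcases T.eq_empty_or_nonempty with hT | ⟨x₀, hx₀⟩
  · rw [hT, Finset.sum_empty]; exact memLocalIdeal_zero hM
  obtain ⟨hx₀f, hx₀o⟩ : ¬ x₀ ∈ MulAction.fixedPoints Q X ∧ (Quotient.mk'' x₀ : Ω) = o := by
    simpa [T] using hx₀
  have horb : ∀ x, (Quotient.mk'' x : Ω) = o ↔ x ∈ MulAction.orbit Q x₀ := by
    intro x
    rw [← hx₀o, Quotient.eq'', MulAction.orbitRel_apply]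
  have hmem : ∀ x, x ∈ T ↔ x ∈ MulAction.orbit Q x₀ := by
    intro x
    simp only [T, Finset.mem_filter, Finset.mem_univ, true_and, horb]
    refine ⟨fun h => h.2, fun h => ⟨fun hf => hx₀f ?_, h⟩⟩
    have hself : x₀ ∈ MulAction.orbit Q x := MulAction.mem_orbit_symm.mp h
    obtain ⟨q, hq⟩ := hself
    have : x₀ = x := by rw [← hq]; exact hf q
    rwa [this]
  have hconst : ∀ x ∈ T, F x = F x₀ := by
    intro x hx
    obtain ⟨q, rfl⟩ := (hmem x).mp hx
    exact hinv q x₀
  rw [Finset.sum_congr rfl hconst, Finset.sum_const, nsmul_eq_mul]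
  rw [mul_comm]
  refine memLocalIdeal_mul hM (hF x₀) ((memLocalIdeal_natCast_iff hM _).mpr ?_)
  obtain ⟨k, hk⟩ := hQ.card_orbit x₀
  have hcard : T.card = p ^ k := by
    rw [← hk, ← Nat.card_eq_finsetCard]
    exact Nat.card_congr (Equiv.subtypeEquivRight hmem)
  rw [hcard]
  rcases k with _ | k
  · exfalso
    apply hx₀f
    intro q
    rw [pow_zero] at hk
    have := (Nat.card_eq_one_iff_unique.mp hk).1
    exact congrArg Subtype.val (Subsingleton.elim
      (⟨q • x₀, MulAction.mem_orbit _ _⟩ : MulAction.orbit Q x₀)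
      ⟨x₀, MulAction.mem_orbit_self _⟩)
  · exact dvd_pow_self p k.succ_ne_zero

variable {G : Type u} [Group G]

/-- Expanding a product of shifts of a central element. -/
theorem exists_prod_shift [Fintype G] (hM : IsPModular p M) {K : MonoidAlgebra ℂ G}
    (hK : IsCentralElt K) (hKi : IsIntElt M K) {ι : Type*} (c : ι → ℂ)
    (hc : ∀ i, MemLocalRing M (c i)) (s : Finset ι) :
    ∃ W : MonoidAlgebra ℂ G, IsCentralElt W ∧ IsIntElt M W ∧
      ∀ χ : IrrCharacter G, ∏ i ∈ s, (omega (χ : G → ℂ) K - c i) =
        omega (χ : G → ℂ) K * omega (χ : G → ℂ) W + ∏ i ∈ s, (- c i) := by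
  classical
  induction s using Finset.induction with
  | empty =>
    refine ⟨0, fun g h => by simp, fun g => by simp only [coeff_zero, Finsupp.coe_zero, Pi.zero_apply]; exact (locRing hM).zero_mem, fun χ => ?_⟩
    simp [omega, chiLin]
  | insert a s ha ih =>
    obtain ⟨W, hW, hWi, h⟩ := ih
    set r : ℂ := ∏ i ∈ s, (- c i)
    have hr : MemLocalRing M r :=
      Subring.prod_mem (locRing hM) fun i _ => (locRing hM).neg_mem (hc i)
    refine ⟨K * W - c a • W + r • 1, ((hK.mul hW).sub (hW.smul _)).add (IsCentralElt.one.smul _),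
      ((hKi.mul hM hWi).sub hM (hWi.smul hM (hc a))).add hM ((isIntElt_one hM).smul hM hr),
      fun χ => ?_⟩
    rw [Finset.prod_insert ha, Finset.prod_insert ha, h χ, omega_add, omega_sub, omega_mul χ.2 hK,
      omega_smul, omega_smul, omega_one χ.2]
    ring

/-- A block idempotent is an integral multiple of every class sum on which the central character
of the block is a unit. -/
theorem blockElem_eq_classSum_mul [Fintype G] (hM : IsPModular p M) {B : Set (IrrCharacter G)}
    (hB : IsPBlock M B) (g : G) {χ₀ : IrrCharacter G} (hχ₀ : χ₀ ∈ B)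
    (hg : ¬ MemLocalIdeal M (centralChar (χ₀ : G → ℂ) g)) :
    ∃ W : MonoidAlgebra ℂ G, IsCentralElt W ∧ IsIntElt M W ∧
      blockElem B = classSum g * W := by
  classical
  set K := classSum g
  set c : IrrCharacter G → ℂ := fun ψ => centralChar (ψ : G → ℂ) g
  set s : Finset (IrrCharacter G) := Finset.univ.filter (fun ψ => ψ ∈ B)
  obtain ⟨W, hW, hWi, hWe⟩ := exists_prod_shift hM (isCentralElt_classSum g)
    (isIntElt_classSum hM g) c (fun ψ => memLocalRing_centralChar hM ψ.2 g) s
  set r : ℂ := ∏ i ∈ s, (- c i)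
  have hr : MemLocalRing M r := Subring.prod_mem (locRing hM) fun i _ =>
    (locRing hM).neg_mem (memLocalRing_centralChar hM i.2 g)
  have hru : ¬ MemLocalIdeal M r := by
    have key : ∀ t : Finset (IrrCharacter G), t ⊆ s → ¬ MemLocalIdeal M (∏ i ∈ t, (- c i)) := by
      intro t
      induction t using Finset.induction with
      | empty => intro _; simpa using not_memLocalIdeal_one hM
      | insert a t ha ih =>
        intro hsub
        rw [Finset.prod_insert ha, memLocalIdeal_mul_iff hM
          ((locRing hM).neg_mem (memLocalRing_centralChar hM a.2 g))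
          (Subring.prod_mem (locRing hM) fun i _ =>
            (locRing hM).neg_mem (memLocalRing_centralChar hM i.2 g))]
        rintro (h | h)
        · have haB : a ∈ B := by simpa [s] using hsub (Finset.mem_insert_self a t)
          apply hg
          have h1 := isPBlock_sameBlock hM hB hχ₀ haB g
          have h2 := memLocalIdeal_add hM h1 (memLocalIdeal_neg h)
          simpa [c] using h2
        · exact ih (fun i hi => hsub (Finset.mem_insert_of_mem hi)) h
    exact key s subset_rfl
  refine ⟨(-r⁻¹) • (W * blockElem B), (hW.mul (isCentralElt_blockElem B)).smul _,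
    (hWi.mul hM (isIntElt_blockElem hM hB)).smul hM
      ((locRing hM).neg_mem (memLocalRing_inv hM hr hru)), ?_⟩
  refine eq_of_omega_eq (isCentralElt_blockElem B)
    ((isCentralElt_classSum g).mul ((hW.mul (isCentralElt_blockElem B)).smul _)) fun χ => ?_
  rw [omega_mul χ.2 (isCentralElt_classSum g), omega_smul, omega_mul χ.2 hW, omega_blockElem]
  split_ifs with hχ
  · have h0 : ∏ i ∈ s, (omega (χ : G → ℂ) K - c i) = 0 := by
      apply Finset.prod_eq_zero (show χ ∈ s by simpa [s] using hχ)
      simp [K, c, omega_classSum (IsIrr.isClassFunction χ.2)]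
    rw [hWe χ] at h0
    have hr0 : r ≠ 0 := fun e => hru (e ▸ memLocalIdeal_zero hM)
    rw [mul_one, ← mul_assoc, mul_comm _ (-r⁻¹), mul_assoc,
      show omega (χ : G → ℂ) K * omega (χ : G → ℂ) W = -r by linear_combination h0]
    field_simp
  · simp

/-- The core of the min-max theorem: a `p`-subgroup centralizing an element where the block
idempotent is a unit centralizes a conjugate of every element where the central character of the
block is a unit. -/
theorem exists_conj_mem_centralizer [Finite G] [Fact p.Prime] (hM : IsPModular p M)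
    {B : Set (IrrCharacter G)} (hB : IsPBlock M B) {g h : G} {χ₀ : IrrCharacter G} (hχ₀ : χ₀ ∈ B)
    (hg : ¬ MemLocalIdeal M (centralChar (χ₀ : G → ℂ) g))
    (hh : ¬ MemLocalIdeal M (blockCoeff B h)) (Q : Subgroup G) (hQ : IsPGroup p Q)
    (hQh : Q ≤ Subgroup.centralizer ({h} : Set G)) :
    ∃ x : G, IsConj g x ∧ x ∈ Subgroup.centralizer (Q : Set G) := by
  classical
  cases nonempty_fintype G
  obtain ⟨W, hW, hWi, he⟩ := blockElem_eq_classSum_mul hM hB g hχ₀ hg
  by_contra hne
  push Not at hne
  apply hh
  rw [← coeff_blockElem, he]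
  let _ : SMul Q {x : G // IsConj g x} := ⟨fun q x => ⟨(q : G) * x.1 * (q : G)⁻¹,
    x.2.trans (isConj_iff.mpr ⟨(q : G), rfl⟩)⟩⟩
  let _ : MulAction Q {x : G // IsConj g x} :=
    { one_smul := fun x => by
        apply Subtype.ext
        show ((1 : Q) : G) * x.1 * ((1 : Q) : G)⁻¹ = x.1
        simp
      mul_smul := fun a b x => by
        apply Subtype.ext
        show ((a * b : Q) : G) * x.1 * ((a * b : Q) : G)⁻¹ =
          (a : G) * ((b : G) * x.1 * (b : G)⁻¹) * (a : G)⁻¹
        push_cast
        group }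
  have hexp : (classSum g * W).coeff h = ∑ x : {x : G // IsConj g x}, W.coeff (x.1⁻¹ * h) := by
    have hcs : classSum g = ∑ x : {x : G // IsConj g x}, single x.1 (1 : ℂ) := by
      apply coeff_injective
      ext y
      simp only [classSum, coeff_ofFun, coeff_sum, coeff_single, Finsupp.finsetSum_apply]
      rw [← Finset.sum_subtype (Finset.univ.filter fun x : G => IsConj g x) (by simp)
        (fun x => (Finsupp.single x (1 : ℂ) : G →₀ ℂ) y)]
      simp [Finsupp.single_apply]
    rw [hcs, Finset.sum_mul, coeff_sum, Finsupp.finsetSum_apply]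
    exact Finset.sum_congr rfl fun x _ => by simp [coeff_single_mul_apply]
  rw [hexp]
  have hsum := sum_sub_fixed_mem (X := {x : G // IsConj g x}) hM hQ (fun x => W.coeff (x.1⁻¹ * h))
    (fun x => hWi _) (fun q x => by
      show W.coeff (((q : G) * x.1 * (q : G)⁻¹)⁻¹ * h) = _
      have hq : (q : G) * h = h * q := Subgroup.mem_centralizer_singleton_iff.mp (hQh q.2)
      have e : ((q : G) * x.1 * (q : G)⁻¹)⁻¹ * h = (q : G) * (x.1⁻¹ * h) * (q : G)⁻¹ := by
        have hq' : (q : G)⁻¹ * h = h * (q : G)⁻¹ := by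
          rw [inv_mul_eq_iff_eq_mul, ← mul_assoc, hq, mul_inv_cancel_right]
        simp only [mul_inv_rev, inv_inv, mul_assoc, hq']
      rw [e]
      exact hW _ _)
  have hfix : (Finset.univ.filter fun x : {x : G // IsConj g x} =>
      x ∈ MulAction.fixedPoints Q {x : G // IsConj g x}) = ∅ := by
    rw [Finset.filter_eq_empty_iff]
    intro x _ hx
    apply hne x.1 x.2
    rw [Subgroup.mem_centralizer_iff]
    intro q hq
    exact mul_inv_eq_iff_eq_mul.mp (congrArg Subtype.val (hx ⟨q, hq⟩))
  rw [hfix, Finset.sum_empty, sub_zero] at hsum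
  exact hsum

end Cfsg.Agent.H35
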