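import Cfsg.Agent.H35.Defect

/-!
# Consequences of the min-max theorem
-/

set_option autoImplicit false

open scoped ComplexConjugate
open MonoidAlgebra

namespace Cfsg.Agent.H35

open CharBasic BlockBasic

universe u

variable {p : ℕ} {M : Ideal AlgInt} {G : Type u} [Group G]

theorem index_centralizer_eq_of_isConj [Finite G] {g h : G} (e : IsConj g h) :
    (Subgroup.centralizer ({h} : Set G)).index = (Subgroup.centralizer ({g} : Set G)).index := by
  apply Nat.eq_of_mul_eq_mul_right (Nat.card_pos (α := Subgroup.centralizer ({g} : Set G)))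
  conv_lhs => rw [← card_centralizer_eq_of_isConj e, Subgroup.index_mul_card]
  rw [Subgroup.index_mul_card]

theorem centralChar_eq_of_isConj [Finite G] (χ : IrrCharacter G) {g h : G} (e : IsConj g h) :
    centralChar (χ : G → ℂ) h = centralChar (χ : G → ℂ) g := by
  obtain ⟨c, hc⟩ := isConj_iff.mp e
  rw [centralChar, centralChar, index_centralizer_eq_of_isConj e, ← hc,
    IsIrr.isClassFunction χ.2 g c]

theorem blockCoeff_eq_of_isConj [Finite G] (B : Set (IrrCharacter G)) {g h : G} (e : IsConj g h) :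
    blockCoeff B h = blockCoeff B g := by
  obtain ⟨c, rfl⟩ := isConj_iff.mp e
  exact isClassFunction_blockCoeff B g c

theorem isDefectClass_of_isConj [Finite G] {B : Set (IrrCharacter G)} {g h : G}
    (hg : IsDefectClass M B g) (e : IsConj g h) : IsDefectClass M B h := by
  obtain ⟨h1, h2, h3⟩ := hg
  exact ⟨(blockCoeff_eq_of_isConj B e).symm ▸ h1, (blockCoeff_eq_of_isConj B e).symm ▸ h2,
    fun χ hχ => (centralChar_eq_of_isConj χ e).symm ▸ h3 χ hχ⟩

/-- Conjugates of defect groups are defect groups. -/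
theorem isDefectGroup_conj [Finite G] [Fact p.Prime] {B : Set (IrrCharacter G)} {D : Subgroup G}
    (hD : IsDefectGroup p M B D) (c : G) :
    IsDefectGroup p M B (D.map (MulAut.conj c).toMonoidHom) := by
  obtain ⟨g, hg, P, rfl⟩ := hD
  have e : IsConj g (c * g * c⁻¹) := isConj_iff.mpr ⟨c, rfl⟩
  refine ⟨c * g * c⁻¹, isDefectClass_of_isConj hg e, ?_⟩
  set D := ((sylImage P).map (MulAut.conj c).toMonoidHom) with hDdef
  have hle : D ≤ Subgroup.centralizer ({c * g * c⁻¹} : Set G) := by
    rintro _ ⟨d, hd, rfl⟩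
    exact conj_mem_centralizer_singleton c (sylImage_le P hd)
  have hcard : Nat.card (D.subgroupOf (Subgroup.centralizer ({c * g * c⁻¹} : Set G))) =
      p ^ (Nat.card (Subgroup.centralizer ({c * g * c⁻¹} : Set G))).factorization p := by
    rw [Nat.card_congr (Subgroup.subgroupOfEquivOfLe hle).toEquiv, hDdef,
      Subgroup.card_map_of_injective (MulAut.conj c).injective, card_sylImage,
      card_centralizer_eq_of_isConj e]
  refine ⟨Sylow.ofCard _ hcard, ?_⟩
  rw [Sylow.coe_ofCard, Subgroup.map_subgroupOf_eq_of_le hle]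
  rfl

/-- Every defect group is contained in a conjugate of every other one. -/
theorem defectGroup_le_conj [Finite G] [Fact p.Prime] (hM : IsPModular p M)
    {B : Set (IrrCharacter G)} (hB : IsPBlock M B) {D E : Subgroup G}
    (hD : IsDefectGroup p M B D) (hE : IsDefectGroup p M B E) :
    ∃ c : G, E ≤ D.map (MulAut.conj c).toMonoidHom := by
  obtain ⟨g, hg, P, rfl⟩ := hD
  obtain ⟨h, hh, Q, rfl⟩ := hE
  obtain ⟨χ, hχ⟩ := isPBlock_nonempty hM hB
  exact exists_sylImage_le hM hB hχ (hg.2.2 χ hχ) hh.2.1 Q P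

/-- Roots of unity of `p`-power order are congruent to one. -/
theorem sub_one_mem_of_pow_eq_one [Fact p.Prime] (hM : IsPModular p M) {z : ℂ}
    (hz : MemLocalRing M z) {k : ℕ} (h : z ^ (p ^ k) = 1) : MemLocalIdeal M (z - 1) := by
  haveI := locMax_isMaximal hM
  let a : locRing hM := ⟨z, hz⟩
  have hchar : CharP (locRing hM ⧸ locMax hM) p :=
    (CharP.charP_iff_prime_eq_zero (Fact.out : p.Prime)).mpr (by
      rw [← map_natCast (Ideal.Quotient.mk (locMax hM)), Ideal.Quotient.eq_zero_iff_mem]
      exact natCast_p_mem_locMax hM)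
  have ha : a ^ (p ^ k) = 1 := Subtype.ext (by simpa [a] using h)
  have h1 : (Ideal.Quotient.mk (locMax hM) a - 1) ^ (p ^ k) = 0 := by
    rw [sub_pow_char_pow, one_pow, ← map_pow, ha, map_one, sub_self]
  have h2 := eq_zero_of_pow_eq_zero h1
  rw [← map_one (Ideal.Quotient.mk (locMax hM)), ← map_sub, Ideal.Quotient.eq_zero_iff_mem,
    mem_locMax] at h2
  simpa [a] using h2

/-- Multiplying by a commuting `p`-element does not change a character modulo `M`. -/
theorem char_mul_congr [Finite G] [Fact p.Prime] (hM : IsPModular p M) {χ : G → ℂ}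
    (hχ : IsCharacter G χ) {x y : G} (hxy : Commute x y) (hx : ∃ k, orderOf x = p ^ k)
    (hy : ¬ p ∣ orderOf y) : MemLocalIdeal M (χ (x * y) - χ y) := by
  classical
  obtain ⟨n, ρ, rfl⟩ := hχ
  obtain ⟨k, hk⟩ := hx
  have hco : Nat.Coprime (orderOf x) (orderOf y) := by
    rw [hk]
    exact ((Nat.Prime.coprime_iff_not_dvd (Fact.out : p.Prime)).mpr hy).pow_left _
  obtain ⟨d, hd⟩ : ∃ d : ℕ, (x * y) ^ d = y ∧ True := by
    obtain ⟨d, hd1, hd2⟩ := Nat.chineseRemainder hco 0 1
    refine ⟨d, ?_, trivial⟩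
    rw [hxy.mul_pow]
    have e1 : x ^ d = 1 := by
      rw [← pow_zero x]
      exact pow_eq_pow_iff_modEq.mpr hd1
    have e2 : y ^ d = y := by
      conv_rhs => rw [← pow_one y]
      exact pow_eq_pow_iff_modEq.mpr hd2
    rw [e1, e2, one_mul]
  obtain ⟨b, μ, hμb, hμo, hμs⟩ := exists_eigenbasis_rep ρ (x * y)
  have hpow : ∀ m : ℕ, ∀ i, ρ ((x * y) ^ m) (b i) = μ i ^ m • b i := by
    intro m
    induction m with
    | zero => intro i; simp
    | succ m ih =>
      intro i
      rw [pow_succ, map_mul, Module.End.mul_apply, hμb i, map_smul, ih, smul_smul, pow_succ']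
  have h1 : ρ.character (x * y) = ∑ i, μ i := hμs
  have h2 : ρ.character y = ∑ i, μ i ^ d := by
    rw [← hd.1]
    exact trace_eq_sum_of_eigenbasis (f := ρ ((x * y) ^ d)) b _ (hpow d)
  rw [h1, h2, ← Finset.sum_sub_distrib]
  refine memLocalIdeal_sum hM _ _ fun i _ => ?_
  have hord : μ i ^ orderOf (x * y) = 1 := hμo i
  have hint : IsIntegral ℤ (μ i) := by
    refine ⟨Polynomial.X ^ orderOf (x * y) - Polynomial.C 1,
      Polynomial.monic_X_pow_sub_C 1 (orderOf_pos _).ne', ?_⟩
    simp [hord]
  have hloc := memLocalRing_of_isIntegral hM hint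
  have hd0 : ∃ e : ℕ, μ i = μ i ^ d * μ i ^ e ∧ (μ i ^ e) ^ (p ^ k) = 1 := by
    obtain ⟨e, he1, he2⟩ := Nat.chineseRemainder hco 1 0
    have hxpow : (x * y) ^ e = x := by
      rw [hxy.mul_pow]
      have e1 : x ^ e = x := by
        conv_rhs => rw [← pow_one x]
        exact pow_eq_pow_iff_modEq.mpr he1
      have e2 : y ^ e = 1 := by
        rw [← pow_zero y]
        exact pow_eq_pow_iff_modEq.mpr he2
      rw [e1, e2, mul_one]
    have hb0 : b i ≠ 0 := b.ne_zero i
    refine ⟨e, ?_, ?_⟩
    · have h := hpow (d + e) i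
      rw [pow_add (x * y), hd.1, hxpow, ← hxy.eq, hμb i, pow_add] at h
      exact smul_left_injective ℂ hb0 h
    · have h := hpow (e * p ^ k) i
      rw [pow_mul, hxpow, ← hk, pow_orderOf_eq_one, map_one] at h
      rw [← hk, ← pow_mul]
      exact smul_left_injective ℂ hb0 (h.symm.trans (one_smul ℂ (b i)).symm)
  obtain ⟨e, he, hroot⟩ := hd0
  have e1 : μ i - μ i ^ d = μ i ^ d * (μ i ^ e - 1) := by rw [mul_sub, mul_one, ← he]
  rw [e1]
  exact memLocalIdeal_mul hM (pow_mem (mem_locRing (hM := hM).2 hloc) d)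
    (sub_one_mem_of_pow_eq_one hM (pow_mem (mem_locRing (hM := hM).2 hloc) e) hroot)

/-- A character vanishes at `g` when the `p`-part of `g` lies in no defect group of its block. -/
theorem apply_eq_zero_of_no_defectGroup [Finite G] [Fact p.Prime] (hM : IsPModular p M)
    (χ : IrrCharacter G) (g : G)
    (hD : ∀ D : Subgroup G, IsDefectGroup p M (blockOf M (χ : G → ℂ)) D →
      pPart (p := p) g ∉ D) : (χ : G → ℂ) g = 0 := by
  classical
  cases nonempty_fintype G
  set B := blockOf M (χ : G → ℂ)
  have hB : IsPBlock M B := isPBlock_blockOf M χ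
  have hχ : χ ∈ B := self_mem_blockOf hM χ
  set x := pPart (p := p) g
  set s := pReg (p := p) g
  obtain ⟨a, ha⟩ := exists_isDefectClass hM hB
  obtain ⟨e, he⟩ := exists_orderOf_pPart (p := p) g
  obtain ⟨h1, h2, h3⟩ := necklace_hyps hM hB (commute_pPart_pReg g) (not_dvd_orderOf_pReg g)
  have hc : ∀ h, Commute x h → MemLocalIdeal M ((blockElem B * single s 1).coeff h) := by
    intro h hxh
    rw [coeff_mul_single_apply, mul_one, coeff_blockElem]
    by_contra hu
    have hle : Subgroup.zpowers x ≤ Subgroup.centralizer ({h * s⁻¹} : Set G) := by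
      rw [Subgroup.zpowers_le, Subgroup.mem_centralizer_singleton_iff]
      exact (hxh.mul_right (commute_pPart_pReg g).inv_right).eq
    have hQ : IsPGroup p (Subgroup.zpowers x) :=
      IsPGroup.of_card (n := e) (by rw [Nat.card_zpowers, he])
    obtain ⟨y, hay, hy⟩ := exists_conj_mem_centralizer hM hB hχ (ha.2.2 χ hχ) hu _ hQ hle
    obtain ⟨c, hc⟩ := exists_le_conj hay _ hQ hy default
    exact hD _ (isDefectGroup_conj ⟨a, ha, default, rfl⟩ c) (hc (Subgroup.mem_zpowers x))
  have hz := sum_coeff_eq_zero hM x he (blockElem B * single s 1) h1 h2 h3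
    (Finset.univ.filter (fun k => IsConj g k))
    (fun k c hk => by
      simp only [Finset.mem_filter, Finset.mem_univ, true_and] at hk ⊢
      exact hk.trans (isConj_iff.2 ⟨c, rfl⟩))
    (Or.inr hc)
  have hker : blockKernel B g g = 0 := by
    rw [← card_centralizer_mul_sum_blockElem]
    conv_lhs => arg 2; arg 2; ext k; rw [← pPart_mul_pReg (p := p) g, blockElem_mul_single_shift]
    rw [hz, mul_zero]
  rw [blockKernel, finsum_mem_eq_sum_ite] at hker
  have hpos : ∀ ψ : IrrCharacter G, (if ψ ∈ B then (ψ : G → ℂ) g * conj ((ψ : G → ℂ) g) else 0) =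
      ((if ψ ∈ B then Complex.normSq ((ψ : G → ℂ) g) else 0 : ℝ) : ℂ) := by
    intro ψ
    split_ifs
    · rw [Complex.mul_conj]
    · simp
  simp only [hpos, ← Complex.ofReal_sum, Complex.ofReal_eq_zero] at hker
  rw [Finset.sum_eq_zero_iff_of_nonneg (fun ψ _ => by
    split_ifs
    · exact Complex.normSq_nonneg _
    · exact le_rfl)] at hker
  have := hker χ (Finset.mem_univ _)
  rw [if_pos hχ, Complex.normSq_eq_zero] at this
  exact this

/-- The unit values at the products of a defect class with elements of its defect group. -/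
theorem unit_value_mul [Finite G] [Fact p.Prime] (hM : IsPModular p M)
    {B : Set (IrrCharacter G)} (hB : IsPBlock M B) {y : G} (hy : IsDefectClass M B y)
    {x : G} (hx : ∃ k, orderOf x = p ^ k) (hxy : Commute x y) {χ : IrrCharacter G} (hχ : χ ∈ B)
    (h0 : blockHeight p B (χ : G → ℂ) = 0) : ¬ MemLocalIdeal M ((χ : G → ℂ) (x * y)) := by
  intro hmem
  apply unit_value_of_height_zero hM hB hy hχ h0
  have hc := char_mul_congr hM (IsIrr.isCharacter χ.2) hxy hx
    (not_dvd_orderOf_of_isDefectClass hM hB hy)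
  simpa using memLocalIdeal_sub hM hmem hc

/-- Every block has a character of height zero. -/
theorem exists_height_zero [Finite G] (hM : IsPModular p M) {B : Set (IrrCharacter G)}
    (hB : IsPBlock M B) : ∃ χ ∈ B, blockHeight p B (χ : G → ℂ) = 0 := by
  obtain ⟨χ₀, hχ₀⟩ := isPBlock_nonempty hM hB
  obtain ⟨χ, hχ, he⟩ := Nat.sInf_mem
    (s := (fun χ : IrrCharacter G => (charDegree (χ : G → ℂ)).factorization p) '' B)
    ⟨_, χ₀, hχ₀, rfl⟩
  refine ⟨χ, hχ, ?_⟩
  rw [blockHeight, ← he, Nat.sub_self]

/-- Central characters are units at products of a defect class with central elements of the defect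
group, and these products have centralizers with the same `p`-part. -/
theorem centralChar_unit_mul [Finite G] [Fact p.Prime] (hM : IsPModular p M)
    {B : Set (IrrCharacter G)} (hB : IsPBlock M B) {y : G} (hy : IsDefectClass M B y)
    (P : Sylow p (Subgroup.centralizer ({y} : Set G))) {x : G} (hx : x ∈ sylImage P)
    (hxc : ∀ w ∈ sylImage P, x * w = w * x) {χ : IrrCharacter G} (hχ : χ ∈ B) :
    ¬ MemLocalIdeal M (centralChar (χ : G → ℂ) (x * y)) := by
  cases nonempty_fintype G
  have hxy : Commute x y := Subgroup.mem_centralizer_singleton_iff.mp (sylImage_le P hx)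
  have hxp : ∃ k, orderOf x = p ^ k := by
    obtain ⟨k, hk⟩ := IsPGroup.iff_orderOf.mp (sylImage_isPGroup P) ⟨x, hx⟩
    exact ⟨k, by rw [← hk, ← Subgroup.orderOf_coe]⟩
  obtain ⟨ψ, hψ, h0⟩ := exists_height_zero (p := p) hM hB
  suffices hψu : ¬ MemLocalIdeal M (centralChar (ψ : G → ℂ) (x * y)) by
    intro h
    apply hψu
    have := isPBlock_sameBlock hM hB hψ hχ (x * y)
    simpa using memLocalIdeal_add hM this h
  have hval := unit_value_mul hM hB hy hxp hxy hψ h0
  set i := (Subgroup.centralizer ({x * y} : Set G)).index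
  set j := (Subgroup.centralizer ({y} : Set G)).index
  set C := Subgroup.centralizer ({x * y} : Set G)
  -- the centralizer of `x * y` still contains the defect group
  have hle : sylImage P ≤ C := by
    intro w hw
    rw [Subgroup.mem_centralizer_singleton_iff]
    exact ((show Commute w x from (hxc w hw).symm).mul_right
      (Subgroup.mem_centralizer_singleton_iff.mp (sylImage_le P hw))).eq
  have hfac : i.factorization p ≤ j.factorization p := by
    have h1 := factorization_index_add (p := p) (x * y)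
    have h2 := factorization_index_add (p := p) y
    have h3 := Subgroup.card_dvd_of_le hle
    rw [card_sylImage, Nat.Prime.pow_dvd_iff_le_factorization Fact.out Nat.card_pos.ne'] at h3
    change i.factorization p + (Nat.card C).factorization p = _ at h1
    change j.factorization p + _ = _ at h2
    omega
  intro hmem
  apply hval
  set d := charDegree (ψ : G → ℂ) with hd
  have hdj : d.factorization p = j.factorization p := by
    have h1 := index_le_degree hM ψ (hy.2.2 ψ hψ)
    rw [blockHeight, sInf_degree_eq hM hB hy] at h0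
    exact le_antisymm (Nat.sub_eq_zero_iff_le.mp h0) h1
  have hd0 : (d : ℂ) ≠ 0 := by exact_mod_cast (charDegree_pos ψ).ne'
  have hi0 : (i : ℂ) ≠ 0 := by exact_mod_cast Subgroup.index_ne_zero_of_finite (H := C)
  have e1 : (ψ : G → ℂ) (x * y) = ((d : ℂ) / (i : ℂ)) * centralChar (ψ : G → ℂ) (x * y) := by
    rw [centralChar, apply_one_eq_charDegree ψ, ← hd]
    field_simp
    ring
  rw [e1]
  refine memLocalIdeal_mul hM ?_ hmem
  have hp : p.Prime := Fact.out
  obtain ⟨a, m, hm, hdm⟩ := Nat.exists_eq_pow_mul_and_not_dvd (charDegree_pos ψ).ne' p hp.ne_one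
  obtain ⟨b, k, hk, hik⟩ := Nat.exists_eq_pow_mul_and_not_dvd
    (Subgroup.index_ne_zero_of_finite (H := C)) p hp.ne_one
  have hfa : ∀ a m : ℕ, ¬ p ∣ m → (p ^ a * m).factorization p = a := by
    intro a m hm
    rw [Nat.factorization_mul (pow_ne_zero _ hp.ne_zero) (fun h => hm (by rw [h]; exact dvd_zero p)),
      Nat.Prime.factorization_pow hp]
    simp [Nat.factorization_eq_zero_of_not_dvd hm]
  rw [← hd] at hdm
  change i = _ at hik
  obtain ⟨c, rfl⟩ : ∃ c, a = b + c := by
    refine ⟨a - b, ?_⟩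
    rw [hdm, hfa a m hm] at hdj
    rw [hik, hfa b k hk] at hfac
    omega
  rw [hdm, hik]
  push_cast
  have hp0 : (p : ℂ) ^ b ≠ 0 := pow_ne_zero _ (by exact_mod_cast hp.ne_zero)
  rw [pow_add, mul_assoc, mul_div_mul_left _ _ hp0, div_eq_mul_inv]
  exact memLocalRing_mul hM (memLocalRing_mul hM (pow_mem (mem_locRing (hM := hM).2
    (memLocalRing_natCast hM p)) c) (memLocalRing_natCast hM m)) (memLocalRing_natCast_inv hM hk)

/-- A `p`-subgroup lies in a defect group as soon as the central character is nonzero on an element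
it centralizes and the idempotent is a unit there. -/
theorem exists_defectGroup_ge [Finite G] [Fact p.Prime] (hM : IsPModular p M)
    {B : Set (IrrCharacter G)} (hB : IsPBlock M B) {h : G}
    (hh : ¬ MemLocalIdeal M (blockCoeff B h)) (Q : Subgroup G) (hQ : IsPGroup p Q)
    (hQh : Q ≤ Subgroup.centralizer ({h} : Set G)) :
    ∃ D : Subgroup G, IsDefectGroup p M B D ∧ Q ≤ D := by
  obtain ⟨a, ha⟩ := exists_isDefectClass hM hB
  obtain ⟨χ, hχ⟩ := isPBlock_nonempty hM hB
  obtain ⟨y, hay, hy⟩ := exists_conj_mem_centralizer hM hB hχ (ha.2.2 χ hχ) hh Q hQ hQh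
  obtain ⟨c, hc⟩ := exists_le_conj hay Q hQ hy default
  exact ⟨_, isDefectGroup_conj ⟨a, ha, default, rfl⟩ c, hc⟩

end Cfsg.Agent.H35
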