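import Cfsg.Agent.H35.BrauerHom
import Cfsg.Agent.H35.Consequences
import Mathlib.GroupTheory.SpecificGroups.Cyclic

/-!
# Block induction, defect groups of induced blocks, and `p`-parts at nonzero central characters
-/

set_option autoImplicit false

open scoped ComplexConjugate
open MonoidAlgebra

namespace Cfsg.Agent.H35

open CharBasic BlockBasic

universe u

variable {p : ℕ} {M : Ideal AlgInt} {G : Type u} [Group G]

theorem mem_centralizer_bot (x : G) : x ∈ Subgroup.centralizer ((⊥ : Subgroup G) : Set G) := by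
  rw [Subgroup.mem_centralizer_iff]
  intro y hy
  rw [SetLike.mem_coe, Subgroup.mem_bot] at hy
  simp [hy]

theorem omega_trunc_classSum [Finite G] [Fintype G] (P H : Subgroup G) [Fintype H] (ξ : H → ℂ)
    (g : G) : omega ξ (trunc P H (classSum g)) = brauerCentralChar P H ξ g := by
  classical
  rw [omega, chiLin, brauerCentralChar, Finset.sum_div, finsum_mem_def, finsum_eq_sum_of_fintype]
  refine Finset.sum_congr rfl fun h _ => ?_
  rw [Set.indicator_apply]
  by_cases hh : (h : G) ∈ Subgroup.centralizer (P : Set G)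
  · rw [coeff_trunc_of_mem P H _ hh, classSum, coeff_ofFun]
    by_cases hc : IsConj g (h : G)
    · rw [if_pos hc, one_mul, if_pos (show h ∈ {h : H | IsConj g (h : G) ∧
        (h : G) ∈ Subgroup.centralizer (P : Set G)} from ⟨hc, hh⟩)]
    · rw [if_neg hc, zero_mul, zero_div, if_neg (fun hm => hc hm.1)]
  · rw [coeff_trunc_of_not_mem P H _ hh, zero_mul, zero_div, if_neg (fun hm => hh hm.2)]

theorem inducedCentralChar_eq_brauer (H : Subgroup G) (ξ : H → ℂ) (g : G) :
    inducedCentralChar H ξ g = brauerCentralChar ⊥ H ξ g := by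
  rw [inducedCentralChar, brauerCentralChar]
  exact finsum_mem_congr (Set.ext fun h =>
    ⟨fun hc => ⟨hc, mem_centralizer_bot _⟩, fun hc => hc.1⟩) fun _ _ => rfl

theorem le_normalizer_bot (H : Subgroup G) :
    H ≤ Subgroup.normalizer (((⊥ : Subgroup G)) : Set G) := by
  intro x _
  rw [Subgroup.mem_normalizer_iff]
  intro y
  simp

/-- If `P` is normal in `H`, induced central characters may be computed by the Brauer map. -/
theorem induced_sub_brauer_mem [Finite G] [Fintype G] [Fact p.Prime] (hM : IsPModular p M)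
    {P H : Subgroup G} [Fintype H] (hP : IsPGroup p P) (hPH : P ≤ H)
    (hHN : H ≤ Subgroup.normalizer (P : Set G)) (ξ : IrrCharacter H) (g : G) :
    MemLocalIdeal M (inducedCentralChar H (ξ : H → ℂ) g - brauerCentralChar P H (ξ : H → ℂ) g) := by
  classical
  haveI : Finite (ConjClasses H) := Finite.of_surjective _ ConjClasses.mk_surjective
  haveI : Fintype (ConjClasses H) := Fintype.ofFinite _
  haveI : (P.subgroupOf H).Normal := (Subgroup.normal_subgroupOf_iff_le_normalizer hPH).mpr hHN
  rw [inducedCentralChar_eq_brauer, ← omega_trunc_classSum, ← omega_trunc_classSum, ← omega_sub]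
  set u := trunc (⊥ : Subgroup G) H (classSum g) - trunc P H (classSum g)
  have hu : IsCentralElt u :=
    (isCentralElt_trunc (le_normalizer_bot H) (isCentralElt_classSum g)).sub
      (isCentralElt_trunc hHN (isCentralElt_classSum g))
  have hui : IsIntElt M u := (isIntElt_trunc hM ⊥ H (isIntElt_classSum hM g)).sub hM
    (isIntElt_trunc hM P H (isIntElt_classSum hM g))
  rw [omega_eq_sum_classes (IsIrr.isClassFunction ξ.2) hu]
  refine memLocalIdeal_sum hM _ _ fun C _ => ?_
  by_cases hC : ((C.out : H) : G) ∈ Subgroup.centralizer (P : Set G)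
  · have h0 : u.coeff C.out = 0 := by
      simp [u, coeff_trunc_of_mem P H _ hC, coeff_trunc_of_mem ⊥ H _ (mem_centralizer_bot _)]
    rw [h0, zero_mul]
    exact memLocalIdeal_zero hM
  · refine memLocalIdeal_mul hM (hui _) (centralChar_mem_of_no_centralizing hM (P.subgroupOf H)
      (hP.comap_of_injective H.subtype H.subtype_injective) (fun x hx hxc => hC ?_) ξ)
    obtain ⟨c, hc⟩ := isConj_iff.mp hx
    rw [Subgroup.mem_centralizer_iff]
    intro q hq
    have hq' : (c : G) * q * (c : G)⁻¹ ∈ P :=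
      (Subgroup.mem_normalizer_iff.mp (hHN c.2) q).mp hq
    have h2 := congrArg Subtype.val (Subgroup.mem_centralizer_iff.mp hxc
      ⟨(c : G) * q * (c : G)⁻¹, H.mul_mem (H.mul_mem c.2 (hPH hq)) (H.inv_mem c.2)⟩
      (Subgroup.mem_subgroupOf.mpr hq'))
    rw [← hc] at h2
    push_cast at h2
    apply mul_left_cancel (a := (c : G))
    apply mul_right_cancel (b := (c : G)⁻¹)
    calc (c : G) * (q * ((C.out : H) : G)) * (c : G)⁻¹
        = ((c : G) * q * (c : G)⁻¹) * ((c : G) * ((C.out : H) : G) * (c : G)⁻¹) := by group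
      _ = ((c : G) * ((C.out : H) : G) * (c : G)⁻¹) * ((c : G) * q * (c : G)⁻¹) := h2
      _ = _ := by group

/-- S0918. -/
theorem isInducedBlock_iff_brauer [Finite G] [Fact p.Prime] (hM : IsPModular p M)
    {P H : Subgroup G} (hP : IsPGroup p P) (hPH : P ≤ H)
    (hHN : H ≤ Subgroup.normalizer (P : Set G)) {b : Set (IrrCharacter H)} (hb : IsPBlock M b)
    {B : Set (IrrCharacter G)} (hB : IsPBlock M B) :
    IsInducedBlock M H b B ↔ ∀ ξ ∈ b, ∀ χ ∈ B, ∀ g : G,
      MemLocalIdeal M (brauerCentralChar P H (ξ : H → ℂ) g - centralChar (χ : G → ℂ) g) := by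
  cases nonempty_fintype G
  haveI := Fintype.ofFinite H
  constructor
  · intro h ξ hξ χ hχ g
    simpa using memLocalIdeal_sub hM (h.2.2 ξ hξ χ hχ g) (induced_sub_brauer_mem hM hP hPH hHN ξ g)
  · intro h
    refine ⟨hb, hB, fun ξ hξ χ hχ g => ?_⟩
    simpa using memLocalIdeal_add hM (induced_sub_brauer_mem hM hP hPH hHN ξ g) (h ξ hξ χ hχ g)

/-- S0919. -/
theorem inducedBlockDefined_of_normal [Finite G] [Fact p.Prime] (hM : IsPModular p M)
    {P H : Subgroup G} (hP : IsPGroup p P) (hPH : P ≤ H)
    (hCH : Subgroup.centralizer (P : Set G) ≤ H) (hHN : H ≤ Subgroup.normalizer (P : Set G))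
    {b : Set (IrrCharacter H)} (hb : IsPBlock M b) : InducedBlockDefined M H b := by
  cases nonempty_fintype G
  haveI := Fintype.ofFinite H
  obtain ⟨ξ₀, hξ₀⟩ := isPBlock_nonempty hM hb
  obtain ⟨χ₀, hχ₀⟩ := exists_irr_trunc hM hP hCH hHN ξ₀
  have hB : IsPBlock M (blockOf M (χ₀ : G → ℂ)) := isPBlock_blockOf M χ₀
  refine ⟨_, (isInducedBlock_iff_brauer hM hP hPH hHN hb hB).mpr fun ξ hξ χ hχ g => ?_⟩
  have h1 := omega_congr hM (IsIrr.isClassFunction ξ.2) (IsIrr.isClassFunction ξ₀.2)
    (isPBlock_sameBlock hM hb hξ hξ₀) (isCentralElt_trunc hHN (isCentralElt_classSum g))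
    (isIntElt_trunc hM P H (isIntElt_classSum hM g))
  have h2 := hχ₀ _ (isCentralElt_classSum g) (isIntElt_classSum hM g)
  rw [omega_classSum (IsIrr.isClassFunction χ₀.2)] at h2
  have h3 := isPBlock_sameBlock hM hB (self_mem_blockOf hM χ₀) hχ g
  rw [omega_trunc_classSum, omega_trunc_classSum] at h1
  rw [omega_trunc_classSum] at h2
  have := memLocalIdeal_add hM (memLocalIdeal_add hM h1 h2) h3
  simpa using this

/-- The `p`-part inside a subgroup. -/
theorem isPPart_coe_iff {H : Subgroup G} [Finite G] [Fact p.Prime] (h : H) :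
    pPart (p := p) (h : G) = ((pPart (p := p) h : H) : G) := by
  obtain ⟨y, hy, hc, ⟨k, hk⟩, hn⟩ := isPPart_pPart (p := p) h
  refine pPart_eq_of_isPPart ⟨(y : G), ?_, ?_, ⟨k, ?_⟩, ?_⟩
  · rw [← Subgroup.coe_mul, hy]
  · exact congrArg Subtype.val hc
  · rw [Subgroup.orderOf_coe]; exact hk
  · rw [Subgroup.orderOf_coe]; exact hn

/-- S0929: at a class with unit central character some element centralizes a given defect group and
has its `p`-part in the centre of that group. -/
theorem exists_conj_centralizing [Finite G] [Fact p.Prime] (hM : IsPModular p M)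
    {B : Set (IrrCharacter G)} (hB : IsPBlock M B) {P : Subgroup G}
    (hP : IsDefectGroup p M B P) {g : G} {χ : IrrCharacter G} (hχ : χ ∈ B)
    (hg : ¬ MemLocalIdeal M (centralChar (χ : G → ℂ) g)) :
    ∃ x : G, IsConj g x ∧ x ∈ Subgroup.centralizer (P : Set G) ∧
      ∀ z : G, IsPPart p x z → z ∈ P ∧ ∀ w ∈ P, z * w = w * z := by
  classical
  cases nonempty_fintype G
  obtain ⟨y, hy, S, hPS⟩ := id hP
  have hPp : IsPGroup p P := by rw [hPS]; exact sylImage_isPGroup S
  have hyC : y ∈ Subgroup.centralizer (P : Set G) := by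
    rw [Subgroup.mem_centralizer_iff]
    intro q hq
    rw [hPS] at hq
    exact Subgroup.mem_centralizer_singleton_iff.mp (sylImage_le S hq)
  set C := Subgroup.centralizer (P : Set G) with hC
  haveI := Fintype.ofFinite C
  have hCN : C ≤ Subgroup.normalizer (P : Set G) := Subgroup.centralizer_le_normalizer _
  set e := trunc P C (blockElem B) with he
  have hec : IsCentralElt e := isCentralElt_trunc hCN (isCentralElt_blockElem B)
  have hei : IsIntElt M e := isIntElt_trunc hM P C (isIntElt_blockElem hM hB)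
  have heid : ∀ c : C, MemLocalIdeal M ((e * e).coeff c - e.coeff c) := fun c => by
    have := trunc_mul (H := C) hM hPp le_rfl (isCentralElt_blockElem B) (isIntElt_blockElem hM hB)
      (isCentralElt_blockElem B) (isIntElt_blockElem hM hB) c
    rw [blockElem_idem] at this
    simpa [he] using memLocalIdeal_neg this
  obtain ⟨φ, hφ⟩ : ∃ φ : IrrCharacter C, ¬ MemLocalIdeal M (omega (φ : C → ℂ) e) := by
    by_contra h
    push Not at h
    apply hy.2.1
    have := coeff_mem_of_omega_mem hM hec hei heid h ⟨y, hyC⟩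
    rwa [he, coeff_trunc_of_mem P C _ hyC, coeff_blockElem] at this
  -- some element of the class meets `C` with a unit central character
  obtain ⟨W, hW, hWi, hWe⟩ := blockElem_eq_classSum_mul hM hB g hχ hg
  have hK : ¬ MemLocalIdeal M (omega (φ : C → ℂ) (trunc P C (classSum g))) := by
    intro h
    apply hφ
    have h1 := omega_trunc_mul (H := C) hM hPp le_rfl hCN φ (isCentralElt_classSum g)
      (isIntElt_classSum hM g) hW hWi
    rw [← hWe] at h1
    have h2 := memLocalIdeal_mul hM (memLocalRing_omega hM φ.2 (isCentralElt_trunc hCN hW)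
      (isIntElt_trunc hM P C hWi)) h
    simpa [he, mul_comm] using memLocalIdeal_add hM h1 h2
  haveI : Finite (ConjClasses C) := Finite.of_surjective _ ConjClasses.mk_surjective
  haveI : Fintype (ConjClasses C) := Fintype.ofFinite _
  rw [omega_eq_sum_classes (IsIrr.isClassFunction φ.2)
    (isCentralElt_trunc hCN (isCentralElt_classSum g))] at hK
  obtain ⟨c, hgc, hcu⟩ : ∃ c : C, IsConj g (c : G) ∧
      ¬ MemLocalIdeal M (centralChar (φ : C → ℂ) c) := by
    by_contra h
    push Not at h
    refine hK (memLocalIdeal_sum hM _ _ fun L _ => ?_)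
    by_cases hgc : IsConj g ((L.out : C) : G)
    · exact memLocalIdeal_mul hM (isIntElt_trunc hM P C (isIntElt_classSum hM g) _) (h _ hgc)
    · rw [coeff_trunc_of_mem P C _ L.out.2, classSum, coeff_ofFun, if_neg hgc, zero_mul]
      exact memLocalIdeal_zero hM
  refine ⟨(c : G), hgc, c.2, fun z hz => ?_⟩
  rw [isPPart_iff, isPPart_coe_iff] at hz
  -- the `p`-part lies in a defect group of the block of `φ`
  set f := blockOf M (φ : C → ℂ)
  have hf : IsPBlock M f := isPBlock_blockOf M φ
  have hφf : φ ∈ f := self_mem_blockOf hM φ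
  obtain ⟨E, hE, hzE⟩ : ∃ E : Subgroup C, IsDefectGroup p M f E ∧ pPart (p := p) c ∈ E := by
    by_contra h
    push Not at h
    apply hcu
    rw [centralChar, apply_eq_zero_of_no_defectGroup hM φ c h, mul_zero, zero_div]
    exact memLocalIdeal_zero hM
  obtain ⟨h', hh', T, hET⟩ := hE
  have hEp : IsPGroup p E := by rw [hET]; exact sylImage_isPGroup T
  have hEc : E ≤ Subgroup.centralizer ({h'} : Set C) := by rw [hET]; exact sylImage_le T
  set ef := blockElem f
  have hefc : IsCentralElt ef := isCentralElt_blockElem f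
  have hefi : IsIntElt M ef := isIntElt_blockElem hM hf
  have hu : ¬ MemLocalIdeal M ((e * ef).coeff h') := by
    intro hmem
    apply hh'.2.1
    set w := ef - e * ef
    have hwc : IsCentralElt w := hefc.sub (hec.mul hefc)
    have hwi : IsIntElt M w := hefi.sub hM (hei.mul hM hefi)
    have hwid : ∀ x : C, MemLocalIdeal M ((w * w).coeff x - w.coeff x) := by
      intro x
      have h1 := mul_coeff_congr hM hefi heid x
      have e1 : w * w = w + (e * e * ef - e * ef) := by
        have hcomm : ef * e = e * ef := isCentralElt_comm hefc e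
        have hid : ef * ef = ef := blockElem_idem f
        simp only [w, sub_mul, mul_sub]
        rw [← mul_assoc ef e ef, hcomm, mul_assoc e ef ef, hid,
          show e * ef * (e * ef) = e * e * ef by
            rw [mul_assoc e ef (e * ef), ← mul_assoc ef e ef, hcomm, mul_assoc e ef ef, hid,
              ← mul_assoc]]
        abel
      rw [e1]
      simpa using h1
    have hw0 : ∀ ψ : IrrCharacter C, MemLocalIdeal M (omega (ψ : C → ℂ) w) := by
      intro ψ
      simp only [w, omega_sub, omega_mul ψ.2 hec]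
      simp only [ef, omega_blockElem]
      split_ifs with hψ
      · rw [mul_one]
        have hiso : MemLocalIdeal M (omega (ψ : C → ℂ) e * (omega (ψ : C → ℂ) e - 1)) := by
          have h1 := omega_congr_coeff hM ψ (hec.mul hec) hec heid
          rw [omega_mul ψ.2 hec] at h1
          rw [mul_sub, mul_one]
          exact h1
        rw [memLocalIdeal_mul_iff hM (memLocalRing_omega hM ψ.2 hec hei)
          ((locRing hM).sub_mem (memLocalRing_omega hM ψ.2 hec hei) (locRing hM).one_mem)] at hiso
        rcases hiso with h1 | h1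
        · exfalso
          apply hφ
          have := omega_congr hM (IsIrr.isClassFunction φ.2) (IsIrr.isClassFunction ψ.2) hψ hec hei
          simpa using memLocalIdeal_add hM this h1
        · simpa using memLocalIdeal_neg h1
      · simpa using memLocalIdeal_zero hM
    have := memLocalIdeal_add hM (coeff_mem_of_omega_mem hM hwc hwi hwid hw0 h') hmem
    rw [← coeff_blockElem]
    simpa [w, ef] using this
  obtain ⟨u, huB, huE⟩ : ∃ u : C, ¬ MemLocalIdeal M (blockCoeff B (u : G)) ∧
      u ∈ Subgroup.centralizer (E : Set C) := by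
    by_contra hno
    push Not at hno
    apply hu
    rw [coeff_mul_sum]
    let _ : SMul E C := ⟨fun q x => (q : C) * x * (q : C)⁻¹⟩
    let _ : MulAction E C :=
      { one_smul := fun x => by show ((1 : E) : C) * x * ((1 : E) : C)⁻¹ = x; simp
        mul_smul := fun a b x => by
          show ((a * b : E) : C) * x * ((a * b : E) : C)⁻¹ =
            (a : C) * ((b : C) * x * (b : C)⁻¹) * (a : C)⁻¹
          push_cast
          group }
    have hsum := sum_sub_fixed_mem (X := C) hM hEp (fun x => e.coeff x * ef.coeff (x⁻¹ * h'))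
      (fun x => memLocalRing_mul hM (hei x) (hefi _))
      (fun q x => by
        show e.coeff ((q : C) * x * (q : C)⁻¹) *
          ef.coeff (((q : C) * x * (q : C)⁻¹)⁻¹ * h') = _
        have hq : (q : C) * h' = h' * q := Subgroup.mem_centralizer_singleton_iff.mp (hEc q.2)
        have hq' : (q : C)⁻¹ * h' = h' * (q : C)⁻¹ := by
          rw [inv_mul_eq_iff_eq_mul, ← mul_assoc, hq, mul_inv_cancel_right]
        have e2 : ((q : C) * x * (q : C)⁻¹)⁻¹ * h' = (q : C) * (x⁻¹ * h') * (q : C)⁻¹ := by
          simp only [mul_inv_rev, inv_inv, mul_assoc, hq']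
        rw [e2]
        exact congrArg₂ (· * ·) (hec x q) (hefc _ q))
    have hfix : MemLocalIdeal M (∑ x : C with x ∈ MulAction.fixedPoints E C,
        e.coeff x * ef.coeff (x⁻¹ * h')) := by
      refine memLocalIdeal_sum hM _ _ fun x hx => ?_
      rw [mul_comm]
      refine memLocalIdeal_mul hM (hefi _) ?_
      have hxE : x ∈ Subgroup.centralizer (E : Set C) := by
        rw [Subgroup.mem_centralizer_iff]
        intro q hq
        exact mul_inv_eq_iff_eq_mul.mp ((Finset.mem_filter.mp hx).2 ⟨q, hq⟩)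
      rw [he, coeff_trunc_of_mem P C _ x.2, coeff_blockElem]
      by_contra hne
      exact hno x hne hxE
    simpa using memLocalIdeal_add hM hsum hfix
  have hQp : IsPGroup p ↥(P ⊔ E.map C.subtype) :=
    hPp.to_sup_of_normal_left' (hEp.map _) ((Subgroup.map_subtype_le E).trans hCN)
  have hQu : P ⊔ E.map C.subtype ≤ Subgroup.centralizer ({(u : G)} : Set G) := by
    refine sup_le (fun q hq => ?_) ?_
    · rw [Subgroup.mem_centralizer_singleton_iff]
      exact Subgroup.mem_centralizer_iff.mp u.2 q hq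
    · rintro _ ⟨q, hq, rfl⟩
      rw [Subgroup.mem_centralizer_singleton_iff]
      exact congrArg Subtype.val (Subgroup.mem_centralizer_iff.mp huE q hq)
  obtain ⟨D, hD, hQD⟩ := exists_defectGroup_ge hM hB huB _ hQp hQu
  have hcard := Subgroup.card_le_of_le hQD
  rw [card_defectGroup hM hB hD, ← card_defectGroup hM hB hP] at hcard
  have hEq : P = P ⊔ E.map C.subtype := Subgroup.eq_of_le_of_card_ge le_sup_left hcard
  have hzP : z ∈ P := by
    rw [hEq, ← hz]
    exact Subgroup.mem_sup_right ⟨pPart (p := p) c, hzE, rfl⟩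
  refine ⟨hzP, fun w hw => ?_⟩
  rw [← hz]
  exact (Subgroup.mem_centralizer_iff.mp (pPart (p := p) c).2 w hw).symm

/-- A nonzero induced central character comes from a class of the subgroup. -/
theorem exists_unit_of_induced [Finite G] [Fact p.Prime] (hM : IsPModular p M) (H : Subgroup G)
    (ξ : IrrCharacter H) {g : G} (h : ¬ MemLocalIdeal M (inducedCentralChar H (ξ : H → ℂ) g)) :
    ∃ x : H, IsConj g (x : G) ∧ ¬ MemLocalIdeal M (centralChar (ξ : H → ℂ) x) := by
  classical
  cases nonempty_fintype G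
  haveI := Fintype.ofFinite H
  haveI : Finite (ConjClasses H) := Finite.of_surjective _ ConjClasses.mk_surjective
  haveI : Fintype (ConjClasses H) := Fintype.ofFinite _
  by_contra hno
  push Not at hno
  apply h
  rw [inducedCentralChar_eq_brauer, ← omega_trunc_classSum,
    omega_eq_sum_classes (IsIrr.isClassFunction ξ.2)
      (isCentralElt_trunc (le_normalizer_bot H) (isCentralElt_classSum g))]
  refine memLocalIdeal_sum hM _ _ fun L _ => ?_
  by_cases hgc : IsConj g ((L.out : H) : G)
  · exact memLocalIdeal_mul hM (isIntElt_trunc hM ⊥ H (isIntElt_classSum hM g) _) (hno _ hgc)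
  · rw [coeff_trunc_of_mem ⊥ H _ (mem_centralizer_bot _), classSum, coeff_ofFun, if_neg hgc,
      zero_mul]
    exact memLocalIdeal_zero hM

/-- S0917. -/
theorem defectGroup_le_induced [Finite G] [Fact p.Prime] (hM : IsPModular p M) (H : Subgroup G)
    {b : Set (IrrCharacter H)} {B : Set (IrrCharacter G)} (hind : IsInducedBlock M H b B)
    {D : Subgroup H} (hD : IsDefectGroup p M b D) :
    ∃ E : Subgroup G, IsDefectGroup p M B E ∧ D.map H.subtype ≤ E := by
  obtain ⟨hb, hB, hcong⟩ := hind
  obtain ⟨g, hg⟩ := exists_isDefectClass hM hB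
  obtain ⟨ξ, hξ⟩ := isPBlock_nonempty hM hb
  obtain ⟨χ, hχ⟩ := isPBlock_nonempty hM hB
  obtain ⟨x, hgx, hxu⟩ := exists_unit_of_induced hM H ξ (g := g) (fun h => hg.2.2 χ hχ (by
    simpa using memLocalIdeal_sub hM h (hcong ξ hξ χ hχ g)))
  obtain ⟨y, hy, S, hDS⟩ := hD
  obtain ⟨x', hxx', hx'⟩ := exists_conj_mem_centralizer hM hb hξ hxu hy.2.1 D
    (hDS ▸ sylImage_isPGroup S) (hDS ▸ sylImage_le S)
  have hgx' : IsConj g (x' : G) := by
    obtain ⟨c, hc⟩ := isConj_iff.mp hxx'
    refine hgx.trans (isConj_iff.mpr ⟨(c : G), ?_⟩)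
    rw [← hc]
    push_cast
    rfl
  have hcent : (x' : G) ∈ Subgroup.centralizer ((D.map H.subtype : Subgroup G) : Set G) := by
    rw [Subgroup.mem_centralizer_iff]
    rintro _ ⟨d, hd, rfl⟩
    exact congrArg Subtype.val (Subgroup.mem_centralizer_iff.mp hx' d hd)
  obtain ⟨c, hc⟩ := exists_le_conj (p := p) hgx' _
    (((hDS ▸ sylImage_isPGroup S : IsPGroup p D)).map H.subtype) hcent default
  exact ⟨_, isDefectGroup_conj ⟨g, hg, default, rfl⟩ c, hc⟩

/-- S0930. -/
theorem center_defectGroup_conj [Finite G] [Fact p.Prime] (hM : IsPModular p M) (H : Subgroup G)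
    {b : Set (IrrCharacter H)} {B : Set (IrrCharacter G)} (hind : IsInducedBlock M H b B)
    {D : Subgroup H} (hD : IsDefectGroup p M b D) {P : Subgroup G}
    (hP : IsDefectGroup p M B P) {x : G} (hx : x ∈ P) (hxc : ∀ w ∈ P, x * w = w * x) :
    ∃ g : G, g * x * g⁻¹ ∈ D.map H.subtype ∧
      ∀ w ∈ D.map H.subtype, (g * x * g⁻¹) * w = w * (g * x * g⁻¹) := by
  obtain ⟨hb, hB, hcong⟩ := hind
  obtain ⟨y, hy, S, rfl⟩ := hP
  obtain ⟨ξ, hξ⟩ := isPBlock_nonempty hM hb
  obtain ⟨χ, hχ⟩ := isPBlock_nonempty hM hB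
  have hu := centralChar_unit_mul hM hB hy S hx hxc hχ
  obtain ⟨h, hgh, hhu⟩ := exists_unit_of_induced hM H ξ (g := x * y) (fun h => hu (by
    simpa using memLocalIdeal_sub hM h (hcong ξ hξ χ hχ (x * y))))
  obtain ⟨h', hhh', -, hz⟩ := exists_conj_centralizing hM hb hD hξ hhu
  obtain ⟨c, hc⟩ := isConj_iff.mp hhh'
  obtain ⟨a, ha⟩ := isConj_iff.mp hgh
  refine ⟨(c : G) * a, ?_⟩
  have hxp : pPart (p := p) (x * y) = x := by
    refine pPart_mul_of (Subgroup.mem_centralizer_singleton_iff.mp (sylImage_le S hx)) ?_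
      (not_dvd_orderOf_of_isDefectClass hM hB hy)
    obtain ⟨k, hk⟩ := IsPGroup.iff_orderOf.mp (sylImage_isPGroup S) ⟨x, hx⟩
    exact ⟨k, by rw [← hk, ← Subgroup.orderOf_coe]⟩
  have hconj : ((pPart (p := p) h' : H) : G) = (c : G) * a * x * ((c : G) * a)⁻¹ := by
    rw [← isPPart_coe_iff, ← hc]
    push_cast
    rw [← ha, pPart_conj, pPart_conj, hxp]
    group
  obtain ⟨hz1, hz2⟩ := hz _ (isPPart_pPart h')
  rw [← hconj]
  refine ⟨⟨_, hz1, rfl⟩, ?_⟩
  rintro _ ⟨w, hw, rfl⟩
  exact congrArg Subtype.val (hz2 w hw)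

/-- S0931. -/
theorem blockDefect_zero_iff [Finite G] [Fact p.Prime] (hM : IsPModular p M) (H : Subgroup G)
    {b : Set (IrrCharacter H)} {B : Set (IrrCharacter G)} (hind : IsInducedBlock M H b B) :
    blockDefect p b = 0 ↔ blockDefect p B = 0 := by
  obtain ⟨hb, hB, -⟩ := id hind
  obtain ⟨y, hy⟩ := exists_isDefectClass hM hb
  obtain ⟨D, hD⟩ : ∃ D, IsDefectGroup p M b D := ⟨_, y, hy, default, rfl⟩
  obtain ⟨g, hg⟩ := exists_isDefectClass hM hB
  obtain ⟨P, hP⟩ : ∃ P, IsDefectGroup p M B P := ⟨_, g, hg, default, rfl⟩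
  constructor
  · intro h0
    have hD1 : D = ⊥ := Subgroup.card_eq_one.mp (by rw [card_defectGroup hM hb hD, h0, pow_zero])
    by_contra hne
    have hP1 := card_defectGroup hM hB hP
    have : Nontrivial P := by
      rw [← Finite.one_lt_card_iff_nontrivial, hP1]
      exact Nat.one_lt_pow hne (Fact.out : p.Prime).one_lt
    have hPp : IsPGroup p P := IsPGroup.of_card hP1
    have hZ := hPp.center_nontrivial
    obtain ⟨⟨z, hz⟩, hzne⟩ := exists_ne (1 : Subgroup.center P)
    obtain ⟨c, hc, -⟩ := center_defectGroup_conj hM H hind hD hP (x := (z : G)) z.2 (fun w hw => by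
      exact (congrArg Subtype.val (Subgroup.mem_center_iff.mp hz ⟨w, hw⟩)).symm)
    rw [hD1, Subgroup.map_bot, Subgroup.mem_bot, conj_eq_one_iff] at hc
    exact hzne (Subtype.ext (Subtype.ext hc))
  · intro h0
    obtain ⟨E, hE, hDE⟩ := defectGroup_le_induced hM H hind hD
    have h1 := Subgroup.card_le_of_le hDE
    rw [Subgroup.card_map_of_injective H.subtype_injective, card_defectGroup hM hb hD,
      card_defectGroup hM hB hE, h0, pow_zero] at h1
    by_contra hne
    exact absurd (Nat.one_lt_pow hne (Fact.out : p.Prime).one_lt) (not_lt.mpr h1)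

/-- A normal `p`-subgroup lies in every Sylow subgroup. -/
theorem normal_le_sylow {K : Type*} [Group K] {N : Subgroup K} [N.Normal] (hN : IsPGroup p N)
    (S : Sylow p K) : N ≤ S :=
  le_sup_right.trans (S.is_maximal' (S.isPGroup'.to_sup_of_normal_right hN) le_sup_left).le

/-- S0912. -/
theorem le_defectGroup_of_normal [Finite G] [Fact p.Prime] (hM : IsPModular p M)
    {B : Set (IrrCharacter G)} (hB : IsPBlock M B) {D : Subgroup G}
    (hD : IsDefectGroup p M B D) (Q : Subgroup G) [Q.Normal] (hQ : IsPGroup p Q) : Q ≤ D := by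
  obtain ⟨g, hg, S, rfl⟩ := hD
  obtain ⟨χ, hχ⟩ := isPBlock_nonempty hM hB
  obtain ⟨x, hgx, hx⟩ : ∃ x, IsConj g x ∧ x ∈ Subgroup.centralizer (Q : Set G) := by
    by_contra h
    push Not at h
    exact hg.2.2 χ hχ (centralChar_mem_of_no_centralizing hM Q hQ h χ)
  obtain ⟨c, rfl⟩ := isConj_iff.mp hgx
  have hQC : Q ≤ Subgroup.centralizer ({g} : Set G) := by
    intro q hq
    rw [Subgroup.mem_centralizer_singleton_iff]
    have h1 := Subgroup.mem_centralizer_iff.mp hx (c * q * c⁻¹)
      (Subgroup.Normal.conj_mem ‹Q.Normal› q hq c)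
    apply mul_left_cancel (a := c)
    apply mul_right_cancel (b := c⁻¹)
    calc c * (q * g) * c⁻¹ = c * q * c⁻¹ * (c * g * c⁻¹) := by group
      _ = c * g * c⁻¹ * (c * q * c⁻¹) := h1
      _ = _ := by group
  have hn : Q.subgroupOf (Subgroup.centralizer ({g} : Set G)) ≤
      (S : Subgroup (Subgroup.centralizer ({g} : Set G))) :=
    normal_le_sylow (hQ.comap_of_injective _ (Subgroup.subtype_injective _)) S
  intro q hq
  exact ⟨⟨q, hQC hq⟩, hn (Subgroup.mem_subgroupOf.mpr hq), rfl⟩

end Cfsg.Agent.H35
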