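import Cfsg.Agent.H35.MinMax

/-!
# Defect classes, defect groups and heights
-/

set_option autoImplicit false

open scoped ComplexConjugate
open MonoidAlgebra

namespace Cfsg.Agent.H35

open CharBasic BlockBasic

universe u

variable {p : ℕ} {M : Ideal AlgInt} {G : Type u} [Group G]

/-- A Sylow subgroup of the centralizer of `g`, viewed in `G`. -/
def sylImage {g : G} (P : Sylow p (Subgroup.centralizer ({g} : Set G))) : Subgroup G :=
  (P : Subgroup (Subgroup.centralizer ({g} : Set G))).map
    (Subgroup.centralizer ({g} : Set G)).subtype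

theorem sylImage_le {g : G} (P : Sylow p (Subgroup.centralizer ({g} : Set G))) :
    sylImage P ≤ Subgroup.centralizer ({g} : Set G) := Subgroup.map_subtype_le _

theorem sylImage_isPGroup {g : G} (P : Sylow p (Subgroup.centralizer ({g} : Set G))) :
    IsPGroup p (sylImage P) := P.isPGroup'.map _

theorem card_sylImage [Finite G] [Fact p.Prime] {g : G}
    (P : Sylow p (Subgroup.centralizer ({g} : Set G))) :
    Nat.card (sylImage P) =
      p ^ (Nat.card (Subgroup.centralizer ({g} : Set G))).factorization p := by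
  rw [sylImage, Subgroup.card_map_of_injective (Subgroup.subtype_injective _)]
  exact P.card_eq_multiplicity

theorem conj_mem_centralizer_singleton {g : G} (c : G) {q : G}
    (hq : q ∈ Subgroup.centralizer ({g} : Set G)) :
    c * q * c⁻¹ ∈ Subgroup.centralizer ({c * g * c⁻¹} : Set G) := by
  rw [Subgroup.mem_centralizer_singleton_iff] at hq ⊢
  calc c * q * c⁻¹ * (c * g * c⁻¹) = c * (q * g) * c⁻¹ := by group
    _ = c * (g * q) * c⁻¹ := by rw [hq]
    _ = _ := by group

/-- A `p`-subgroup centralizing a conjugate of `g` lies in a conjugate of any Sylow subgroup of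
the centralizer of `g`. -/
theorem exists_le_conj [Finite G] [Fact p.Prime] {g x : G} (hgx : IsConj g x) (Q : Subgroup G)
    (hQ : IsPGroup p Q) (hx : x ∈ Subgroup.centralizer (Q : Set G))
    (P : Sylow p (Subgroup.centralizer ({g} : Set G))) :
    ∃ c : G, Q ≤ (sylImage P).map (MulAut.conj c).toMonoidHom := by
  obtain ⟨c, rfl⟩ := isConj_iff.mp hgx
  set Q' := Q.map (MulAut.conj c⁻¹).toMonoidHom
  have hQ'le : Q' ≤ (Subgroup.centralizer ({g} : Set G)) := by
    rintro _ ⟨q, hq, rfl⟩
    have h1 : q ∈ Subgroup.centralizer ({c * g * c⁻¹} : Set G) := by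
      rw [Subgroup.mem_centralizer_singleton_iff]
      exact Subgroup.mem_centralizer_iff.mp hx q hq
    have h2 := conj_mem_centralizer_singleton c⁻¹ h1
    simpa [mul_assoc] using h2
  have hQ'p : IsPGroup p (Q'.subgroupOf (Subgroup.centralizer ({g} : Set G))) :=
    (hQ.map (MulAut.conj c⁻¹).toMonoidHom).comap_of_injective (Subgroup.centralizer ({g} : Set G)).subtype (Subgroup.subtype_injective _)
  obtain ⟨S, hS⟩ := hQ'p.exists_le_sylow
  obtain ⟨d, hd⟩ := MulAction.exists_smul_eq (Subgroup.centralizer ({g} : Set G)) P S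
  refine ⟨c * (d : G), fun q hq => ?_⟩
  have hqC : c⁻¹ * q * c ∈ (Subgroup.centralizer ({g} : Set G)) := by
    have := hQ'le (Subgroup.mem_map_of_mem (MulAut.conj c⁻¹).toMonoidHom hq)
    simpa using this
  have hqS : (⟨c⁻¹ * q * c, hqC⟩ : (Subgroup.centralizer ({g} : Set G))) ∈ (S : Subgroup (Subgroup.centralizer ({g} : Set G))) := by
    apply hS
    rw [Subgroup.mem_subgroupOf]
    exact ⟨q, hq, by simp⟩
  rw [← hd, Sylow.coe_subgroup_smul] at hqS
  obtain ⟨r, hr, hre⟩ := hqS
  refine ⟨(r : G), ⟨r, hr, rfl⟩, ?_⟩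
  have := congrArg Subtype.val hre
  have h' : (d : G) * (r : G) * (d : G)⁻¹ = c⁻¹ * q * c := by simpa using this
  show c * (d : G) * (r : G) * (c * (d : G))⁻¹ = q
  calc c * (d : G) * (r : G) * (c * (d : G))⁻¹ = c * ((d : G) * (r : G) * (d : G)⁻¹) * c⁻¹ := by
        group
    _ = q := by rw [h']; group

/-- Min-max, in one statement. -/
theorem exists_sylImage_le [Finite G] [Fact p.Prime] (hM : IsPModular p M)
    {B : Set (IrrCharacter G)} (hB : IsPBlock M B) {g h : G} {χ₀ : IrrCharacter G} (hχ₀ : χ₀ ∈ B)
    (hg : ¬ MemLocalIdeal M (centralChar (χ₀ : G → ℂ) g))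
    (hh : ¬ MemLocalIdeal M (blockCoeff B h))
    (Q : Sylow p (Subgroup.centralizer ({h} : Set G)))
    (P : Sylow p (Subgroup.centralizer ({g} : Set G))) :
    ∃ c : G, sylImage Q ≤ (sylImage P).map (MulAut.conj c).toMonoidHom := by
  obtain ⟨x, hgx, hx⟩ := exists_conj_mem_centralizer hM hB hχ₀ hg hh (sylImage Q)
    (sylImage_isPGroup Q) (sylImage_le Q)
  exact exists_le_conj hgx _ (sylImage_isPGroup Q) hx P

theorem card_centralizer_eq_of_isConj [Finite G] {g h : G} (e : IsConj g h) :
    Nat.card (Subgroup.centralizer ({h} : Set G)) =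
      Nat.card (Subgroup.centralizer ({g} : Set G)) := by
  cases nonempty_fintype G
  rw [← card_conj_eq_centralizer h, ← card_conjTransporter (y := g) e]
  obtain ⟨c, rfl⟩ := isConj_iff.mp e
  refine Nat.card_congr ((Equiv.mulRight c).subtypeEquiv fun x => ?_)
  simp only [Equiv.coe_mulRight]
  constructor
  · intro h; rw [← h]; group
  · intro h
    conv_rhs => rw [← h]
    group

/-- A defect class is a `p`-regular class. -/
theorem not_dvd_orderOf_of_isDefectClass [Finite G] [Fact p.Prime] (hM : IsPModular p M)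
    {B : Set (IrrCharacter G)} (hB : IsPBlock M B) {g : G} (hg : IsDefectClass M B g) :
    ¬ p ∣ orderOf g := fun h =>
  hg.2.1 (by rw [blockCoeff_eq_zero_of_singular hM hB h]; exact memLocalIdeal_zero hM)

/-- Any two defect classes have centralizers with the same `p`-part. -/
theorem isDefectClass_factorization_eq [Finite G] [Fact p.Prime] (hM : IsPModular p M)
    {B : Set (IrrCharacter G)} (hB : IsPBlock M B) {g h : G}
    (hg : IsDefectClass M B g) (hh : IsDefectClass M B h) :
    (Nat.card (Subgroup.centralizer ({g} : Set G))).factorization p =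
      (Nat.card (Subgroup.centralizer ({h} : Set G))).factorization p := by
  obtain ⟨χ, hχ⟩ := isPBlock_nonempty hM hB
  have key : ∀ g h : G, IsDefectClass M B g → IsDefectClass M B h →
      (Nat.card (Subgroup.centralizer ({h} : Set G))).factorization p ≤
        (Nat.card (Subgroup.centralizer ({g} : Set G))).factorization p := by
    intro g h hg hh
    obtain ⟨c, hc⟩ := exists_sylImage_le hM hB hχ (hg.2.2 χ hχ) hh.2.1 default (default : Sylow p _)
    have := Subgroup.card_le_of_le hc
    rw [Subgroup.card_map_of_injective (MulAut.conj c).injective, card_sylImage, card_sylImage]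
      at this
    exact (Nat.pow_le_pow_iff_right (Fact.out : p.Prime).one_lt).mp this
  exact le_antisymm (key h g hh hg) (key g h hg hh)

/-- `p ^ v` divides the group order over `g`. -/
theorem factorization_index_add [Finite G] [Fact p.Prime] (g : G) :
    ((Subgroup.centralizer ({g} : Set G)).index).factorization p +
      (Nat.card (Subgroup.centralizer ({g} : Set G))).factorization p =
      (Nat.card G).factorization p := by
  rw [← Subgroup.index_mul_card (Subgroup.centralizer ({g} : Set G)),
    Nat.factorization_mul Subgroup.index_ne_zero_of_finite Nat.card_pos.ne']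
  rfl

theorem charDegree_dvd' [Finite G] (χ : IrrCharacter G) :
    charDegree (χ : G → ℂ) ∣ Nat.card G := charDegree_dvd χ

/-- If `v` exceeds the `p`-exponent of `e`, then `p ^ v` times a local integer divided by `e` lies
in the local ideal. -/
theorem memLocalIdeal_natCast_div [Fact p.Prime] (hM : IsPModular p M) {n e : ℕ} (hn : n ≠ 0)
    (he : e ≠ 0) (h : e.factorization p < n.factorization p) {z : ℂ} (hz : MemLocalRing M z) :
    MemLocalIdeal M ((n : ℂ) * z / (e : ℂ)) := by
  have hp : p.Prime := Fact.out
  obtain ⟨a, m, hm, hnm⟩ := Nat.exists_eq_pow_mul_and_not_dvd hn p hp.ne_one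
  obtain ⟨b, k, hk, hek⟩ := Nat.exists_eq_pow_mul_and_not_dvd he p hp.ne_one
  have hfac : ∀ a m : ℕ, ¬ p ∣ m → (p ^ a * m).factorization p = a := by
    intro a m hm
    rw [Nat.factorization_mul (pow_ne_zero _ hp.ne_zero) (fun h => hm (by rw [h]; exact dvd_zero p)),
      Nat.Prime.factorization_pow hp]
    simp [Nat.factorization_eq_zero_of_not_dvd hm]
  rw [hnm, hek, hfac a m hm, hfac b k hk] at h
  obtain ⟨d, rfl⟩ : ∃ d, a = b + (d + 1) := ⟨a - b - 1, by omega⟩
  have e1 : (n : ℂ) * z / (e : ℂ) = ((m : ℂ) * z * (k : ℂ)⁻¹) * ((p ^ (d + 1) : ℕ) : ℂ) := by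
    have hp0 : (p : ℂ) ≠ 0 := by exact_mod_cast hp.ne_zero
    have hk0 : (k : ℂ) ≠ 0 := by
      exact_mod_cast (fun h => hk (by rw [h]; exact dvd_zero p) : k ≠ 0)
    rw [hnm, hek]
    push_cast
    field_simp
    ring
  rw [e1]
  exact memLocalIdeal_mul hM (memLocalRing_mul hM (memLocalRing_mul hM (memLocalRing_natCast hM m) hz)
    (memLocalRing_natCast_inv hM hk)) ((memLocalIdeal_natCast_iff hM _).mpr (dvd_pow_self p d.succ_ne_zero))

/-- Where the central character is a unit, the degree is divisible by the `p`-part of the class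
size. -/
theorem index_le_degree [Finite G] [Fact p.Prime] (hM : IsPModular p M) (χ : IrrCharacter G)
    {g : G} (hg : ¬ MemLocalIdeal M (centralChar (χ : G → ℂ) g)) :
    ((Subgroup.centralizer ({g} : Set G)).index).factorization p ≤
      (charDegree (χ : G → ℂ)).factorization p := by
  by_contra h
  push Not at h
  apply hg
  rw [centralChar, apply_one_eq_charDegree χ]
  exact memLocalIdeal_natCast_div hM Subgroup.index_ne_zero_of_finite (charDegree_pos χ).ne' h
    (memLocalRing_of_isIntegral hM (isIntegral_apply χ g))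

/-- Where a value is a unit, the degree has at most the `p`-part of the class size. -/
theorem degree_le_index [Finite G] [Fact p.Prime] (hM : IsPModular p M) (χ : IrrCharacter G)
    {g : G} (hg : ¬ MemLocalIdeal M ((χ : G → ℂ) g)) :
    (charDegree (χ : G → ℂ)).factorization p ≤
      ((Subgroup.centralizer ({g} : Set G)).index).factorization p := by
  by_contra h
  push Not at h
  apply hg
  cases nonempty_fintype G
  have h1 := memLocalIdeal_natCast_div hM (charDegree_pos χ).ne' Subgroup.index_ne_zero_of_finite h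
    (memLocalRing_centralChar hM χ.2 g)
  convert h1 using 1
  rw [centralChar, apply_one_eq_charDegree χ]
  have h2 : (charDegree (χ : G → ℂ) : ℂ) ≠ 0 := by exact_mod_cast (charDegree_pos χ).ne'
  have h3 : ((Subgroup.centralizer ({g} : Set G)).index : ℂ) ≠ 0 := by
    exact_mod_cast Subgroup.index_ne_zero_of_finite
  field_simp

/-- Some member of a block takes a unit value at (the inverse of) any element where the block
idempotent is a unit. -/
theorem exists_unit_value [Finite G] [Fact p.Prime] (hM : IsPModular p M)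
    {B : Set (IrrCharacter G)} (hB : IsPBlock M B) {g : G}
    (hg : ¬ MemLocalIdeal M (blockCoeff B g)) :
    ∃ χ ∈ B, ¬ MemLocalIdeal M ((χ : G → ℂ) g⁻¹) := by
  classical
  by_contra h
  push Not at h
  cases nonempty_fintype G
  apply hg
  have hreg : ¬ p ∣ orderOf g := fun hd =>
    hg (by rw [blockCoeff_eq_zero_of_singular hM hB hd]; exact memLocalIdeal_zero hM)
  obtain ⟨r, hr, he⟩ := exists_mul_of_vanish (p := p)
    (fun χ : IrrCharacter G => if χ ∈ B then conj ((χ : G → ℂ) g) else 0)
    {z : ℂ | MemLocalIdeal M z} (memLocalIdeal_zero hM)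
    (fun a ha b hb => memLocalIdeal_add hM ha hb)
    (fun n a ha => by
      show MemLocalIdeal M (a * n)
      rw [mul_comm]
      exact memLocalIdeal_mul hM (memLocalRing_natCast hM n) ha)
    (fun χ => by
      show MemLocalIdeal M (if χ ∈ B then conj ((χ : G → ℂ) g) else 0)
      split_ifs with hχ
      · rw [conj_apply_eq_inv]
        exact h χ hχ
      · exact memLocalIdeal_zero hM)
    (fun x hx ⟨k, hk⟩ => by
      have hdx : p ∣ orderOf x := by
        rcases k with _ | k
        · exact absurd (orderOf_eq_one_iff.mp (by rwa [pow_zero] at hk)) hx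
        · rw [hk]; exact dvd_pow_self p k.succ_ne_zero
      have h0 := blockKernel_eq_zero_of_regular_of_singular hM hB hreg hdx
      have h1 := conj_blockKernel B g x
      rw [h0, map_zero, blockKernel, finsum_mem_eq_sum_ite] at h1
      refine (Finset.sum_congr rfl fun χ _ => ?_).trans h1.symm
      split_ifs
      · exact mul_comm _ _
      · exact zero_mul _)
  rw [blockCoeff, finsum_mem_eq_sum_ite]
  have he' : (∑ χ : IrrCharacter G, if χ ∈ B then (χ : G → ℂ) 1 * conj ((χ : G → ℂ) g) else 0) =
      ((p ^ (Nat.card G).factorization p : ℕ) : ℂ) * r := by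
    rw [← he]
    refine Finset.sum_congr rfl fun χ _ => ?_
    split_ifs <;> ring
  rw [he']
  obtain ⟨a, m, hm, hG⟩ := Nat.exists_eq_pow_mul_and_not_dvd (Nat.card_pos (α := G)).ne' p
    (Fact.out : p.Prime).ne_one
  have ha : (Nat.card G).factorization p = a := by
    rw [hG, Nat.factorization_mul (pow_ne_zero _ (Fact.out : p.Prime).ne_zero)
      (fun h => hm (by rw [h]; exact dvd_zero p)), Nat.Prime.factorization_pow Fact.out]
    simp [Nat.factorization_eq_zero_of_not_dvd hm]
  rw [ha, hG]
  push_cast
  have hp0 : (p : ℂ) ≠ 0 := by exact_mod_cast (Fact.out : p.Prime).ne_zero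
  rw [mul_inv, mul_assoc, ← mul_assoc (m : ℂ)⁻¹, mul_comm (m : ℂ)⁻¹, mul_assoc, ← mul_assoc,
    inv_mul_cancel₀ (pow_ne_zero _ hp0), one_mul]
  exact memLocalIdeal_mul hM (memLocalRing_natCast_inv hM hm) hr

/-- The least exponent of `p` in the degrees of a block. -/
theorem sInf_degree_eq [Finite G] [Fact p.Prime] (hM : IsPModular p M)
    {B : Set (IrrCharacter G)} (hB : IsPBlock M B) {g : G} (hg : IsDefectClass M B g) :
    sInf ((fun χ : IrrCharacter G => (charDegree (χ : G → ℂ)).factorization p) '' B) =
      ((Subgroup.centralizer ({g} : Set G)).index).factorization p := by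
  obtain ⟨χ, hχ, hu⟩ := exists_unit_value hM hB hg.2.1
  have hcard : Nat.card (Subgroup.centralizer ({g⁻¹} : Set G)) =
      Nat.card (Subgroup.centralizer ({g} : Set G)) :=
    Nat.card_congr (Equiv.subtypeEquivRight fun x => by
      simp only [Subgroup.mem_centralizer_singleton_iff]
      exact ⟨fun h => (Commute.inv_right_iff.mp (show Commute x g⁻¹ from h)).eq,
        fun h => (show Commute x g from h).inv_right.eq⟩)
  have hidx : (Subgroup.centralizer ({g⁻¹} : Set G)).index =
      (Subgroup.centralizer ({g} : Set G)).index := by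
    apply Nat.eq_of_mul_eq_mul_right (Nat.card_pos (α := Subgroup.centralizer ({g} : Set G)))
    conv_lhs => rw [← hcard, Subgroup.index_mul_card]
    rw [Subgroup.index_mul_card]
  have hle : ∀ ψ ∈ B, ((Subgroup.centralizer ({g} : Set G)).index).factorization p ≤
      (charDegree (ψ : G → ℂ)).factorization p := fun ψ hψ => index_le_degree hM ψ (hg.2.2 ψ hψ)
  have hχe : (charDegree (χ : G → ℂ)).factorization p =
      ((Subgroup.centralizer ({g} : Set G)).index).factorization p :=
    le_antisymm (hidx ▸ degree_le_index hM χ hu) (hle χ hχ)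
  refine le_antisymm (Nat.sInf_le ⟨χ, hχ, hχe⟩) ?_
  refine le_csInf ⟨_, χ, hχ, rfl⟩ ?_
  rintro _ ⟨ψ, hψ, rfl⟩
  exact hle ψ hψ

/-- The defect is the `p`-exponent of the centralizer order of a defect class. -/
theorem blockDefect_eq [Finite G] [Fact p.Prime] (hM : IsPModular p M)
    {B : Set (IrrCharacter G)} (hB : IsPBlock M B) {g : G} (hg : IsDefectClass M B g) :
    blockDefect p B = (Nat.card (Subgroup.centralizer ({g} : Set G))).factorization p := by
  have := factorization_index_add (p := p) g
  rw [blockDefect, sInf_degree_eq hM hB hg]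
  omega

theorem card_defectGroup [Finite G] [Fact p.Prime] (hM : IsPModular p M)
    {B : Set (IrrCharacter G)} (hB : IsPBlock M B) {D : Subgroup G} (hD : IsDefectGroup p M B D) :
    Nat.card D = p ^ blockDefect p B := by
  obtain ⟨g, hg, P, rfl⟩ := hD
  rw [blockDefect_eq hM hB hg]
  exact card_sylImage P

/-- A height zero character takes a unit value on every defect class. -/
theorem unit_value_of_height_zero [Finite G] [Fact p.Prime] (hM : IsPModular p M)
    {B : Set (IrrCharacter G)} (hB : IsPBlock M B) {g : G} (hg : IsDefectClass M B g)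
    {χ : IrrCharacter G} (hχ : χ ∈ B) (h0 : blockHeight p B (χ : G → ℂ) = 0) :
    ¬ MemLocalIdeal M ((χ : G → ℂ) g) := by
  cases nonempty_fintype G
  intro hmem
  set i := (Subgroup.centralizer ({g} : Set G)).index
  set d := charDegree (χ : G → ℂ)
  have hdi : d.factorization p = i.factorization p := by
    have h1 := index_le_degree hM χ (hg.2.2 χ hχ)
    rw [blockHeight, sInf_degree_eq hM hB hg] at h0
    show (charDegree (χ : G → ℂ)).factorization p =
      ((Subgroup.centralizer ({g} : Set G)).index).factorization p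
    exact le_antisymm (Nat.sub_eq_zero_iff_le.mp h0) h1
  apply hg.2.2 χ hχ
  have hp : p.Prime := Fact.out
  have hd : d ≠ 0 := (charDegree_pos χ).ne'
  have hi : i ≠ 0 := Subgroup.index_ne_zero_of_finite
  have hu : MemLocalRing M ((i : ℂ) / d) := by
    obtain ⟨a, m, hm, hnm⟩ := Nat.exists_eq_pow_mul_and_not_dvd hi p hp.ne_one
    obtain ⟨b, k, hk, hek⟩ := Nat.exists_eq_pow_mul_and_not_dvd hd p hp.ne_one
    have hab : b = a := by
      rw [hnm, hek, Nat.factorization_mul (pow_ne_zero _ hp.ne_zero) (fun h => hk (by rw [h]; exact dvd_zero p)),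
        Nat.factorization_mul (pow_ne_zero _ hp.ne_zero) (fun h => hm (by rw [h]; exact dvd_zero p)),
        Nat.Prime.factorization_pow hp, Nat.Prime.factorization_pow hp] at hdi
      simpa [Nat.factorization_eq_zero_of_not_dvd hm, Nat.factorization_eq_zero_of_not_dvd hk]
        using hdi
    rw [hnm, hek, hab]
    push_cast
    have hp0 : (p : ℂ) ^ a ≠ 0 := pow_ne_zero _ (by exact_mod_cast hp.ne_zero)
    rw [mul_div_mul_left _ _ hp0, div_eq_mul_inv]
    exact memLocalRing_mul hM (memLocalRing_natCast hM m) (memLocalRing_natCast_inv hM hk)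
  rw [centralChar, apply_one_eq_charDegree χ, mul_div_right_comm]
  exact memLocalIdeal_mul hM hu hmem

end Cfsg.Agent.H35
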