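import Cfsg.Agent.H35.Defect
import Cfsg.Agent.PGroups.Basic

/-!
# Defect groups of classes and the Brauer bijection between classes
-/

set_option autoImplicit false

namespace Cfsg.Agent.H35

variable {p : ℕ} {G : Type*} [Group G] [Finite G] [Fact p.Prime]

theorem exists_sylow_map_eq {K P : Subgroup G} (hPK : P ≤ K)
    (hc : Nat.card P = p ^ (Nat.card K).factorization p) :
    ∃ S : Sylow p K, (S : Subgroup K).map K.subtype = P := by
  refine ⟨Sylow.ofCard (P.subgroupOf K) ?_, ?_⟩
  · rw [Nat.card_congr (Subgroup.subgroupOfEquivOfLe hPK).toEquiv, hc]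
  · rw [Sylow.coe_ofCard, Subgroup.map_subgroupOf_eq_of_le hPK]

theorem card_sylow_map {K : Subgroup G} (S : Sylow p K) :
    Nat.card ((S : Subgroup K).map K.subtype) = p ^ (Nat.card K).factorization p := by
  rw [Subgroup.card_subtype]
  exact S.card_eq_multiplicity

/-- The defect group moves to any conjugate centralizing it. -/
theorem exists_sylow_of_isConj {P : Subgroup G} {g c : G}
    (hg : ∃ S : Sylow p (Subgroup.centralizer ({g} : Set G)), sylImage S = P)
    (hgc : IsConj g c) (hc : c ∈ Subgroup.centralizer (P : Set G)) :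
    ∃ S : Sylow p (Subgroup.centralizer ({c} : Set G)), sylImage S = P := by
  obtain ⟨S, rfl⟩ := hg
  refine exists_sylow_map_eq (fun q hq => Subgroup.mem_centralizer_singleton_iff.2
    (Subgroup.mem_centralizer_iff.1 hc q hq)) ?_
  rw [card_sylImage, card_centralizer_eq_of_isConj hgc]

/-- Conjugate elements with the same defect group, centralizing it, are conjugate in its
normalizer. -/
theorem exists_normalizer_conj {P : Subgroup G} {c₁ c₂ : G}
    (h₁ : ∃ S : Sylow p (Subgroup.centralizer ({c₁} : Set G)), sylImage S = P)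
    (h₂ : ∃ S : Sylow p (Subgroup.centralizer ({c₂} : Set G)), sylImage S = P)
    (hc : IsConj c₁ c₂) :
    ∃ n ∈ Subgroup.normalizer (P : Set G), n * c₁ * n⁻¹ = c₂ := by
  obtain ⟨S, hS⟩ := h₂
  obtain ⟨S₁, hS₁⟩ := h₁
  obtain ⟨x, rfl⟩ := isConj_iff.1 hc
  obtain ⟨T, hT⟩ := exists_sylow_map_eq (p := p)
    (K := Subgroup.centralizer ({x * c₁ * x⁻¹} : Set G))
    (P := P.map (MulAut.conj x).toMonoidHom) (by
      rintro _ ⟨q, hq, rfl⟩
      exact conj_mem_centralizer_singleton x (sylImage_le S₁ (hS₁ ▸ hq)))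
    (by rw [Subgroup.card_map_of_injective (MulAut.conj x).injective, ← hS₁, card_sylImage,
      card_centralizer_eq_of_isConj hc])
  obtain ⟨y, hy⟩ := MulAction.exists_smul_eq (Subgroup.centralizer ({x * c₁ * x⁻¹} : Set G)) T S
  refine ⟨(y : G) * x, Subgroup.mem_normalizer_iff.2 fun q => ?_, ?_⟩
  · have hfwd : P.map (MulAut.conj ((y : G) * x)).toMonoidHom = P := by
      conv_rhs => rw [← hS, sylImage, ← hy, Sylow.coe_subgroup_smul]
      rw [map_mul, show ((MulAut.conj (y : G) * MulAut.conj x).toMonoidHom) =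
        (MulAut.conj (y : G)).toMonoidHom.comp (MulAut.conj x).toMonoidHom from rfl,
        ← Subgroup.map_map, ← hT]
      ext z
      simp only [Subgroup.mem_map, Subgroup.mem_pointwise_smul_iff_inv_smul_mem]
      constructor
      · rintro ⟨_, ⟨w, hw, rfl⟩, rfl⟩
        refine ⟨y * w * y⁻¹, ?_, by simp⟩
        simpa [MulAut.smul_def, mul_assoc] using hw
      · rintro ⟨w, hw, rfl⟩
        refine ⟨((y⁻¹ * w * y : Subgroup.centralizer ({x * c₁ * x⁻¹} : Set G)) : G),
          ⟨y⁻¹ * w * y, by simpa [MulAut.smul_def, mul_assoc] using hw, rfl⟩, by simp [mul_assoc]⟩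
    constructor
    · intro hq
      exact hfwd.le ⟨q, hq, rfl⟩
    · intro hq
      rw [← hfwd] at hq
      obtain ⟨w, hw, he⟩ := hq
      rwa [← (MulAut.conj ((y : G) * x)).injective (he : MulAut.conj _ w = MulAut.conj _ q)]
  · have hy2 := Subgroup.mem_centralizer_singleton_iff.1 y.2
    calc (y : G) * x * c₁ * ((y : G) * x)⁻¹ = (y : G) * (x * c₁ * x⁻¹) * (y : G)⁻¹ := by group
      _ = _ := by rw [hy2]; group

/-- A defect group of a class of the normalizer is one of the class of `G`. -/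
theorem exists_sylow_of_normalizer {P : Subgroup G} {c : G}
    (hS : ∃ S : Sylow p (Subgroup.centralizer ({c} : Set G) ⊓
        Subgroup.normalizer (P : Set G) : Subgroup G),
      (S : Subgroup ↥(Subgroup.centralizer ({c} : Set G) ⊓ Subgroup.normalizer (P : Set G))).map
        (Subgroup.centralizer ({c} : Set G) ⊓ Subgroup.normalizer (P : Set G)).subtype = P) :
    ∃ S : Sylow p (Subgroup.centralizer ({c} : Set G)), sylImage S = P := by
  obtain ⟨S, hS⟩ := hS
  have hPK : P ≤ Subgroup.centralizer ({c} : Set G) ⊓ Subgroup.normalizer (P : Set G) :=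
    hS.symm.le.trans (Subgroup.map_subtype_le _)
  have hPp : IsPGroup p P := hS ▸ S.2.map _
  obtain ⟨Q, hQ⟩ := (hPp.comap_of_injective (Subgroup.centralizer ({c} : Set G)).subtype
    (Subgroup.subtype_injective _)).exists_le_sylow
  refine ⟨Q, ?_⟩
  have hle : P ≤ sylImage Q := fun q hq =>
    ⟨⟨q, (hPK hq).1⟩, hQ (Subgroup.mem_subgroupOf.2 hq), rfl⟩
  by_contra hne
  obtain ⟨x, hxQ, hxP, hxN⟩ : ∃ x ∈ sylImage Q, x ∉ P ∧ x ∈ Subgroup.normalizer (P : Set G) := by
    have hlt : P.subgroupOf (sylImage Q) ≠ ⊤ := fun h =>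
      hne (le_antisymm (Subgroup.subgroupOf_eq_top.1 h) hle)
    obtain ⟨x, hx, hxn⟩ :=
      SetLike.exists_of_lt (PGroups.lt_normalizer (sylImage_isPGroup Q) hlt)
    refine ⟨x, x.2, hxn, Subgroup.mem_normalizer_iff.2 fun h => ⟨fun hh => ?_, fun hh => ?_⟩⟩
    · exact (Subgroup.mem_normalizer_iff.1 hx ⟨h, hle hh⟩).1 hh
    · have hQ : h ∈ sylImage Q := by
        have h1 := mul_mem (mul_mem (inv_mem x.2) (hle hh)) x.2
        simpa [mul_assoc] using h1
      exact (Subgroup.mem_normalizer_iff.1 hx ⟨h, hQ⟩).2 hh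
  set R := sylImage Q ⊓ Subgroup.normalizer (P : Set G) with hR
  have hRK : R ≤ Subgroup.centralizer ({c} : Set G) ⊓ Subgroup.normalizer (P : Set G) :=
    inf_le_inf_right _ (sylImage_le Q)
  have hRp : IsPGroup p R := (sylImage_isPGroup Q).to_le inf_le_left
  have heq := S.is_maximal' (hRp.comap_of_injective _ (Subgroup.subtype_injective _))
    (show (S : Subgroup ↥(Subgroup.centralizer ({c} : Set G) ⊓ Subgroup.normalizer (P : Set G))) ≤
      R.subgroupOf (Subgroup.centralizer ({c} : Set G) ⊓ Subgroup.normalizer (P : Set G)) from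
      fun z hz => by
      have : (z : G) ∈ P := hS.le (Subgroup.mem_map_of_mem _ hz)
      exact Subgroup.mem_subgroupOf.2 ⟨hle this, Subgroup.le_normalizer this⟩)
  apply hxP
  rw [← hS]
  refine ⟨⟨x, hRK ⟨hxQ, hxN⟩⟩, heq.le (Subgroup.mem_subgroupOf.2 ⟨hxQ, hxN⟩), rfl⟩

end Cfsg.Agent.H35
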