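import Mathlib.Algebra.Group.Subgroup.Basic
import Mathlib.RingTheory.Int.Basic
import Mathlib.Algebra.BigOperators.Ring.Finset
import Mathlib.Tactic

set_option autoImplicit false

namespace Cfsg.Agent.H35

/-- If `R` is closed under multiplication and `f x ≠ 0 mod` anything can be achieved at every point,
then `R` contains the constant given by a product. -/
theorem exists_prod_mem {S : Type*} [Finite S] [Nonempty S] (R : AddSubgroup (S → ℤ))
    (hmul : ∀ f ∈ R, ∀ g ∈ R, f * g ∈ R) (f : S → (S → ℤ)) (hf : ∀ x, f x ∈ R) :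
    ((∏ᶠ x, f x x : ℤ) : S → ℤ) ∈ R := by
  classical
  have := Fintype.ofFinite S
  rw [finprod_eq_prod_of_fintype]
  -- the product of the `c_x - f_x` is zero, and it differs from the constant by an element of `R`
  have key : ∀ s : Finset S,
      ((∏ x ∈ s, f x x : ℤ) : S → ℤ) - ∏ x ∈ s, (((f x x : ℤ) : S → ℤ) - f x) ∈ R := by
    intro s
    induction s using Finset.induction with
    | empty => simp
    | insert a s ha ih =>
      set c : ℤ := ∏ x ∈ s, f x x
      set P : S → ℤ := ∏ x ∈ s, (((f x x : ℤ) : S → ℤ) - f x)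
      have h1 : ((f a a * c : ℤ) : S → ℤ) - (((f a a : ℤ) : S → ℤ) - f a) * P
          = f a a • ((c : S → ℤ) - P) + (c • f a - f a * ((c : S → ℤ) - P)) := by
        funext y
        simp
        ring
      rw [Finset.prod_insert ha, Finset.prod_insert ha, h1]
      exact R.add_mem (R.zsmul_mem ih _) (R.sub_mem (R.zsmul_mem (hf a) _) (hmul _ (hf a) _ ih))
  have h0 : ∏ x : S, (((f x x : ℤ) : S → ℤ) - f x) = 0 := by
    funext y
    rw [Finset.prod_apply]
    apply Finset.prod_eq_zero (Finset.mem_univ y)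
    simp
  have := key Finset.univ
  rwa [h0, sub_zero] at this

theorem banaschewski {S : Type*} [Finite S] [Nonempty S] (R : AddSubgroup (S → ℤ))
    (hmul : ∀ f ∈ R, ∀ g ∈ R, f * g ∈ R) (h1 : (1 : S → ℤ) ∉ R) :
    ∃ (x : S) (p : ℕ), p.Prime ∧ ∀ f ∈ R, (p : ℤ) ∣ f x := by
  classical
  by_contra hne
  push_neg at hne
  have h : ∀ x : S, ∃ f ∈ R, f x = 1 := by
    intro x
    let J : AddSubgroup ℤ := R.map (Pi.evalAddMonoidHom (fun _ : S => ℤ) x)
    obtain ⟨a, ha⟩ := Int.subgroup_cyclic J
    rw [← AddSubgroup.zmultiples_eq_closure] at ha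
    have hfa : ∀ f ∈ R, a ∣ f x := by
      intro f hf
      have : f x ∈ J := ⟨f, hf, rfl⟩
      rw [ha] at this
      obtain ⟨k, hk⟩ := AddSubgroup.mem_zmultiples_iff.mp this
      exact ⟨k, by rw [← hk, smul_eq_mul]; ring⟩
    have haJ : a ∈ J := by rw [ha]; exact AddSubgroup.mem_zmultiples a
    obtain ⟨f, hf, hfx⟩ := haJ
    by_cases hu : a.natAbs = 1
    · rcases Int.natAbs_eq_iff.mp hu with h' | h'
      · exact ⟨f, hf, by simpa [h'] using hfx⟩
      · refine ⟨-f, R.neg_mem hf, ?_⟩
        have : f x = -1 := by simpa [h'] using hfx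
        simp [this]
    · obtain ⟨p, hp, hpa⟩ := Nat.exists_prime_and_dvd hu
      obtain ⟨g, hg, hgx⟩ := hne x p hp
      exact absurd ((Int.natCast_dvd.mpr hpa).trans (hfa g hg)) hgx
  choose f hf hfx using h
  have := exists_prod_mem R hmul f hf
  simp [hfx] at this
  exact h1 this

end Cfsg.Agent.H35
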