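import Cfsg.Agent.H35.Extend
import Cfsg.Agent.CharBasic.Integral
import Cfsg.Agent.CharBasic.Equivalence
import Cfsg.Agent.CharInduce.Correspondence
import Mathlib.LinearAlgebra.Determinant
import Mathlib.GroupTheory.Index

/-!
# `χ(1) / ϑ(1)` divides the index of a normal subgroup
-/

set_option autoImplicit false

open scoped ComplexConjugate

namespace Cfsg.Agent.H35.DegreeIndex

open CharBasic Extend

variable {G : Type*} [Group G] {N : Subgroup G} [N.Normal]

section Mult

variable {d m : ℕ} (ρ : Representation ℂ N (Fin d → ℂ)) (σ : Representation ℂ G (Fin m → ℂ))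

/-- The multiplicity space. -/
def multSpace : Submodule ℂ ((Fin d → ℂ) →ₗ[ℂ] (Fin m → ℂ)) where
  carrier := {f | ∀ n : N, σ (n : G) ∘ₗ f = f ∘ₗ ρ n}
  add_mem' := fun {f g} hf hg n => by rw [LinearMap.comp_add, LinearMap.add_comp, hf n, hg n]
  zero_mem' := fun n => by simp
  smul_mem' := fun c f hf n => by rw [LinearMap.comp_smul, LinearMap.smul_comp, hf n]

theorem twist_mem (x : twinGroup N ρ) {f : (Fin d → ℂ) →ₗ[ℂ] (Fin m → ℂ)}
    (hf : f ∈ multSpace ρ σ) :
    σ (proj N ρ x) ∘ₗ f ∘ₗ op N ρ x⁻¹ ∈ multSpace ρ σ := by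
  intro n
  set g := proj N ρ x
  have h1 : σ (n : G) * σ g = σ g * σ ((nconj N g⁻¹ n : N) : G) := by
    rw [← map_mul, ← map_mul, coe_nconj]
    congr 1
    group
  have h2 : op N ρ x⁻¹ * ρ n = ρ (nconj N g⁻¹ n) * op N ρ x⁻¹ := by
    rw [op_twist, map_inv]
  apply LinearMap.ext
  intro v
  have e1 := LinearMap.congr_fun h1 (f (op N ρ x⁻¹ v))
  have e2 := LinearMap.congr_fun h2 v
  have e3 := LinearMap.congr_fun (hf (nconj N g⁻¹ n)) (op N ρ x⁻¹ v)
  simp only [Module.End.mul_apply, LinearMap.comp_apply] at e1 e2 e3 ⊢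
  rw [e1, e3, e2]

/-- The action of the intertwiner group on the multiplicity space. -/
def multRep : Representation ℂ (twinGroup N ρ) (multSpace ρ σ) where
  toFun x :=
    { toFun := fun f => ⟨σ (proj N ρ x) ∘ₗ f.1 ∘ₗ op N ρ x⁻¹, twist_mem ρ σ x f.2⟩
      map_add' := fun f g => Subtype.ext (by
        simp [LinearMap.add_comp, LinearMap.comp_add])
      map_smul' := fun c f => Subtype.ext (by
        simp [LinearMap.smul_comp, LinearMap.comp_smul]) }
  map_one' := by
    apply LinearMap.ext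
    intro f
    apply Subtype.ext
    show σ (proj N ρ 1) ∘ₗ f.1 ∘ₗ op N ρ (1 : twinGroup N ρ)⁻¹ = f.1
    rw [inv_one, map_one, map_one, map_one]
    rfl
  map_mul' := by
    intro x y
    apply LinearMap.ext
    intro f
    apply Subtype.ext
    show σ (proj N ρ (x * y)) ∘ₗ f.1 ∘ₗ op N ρ (x * y)⁻¹ =
      σ (proj N ρ x) ∘ₗ (σ (proj N ρ y) ∘ₗ f.1 ∘ₗ op N ρ y⁻¹) ∘ₗ op N ρ x⁻¹
    rw [map_mul (proj N ρ), map_mul σ, mul_inv_rev, map_mul (op N ρ)]
    rfl

theorem multRep_apply (x : twinGroup N ρ) (f : multSpace ρ σ) :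
    (multRep ρ σ x f).1 = σ (proj N ρ x) ∘ₗ f.1 ∘ₗ op N ρ x⁻¹ := rfl

theorem multRep_scalar (c : ℂˣ) (f : multSpace ρ σ) :
    multRep ρ σ (scalarHom N ρ c) f = ((c⁻¹ : ℂˣ) : ℂ) • f := by
  apply Subtype.ext
  rw [multRep_apply, proj_scalarHom, map_one, ← map_inv, op_scalarHom, Algebra.algebraMap_eq_smul_one]
  ext v
  simp

theorem multRep_base (n : N) (f : multSpace ρ σ) : multRep ρ σ (baseHom N ρ n) f = f := by
  apply Subtype.ext
  rw [multRep_apply, proj_baseHom, ← map_inv, op_baseHom, ← LinearMap.comp_assoc, f.2 n,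
    LinearMap.comp_assoc]
  have : ρ n ∘ₗ ρ n⁻¹ = LinearMap.id := by
    rw [← Module.End.mul_eq_comp, ← map_mul, mul_inv_cancel, map_one]
    rfl
  rw [this, LinearMap.comp_id]

/-- Normalising the determinant. -/
noncomputable def detOneGroup : Subgroup (twinGroup N ρ) :=
  MonoidHom.ker ((LinearMap.det : Module.End ℂ (Fin d → ℂ) →* ℂ).comp (op N ρ))

theorem exists_scalar_mul_mem [ρ.IsIrreducible] (x : twinGroup N ρ) :
    ∃ c : ℂˣ, scalarHom N ρ c * x ∈ detOneGroup ρ := by
  have hd : 0 < d := by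
    simpa using finrank_pos_of_isIrreducible ρ
  have hu : LinearMap.det (op N ρ x) ≠ 0 := (LinearMap.isUnit_det _ (op_isUnit N ρ x)).ne_zero
  obtain ⟨r, hr⟩ := IsAlgClosed.exists_pow_nat_eq (LinearMap.det (op N ρ x))⁻¹ hd
  have hr0 : r ≠ 0 := by
    rintro rfl
    rw [zero_pow hd.ne'] at hr
    exact inv_ne_zero hu hr.symm
  refine ⟨Units.mk0 r hr0, ?_⟩
  rw [detOneGroup, MonoidHom.mem_ker, MonoidHom.comp_apply, map_mul, map_mul, op_scalarHom,
    Algebra.algebraMap_eq_smul_one, LinearMap.det_smul, map_one, mul_one, Units.val_mk0,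
    Module.finrank_fin_fun, hr, inv_mul_cancel₀ hu]

theorem finite_detOneGroup [Finite G] [ρ.IsIrreducible] : Finite (detOneGroup ρ) := by
  have hd : 0 < d := by
    simpa using finrank_pos_of_isIrreducible ρ
  let π : detOneGroup ρ →* G := (proj N ρ).comp (detOneGroup ρ).subtype
  haveI : NeZero d := ⟨hd.ne'⟩
  have hker : Finite π.ker := by
    have hmem : ∀ x : π.ker, ∃ c : rootsOfUnity d ℂ, ((x : detOneGroup ρ) : twinGroup N ρ) =
        scalarHom N ρ (c : ℂˣ) := by
      intro x
      obtain ⟨c, hc⟩ := exists_scalar_of_proj_eq_one N ρ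
        (x := ((x : detOneGroup ρ) : twinGroup N ρ)) x.2
      refine ⟨⟨c, ?_⟩, hc⟩
      have h : LinearMap.det (op N ρ (scalarHom N ρ c)) = 1 := hc ▸ (x : detOneGroup ρ).2
      rw [op_scalarHom, Algebra.algebraMap_eq_smul_one, LinearMap.det_smul, map_one, mul_one,
        Module.finrank_fin_fun] at h
      rw [mem_rootsOfUnity]
      exact Units.ext (by simpa using h)
    choose c hc using hmem
    exact Finite.of_injective c fun x y h => by
      apply Subtype.ext
      apply Subtype.ext
      rw [hc x, hc y, h]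
  exact (MonoidHom.finite_iff_finite_ker_range π).2 ⟨hker, inferInstance⟩

theorem multSpace_finrank [Finite G] [ρ.IsIrreducible] (a : ℕ)
    (hres : ∀ n : N, σ.character (n : G) = (a : ℂ) * ρ.character n) :
    Module.finrank ℂ (multSpace ρ σ) = a := by
  classical
  cases nonempty_fintype G
  haveI : Fintype N := Fintype.ofFinite N
  let τ : Representation ℂ N (Fin m → ℂ) := σ.comp N.subtype
  have hτ : τ.character = (a : ℂ) • ρ.character := funext hres
  have h1 := classInner_character ρ τ
  rw [hτ, classInner_smul_left, classInner_irr_self (isIrrCharacter_character ρ), mul_one,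
    Nat.cast_inj] at h1
  rw [h1]
  exact LinearEquiv.finrank_eq
    { toFun := fun f => (⟨f.1, fun n => (f.2 n).symm⟩ : Representation.IntertwiningMap ρ τ)
      map_add' := fun _ _ => rfl
      map_smul' := fun _ _ => rfl
      invFun := fun f => ⟨f.toLinearMap, fun n => (f.isIntertwining' n).symm⟩
      left_inv := fun _ => rfl
      right_inv := fun _ => rfl }

/-- The invariant case. -/
theorem dvd_index_of_invariant [Finite G] [ρ.IsIrreducible] [σ.IsIrreducible]
    (hinv : ∀ (g : G) (n : N), ρ.character (nconj N g n) = ρ.character n) (a : ℕ)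
    (hres : ∀ n : N, σ.character (n : G) = (a : ℂ) * ρ.character n) : a ∣ N.index := by
  classical
  have hU := multSpace_finrank ρ σ a hres
  have hm : m = a * d := by
    have h := hres 1
    rw [OneMemClass.coe_one, Representation.char_one, Representation.char_one,
      Module.finrank_fin_fun, Module.finrank_fin_fun] at h
    exact_mod_cast h
  have hm0 : 0 < m := by simpa using finrank_pos_of_isIrreducible σ
  have ha : 0 < a := Nat.pos_of_ne_zero fun h => by rw [h, zero_mul] at hm; omega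
  haveI := finite_detOneGroup ρ
  set Y := detOneGroup ρ with hY
  haveI hfree : Module.Free ℂ (multSpace ρ σ) := Module.Free.of_divisionRing ℂ (multSpace ρ σ)
  haveI hfin : Module.Finite ℂ (multSpace ρ σ) := Module.finite_of_finrank_pos (by omega)
  let e : multSpace ρ σ ≃ₗ[ℂ] (Fin a → ℂ) := (Module.finBasisOfFinrankEq ℂ _ hU).equivFun
  let τ : Representation ℂ Y (Fin a → ℂ) :=
    { toFun := fun y => e.toLinearMap ∘ₗ multRep ρ σ (y : twinGroup N ρ) ∘ₗ e.symm.toLinearMap
      map_one' := by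
        apply LinearMap.ext
        intro w
        simp
      map_mul' := fun x y => by
        apply LinearMap.ext
        intro w
        simp }
  haveI : NeZero a := ⟨ha.ne'⟩
  have hirr : τ.IsIrreducible := by
    refine @IsSimpleOrder.mk _ _ _ ?_ ?_
    · exact ⟨⊥, ⊤, fun h => bot_ne_top
        (show (⊥ : Submodule ℂ (Fin a → ℂ)) = ⊤ from
          congrArg Subrepresentation.toSubmodule h)⟩
    intro S
    rcases eq_or_ne S.toSubmodule ⊥ with h0 | h0
    · exact Or.inl (Subrepresentation.toSubmodule_injective h0)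
    right
    refine Subrepresentation.toSubmodule_injective ?_
    -- invariance under all intertwiners
    have hinvX : ∀ (x : twinGroup N ρ), ∀ f ∈ S.toSubmodule,
        e (multRep ρ σ x (e.symm f)) ∈ S.toSubmodule := by
      intro x f hf
      obtain ⟨c, hc⟩ := exists_scalar_mul_mem ρ x
      have h1 : e (multRep ρ σ (scalarHom N ρ c * x) (e.symm f)) ∈ S.toSubmodule :=
        S.apply_mem_toSubmodule (⟨_, hc⟩ : Y) hf
      have h2 : multRep ρ σ x (e.symm f) =
          (c : ℂ) • multRep ρ σ (scalarHom N ρ c * x) (e.symm f) := by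
        rw [map_mul, Module.End.mul_apply, multRep_scalar, smul_smul, ← Units.val_mul,
          mul_inv_cancel, Units.val_one, one_smul]
      rw [h2, map_smul]
      exact S.toSubmodule.smul_mem _ h1
    -- the span of the images
    let Wsub : Submodule ℂ (Fin m → ℂ) := ⨆ f : S.toSubmodule, LinearMap.range ((e.symm f.1).1)
    have hWinv : ∀ g : G, Wsub ≤ Wsub.comap (σ g) := by
      intro g
      obtain ⟨x, hx⟩ := proj_surjective N ρ hinv g
      refine iSup_le fun f => ?_
      rintro _ ⟨v, rfl⟩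
      refine Submodule.mem_iSup_of_mem (p := fun f : S.toSubmodule => LinearMap.range ((e.symm f.1).1))
        ⟨_, hinvX x f.1 f.2⟩ ⟨op N ρ x v, ?_⟩
      rw [LinearEquiv.symm_apply_apply]
      show σ (proj N ρ x) ((e.symm f.1).1 (op N ρ x⁻¹ (op N ρ x v))) = _
      rw [← Module.End.mul_apply (op N ρ x⁻¹), ← map_mul, inv_mul_cancel, map_one, hx]
      rfl
    let SW : Subrepresentation σ := ⟨Wsub, fun g v hv => hWinv g hv⟩
    have hWtop : Wsub = ⊤ := by
      rcases ‹σ.IsIrreducible›.eq_bot_or_eq_top SW with h | h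
      · exfalso
        apply h0
        rw [Submodule.eq_bot_iff]
        intro f hf
        apply e.symm.injective
        rw [map_zero]
        apply Subtype.ext
        apply LinearMap.ext
        intro v
        have : (e.symm f).1 v ∈ Wsub := Submodule.mem_iSup_of_mem
          (p := fun f : S.toSubmodule => LinearMap.range ((e.symm f.1).1)) ⟨f, hf⟩ ⟨v, rfl⟩
        rw [show Wsub = ⊥ from congrArg Subrepresentation.toSubmodule h, Submodule.mem_bot] at this
        simpa using this
      · exact congrArg Subrepresentation.toSubmodule h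
    set k := Module.finrank ℂ S.toSubmodule with hk
    let bS := Module.finBasis ℂ S.toSubmodule
    let Φ : (Fin k → (Fin d → ℂ)) →ₗ[ℂ] (Fin m → ℂ) :=
      ∑ i, (e.symm (bS i).1).1 ∘ₗ LinearMap.proj i
    have hle : Wsub ≤ LinearMap.range Φ := by
      refine iSup_le fun f => ?_
      rintro _ ⟨v, rfl⟩
      refine ⟨fun i => bS.repr f i • v, ?_⟩
      have hf : (e.symm f.1).1 = ∑ i, bS.repr f i • (e.symm (bS i).1).1 := by
        conv_lhs => rw [← bS.sum_repr f]
        simp only [AddSubmonoidClass.coe_finset_sum, SetLike.val_smul, map_sum, map_smul,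
          Submodule.coe_sum, Submodule.coe_smul]
      rw [hf]
      simp [Φ]
    have h2 : m ≤ k * d := by
      have h3 := LinearMap.finrank_range_le Φ
      rw [show LinearMap.range Φ = ⊤ from top_le_iff.1 (hWtop ▸ hle), finrank_top,
        Module.finrank_fin_fun, Module.finrank_pi_fintype] at h3
      simpa [Module.finrank_fin_fun] using h3
    have hka : a ≤ k := Nat.le_of_mul_le_mul_right (hm ▸ h2) (by
      simpa using finrank_pos_of_isIrreducible ρ)
    exact Submodule.eq_top_of_finrank_eq (le_antisymm (Submodule.finrank_le _)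
      (by rwa [Module.finrank_fin_fun]))
  -- the image group
  let K : Subgroup Y := MonoidHom.ker τ
  let τ' : Representation ℂ (Y ⧸ K) (Fin a → ℂ) := QuotientGroup.lift K τ le_rfl
  haveI : τ'.IsIrreducible :=
    (CharInduce.subrepCompOrderIso τ' (QuotientGroup.mk' K)
      (QuotientGroup.mk'_surjective K)).symm.isSimpleOrder_iff.mpr hirr
  have hdvd := CharBasic.finrank_dvd_index_center τ'
  let π : Y →* G := (proj N ρ).comp Y.subtype
  have hπ : Function.Surjective π := by
    intro g
    obtain ⟨x, hx⟩ := proj_surjective N ρ hinv g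
    obtain ⟨c, hc⟩ := exists_scalar_mul_mem ρ x
    exact ⟨⟨_, hc⟩, by simp [π, hx]⟩
  have hsc : ∀ y : Y, π y ∈ N → ∃ c : ℂ, ∀ f, τ y f = c • f := by
    intro y hy
    obtain ⟨c, hc⟩ := exists_scalar_of_proj_eq_one N ρ
      (x := (y : twinGroup N ρ) * (baseHom N ρ ⟨π y, hy⟩)⁻¹) (by simp [π])
    refine ⟨((c⁻¹ : ℂˣ) : ℂ), fun f => ?_⟩
    show e (multRep ρ σ (y : twinGroup N ρ) (e.symm f)) = _
    rw [mul_inv_eq_iff_eq_mul.1 hc, map_mul, Module.End.mul_apply, multRep_base, multRep_scalar,
      map_smul, LinearEquiv.apply_symm_apply]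
  have hcen : (N.comap π).map (QuotientGroup.mk' K) ≤ Subgroup.center (Y ⧸ K) := by
    rintro _ ⟨y, hy, rfl⟩
    rw [Subgroup.mem_center_iff]
    intro q
    obtain ⟨z, rfl⟩ := QuotientGroup.mk'_surjective K q
    obtain ⟨c, hc⟩ := hsc y hy
    rw [← map_mul, ← map_mul, QuotientGroup.mk'_eq_mk']
    refine ⟨(z * y)⁻¹ * (y * z), ?_, by group⟩
    show τ ((z * y)⁻¹ * (y * z)) = 1
    have : τ (y * z) = τ (z * y) := by
      apply LinearMap.ext
      intro f
      rw [map_mul, map_mul, Module.End.mul_apply, Module.End.mul_apply, hc, hc, map_smul]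
    rw [map_mul, this, ← map_mul, inv_mul_cancel, map_one]
  rw [Module.finrank_fin_fun] at hdvd
  refine hdvd.trans ((Subgroup.index_dvd_of_le hcen).trans ?_)
  refine (Subgroup.index_map_dvd _ (QuotientGroup.mk'_surjective K)).trans ?_
  rw [Subgroup.index_comap_of_surjective N hπ]

end Mult

/-- The degree quotient divides the index. -/
theorem degree_quotient_dvd_index {G : Type*} [Group G] [Fintype G] (N : Subgroup G) [N.Normal]
    [Fintype N] {χ : G → ℂ} (hχ : Cfsg.IsIrrCharacter G χ) {ϑ : N → ℂ}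
    (hϑ : Cfsg.IsIrrCharacter N ϑ) (hcon : Cfsg.classInner (fun n : N => χ n) ϑ ≠ 0)
    (c d : ℕ) (hc : χ 1 = c) (hd : ϑ 1 = d) : d ∣ c ∧ c / d ∣ N.index := by
  classical
  obtain ⟨φ, hφ, hind, a, ha, hres⟩ :=
    CharInduce.exists_clifford_correspondent N hχ hϑ hcon
  set T := CharInduce.inertia N ϑ
  have hle : N ≤ T := CharInduce.le_inertia N (CharBasic.IsIrr.isClassFunction hϑ)
  let e := Subgroup.subgroupOfEquivOfLe hle
  haveI : (N.subgroupOf T).Normal := Subgroup.Normal.subgroupOf ‹N.Normal› T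
  have hϑ' : Cfsg.IsIrrCharacter (N.subgroupOf T) (fun n => ϑ (e n)) :=
    CharInduce.IsIrr.comp hϑ e.toMonoidHom e.surjective
  obtain ⟨n, ρ, hρ, hρe⟩ := hϑ'
  obtain ⟨m, σ, hσ, hσe⟩ := hφ
  have hres' : ∀ x : N.subgroupOf T, σ.character (x : T) = (a : ℂ) * ρ.character x := by
    intro x
    rw [hσe, hρe]
    exact hres (e x)
  have ha0 : (a : ℂ) ≠ 0 := Nat.cast_ne_zero.2 ha.ne'
  have hinv : ∀ (g : T) (x : N.subgroupOf T),
      ρ.character (nconj (N.subgroupOf T) g x) = ρ.character x := by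
    intro g x
    apply mul_left_cancel₀ ha0
    rw [← hres', ← hres', coe_nconj, Representation.char_conj]
  have hdvd : a ∣ (N.subgroupOf T).index := dvd_index_of_invariant ρ σ hinv a hres'
  have h1 : χ 1 = (T.index : ℂ) * ((a : ℂ) * d) := by
    rw [← hind, CharInduce.indFun_one, ← hd]
    congr 1
    exact hres 1
  rw [hc] at h1
  have h2 : c = T.index * (a * d) := by exact_mod_cast h1
  have hd0 : 0 < d := by
    refine Nat.pos_of_ne_zero fun h => CharBasic.IsIrr.one_ne_zero hϑ ?_
    rw [hd, h, Nat.cast_zero]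
  refine ⟨⟨T.index * a, by rw [h2]; ring⟩, ?_⟩
  rw [h2, ← mul_assoc, Nat.mul_div_cancel _ hd0, ← Subgroup.relIndex_mul_index hle,
    mul_comm T.index a]
  exact mul_dvd_mul hdvd dvd_rfl

end Cfsg.Agent.H35.DegreeIndex
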