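import Cfsg.Agent.CharInduce.Function
import Cfsg.Agent.BlockBasic.PPart
import Cfsg.Agent.H35.Banaschewski
import Mathlib.GroupTheory.Sylow
import Mathlib.GroupTheory.PGroup

/-!
# Permutation characters of quasi-elementary subgroups
-/

set_option autoImplicit false

namespace Cfsg.Agent.H35

variable {G : Type*} [Group G]

/-- The number of cosets of `H` fixed by `g`. -/
noncomputable def permChar (H : Subgroup G) (g : G) : ℕ := Nat.card (MulAction.fixedBy (G ⧸ H) g)

theorem indFun_one_eq_permChar [Fintype G] (H : Subgroup G) :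
    Cfsg.indFun H (fun _ => 1) = fun g => (permChar H g : ℂ) := by
  have h := CharInduce.fixedBy_eq_indFun (G := G) ((1 : G) : G ⧸ H)
  rw [MulAction.stabilizer_quotient H] at h
  exact h.symm

/-- A quotient by an equal subgroup gives the same permutation character. -/
theorem fixedBy_eq_permChar [Finite G] {X : Type*} [MulAction G X]
    [MulAction.IsPretransitive G X] (x : X) (g : G) :
    Nat.card (MulAction.fixedBy X g) = permChar (MulAction.stabilizer G x) g := by
  have : Finite X := Finite.of_surjective (fun g : G => g • x) (MulAction.surjective_smul G x)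
  cases nonempty_fintype G
  have h := congrFun (CharInduce.fixedBy_eq_indFun (G := G) x) g
  rw [indFun_one_eq_permChar] at h
  exact Nat.cast_injective h

/-- A product of permutation characters is a sum of permutation characters of subgroups of the
first subgroup. -/
theorem permChar_mul [Finite G] [Fintype (Subgroup G)] (H K : Subgroup G) :
    ∃ a : Subgroup G → ℕ, (∀ U, a U ≠ 0 → U ≤ H) ∧
      ∀ g, permChar H g * permChar K g = ∑ U : Subgroup G, a U * permChar U g := by
  classical
  let X := (G ⧸ H) × (G ⧸ K)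
  let Ω := Quotient (MulAction.orbitRel G X)
  have : Fintype Ω := Fintype.ofFinite Ω
  have : Fintype X := Fintype.ofFinite X
  have hrep : ∀ ω : Ω, ∃ b : G ⧸ K, (Quotient.mk'' (((1 : G) : G ⧸ H), b) : Ω) = ω := by
    intro ω
    induction ω using Quotient.inductionOn' with
    | h x =>
      obtain ⟨a, ha⟩ := QuotientGroup.mk_surjective x.1
      refine ⟨a⁻¹ • x.2, Quotient.sound' ?_⟩
      refine MulAction.orbitRel_apply.mpr ⟨a⁻¹, Prod.ext ?_ rfl⟩
      show a⁻¹ • x.1 = ((1 : G) : G ⧸ H)
      rw [← ha, MulAction.Quotient.smul_coe, smul_eq_mul, inv_mul_cancel]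
  choose b hb using hrep
  let st : Ω → Subgroup G := fun ω => MulAction.stabilizer G ((((1 : G) : G ⧸ H), b ω) : X)
  refine ⟨fun U => (Finset.univ.filter fun ω => st ω = U).card, fun U hU => ?_, fun g => ?_⟩
  · obtain ⟨ω, hω⟩ := Finset.card_ne_zero.mp hU
    rw [← (Finset.mem_filter.mp hω).2]
    intro y hy
    have h1 : y • ((1 : G) : G ⧸ H) = ((1 : G) : G ⧸ H) := congrArg Prod.fst hy
    rw [← MulAction.stabilizer_quotient H]
    exact h1
  · have h1 : permChar H g * permChar K g = Nat.card (MulAction.fixedBy X g) := by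
      rw [permChar, permChar, ← Nat.card_prod]
      exact Nat.card_congr
        { toFun := fun q => ⟨(q.1.1, q.2.1), Prod.ext q.1.2 q.2.2⟩
          invFun := fun q => (⟨q.1.1, congrArg Prod.fst q.2⟩, ⟨q.1.2, congrArg Prod.snd q.2⟩)
          left_inv := fun q => rfl
          right_inv := fun q => rfl }
    have h2 : Nat.card (MulAction.fixedBy X g) = ∑ ω : Ω, permChar (st ω) g := by
      rw [Nat.card_congr (Equiv.sigmaFiberEquiv
        (fun q : MulAction.fixedBy X g => (Quotient.mk'' q.1 : Ω))).symm, Nat.card_sigma]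
      refine Finset.sum_congr rfl fun ω _ => ?_
      let x0 : X := (((1 : G) : G ⧸ H), b ω)
      let x0' : MulAction.orbit G x0 := ⟨x0, MulAction.mem_orbit_self x0⟩
      have hst : st ω = MulAction.stabilizer G x0' := by
        ext y
        show y • x0 = x0 ↔ y • x0' = x0'
        rw [Subtype.ext_iff]
        rfl
      rw [hst, ← fixedBy_eq_permChar x0' g]
      have horb : ∀ q : X, (Quotient.mk'' q : Ω) = ω ↔ q ∈ MulAction.orbit G x0 := by
        intro q
        rw [← hb ω, Quotient.eq'', MulAction.orbitRel_apply]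
      exact Nat.card_congr
        { toFun := fun q => ⟨⟨q.1.1, (horb _).mp q.2⟩, Subtype.ext q.1.2⟩
          invFun := fun q => ⟨⟨q.1.1, congrArg Subtype.val q.2⟩, (horb _).mpr q.1.2⟩
          left_inv := fun q => rfl
          right_inv := fun q => rfl }
    rw [h1, h2, ← Finset.sum_fiberwise Finset.univ st]
    refine Finset.sum_congr rfl fun U _ => ?_
    rw [Finset.sum_congr rfl (g := fun _ => permChar U g)
      (fun ω hω => by rw [(Finset.mem_filter.mp hω).2]), Finset.sum_const, smul_eq_mul]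

/-- `H` has a cyclic normal subgroup of order prime to `p` with `p`-power index. -/
def IsQuasiElem (p : ℕ) (H : Subgroup G) : Prop :=
  ∃ C : Subgroup G, C ≤ H ∧ H ≤ Subgroup.normalizer (C : Set G) ∧ IsCyclic C ∧
    Nat.Coprime (Nat.card C) p ∧ ∃ k : ℕ, C.relIndex H = p ^ k

theorem IsQuasiElem.mono [Finite G] {p : ℕ} (hp : p.Prime) {U H : Subgroup G}
    (hH : IsQuasiElem p H) (hUH : U ≤ H) : IsQuasiElem p U := by
  obtain ⟨C, hCH, hHC, hcyc, hcop, k, hk⟩ := hH
  refine ⟨C ⊓ U, inf_le_right, ?_, ?_, ?_, ?_⟩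
  · intro u hu
    rw [Subgroup.mem_normalizer_iff]
    intro c
    have hn := Subgroup.mem_normalizer_iff.mp (hHC (hUH hu)) c
    simp only [Subgroup.mem_inf]
    refine and_congr hn ?_
    rw [Subgroup.mul_mem_cancel_right _ (U.inv_mem hu), Subgroup.mul_mem_cancel_left _ hu]
  · exact isCyclic_of_injective (Subgroup.inclusion inf_le_left)
      (Subgroup.inclusion_injective inf_le_left)
  · exact hcop.coprime_dvd_left (Subgroup.card_dvd_of_le inf_le_left)
  · have hdvd : (C ⊓ U).relIndex U ∣ p ^ k := by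
      rw [Subgroup.inf_relIndex_right, ← hk]
      have hsub : (C.subgroupOf H).Normal := Subgroup.normal_subgroupOf_iff_le_normalizer hCH |>.mpr hHC
      have := Subgroup.relIndex_dvd_index_of_normal (C.subgroupOf H) (U.subgroupOf H)
      rwa [Subgroup.relIndex_subgroupOf hUH] at this
    exact (Nat.dvd_prime_pow hp).mp hdvd |>.imp fun j hj => hj.2

theorem exists_quasiElem_not_dvd [Finite G] (p : ℕ) [hp : Fact p.Prime] (x : G) :
    ∃ H : Subgroup G, IsQuasiElem p H ∧ ¬ p ∣ permChar H x := by
  classical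
  set xr := BlockBasic.pReg (p := p) x
  set xp := BlockBasic.pPart (p := p) x
  have hcomm : Commute xp xr := BlockBasic.commute_pPart_pReg x
  set C := Subgroup.zpowers xr with hC
  set N := Subgroup.normalizer (C : Set G) with hN
  have hCN : C ≤ N := Subgroup.le_normalizer
  have hxpN : xp ∈ N := by
    rw [hN, Subgroup.mem_normalizer_iff]
    intro c
    constructor
    · intro hc
      obtain ⟨i, rfl⟩ := Subgroup.mem_zpowers_iff.mp hc
      rw [(hcomm.zpow_right i).eq, mul_inv_cancel_right]
      exact Subgroup.zpow_mem_zpowers xr i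
    · intro hc
      obtain ⟨i, hi⟩ := Subgroup.mem_zpowers_iff.mp hc
      have e : c = xp⁻¹ * xr ^ i * xp := by rw [hi]; group
      rw [e, (hcomm.inv_left.zpow_right i).eq, inv_mul_cancel_right]
      exact Subgroup.zpow_mem_zpowers xr i
  have hxN : x ∈ N := by
    rw [← BlockBasic.pPart_mul_pReg (p := p) x]
    exact N.mul_mem hxpN (hCN (Subgroup.mem_zpowers xr))
  obtain ⟨e, he⟩ := BlockBasic.exists_orderOf_pPart (p := p) x
  have hxpP : IsPGroup p (Subgroup.zpowers (⟨xp, hxpN⟩ : N)) :=
    IsPGroup.of_card (n := e) (by rw [Nat.card_zpowers, ← Subgroup.orderOf_coe]; exact he)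
  obtain ⟨S, hS⟩ := hxpP.exists_le_sylow
  have hCnormal : (C.subgroupOf N).Normal :=
    (Subgroup.normal_subgroupOf_iff_le_normalizer hCN).mpr le_rfl
  set H0 : Subgroup N := C.subgroupOf N ⊔ (S : Subgroup N)
  set H : Subgroup G := H0.map N.subtype with hH
  have hH0 : H.subgroupOf N = H0 := by
    rw [hH]; exact Subgroup.comap_map_eq_self_of_injective N.subtype_injective H0
  have hHN : H ≤ N := Subgroup.map_subtype_le _
  have hCH : C ≤ H := fun c hc =>
    ⟨⟨c, hCN hc⟩, Subgroup.mem_sup_left (Subgroup.mem_subgroupOf.mpr hc), rfl⟩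
  have hidx : ∃ k, C.relIndex H = p ^ k := by
    rw [← Subgroup.relIndex_subgroupOf hHN, hH0, Subgroup.relIndex_sup_left]
    obtain ⟨n, hn⟩ := IsPGroup.iff_card.mp S.isPGroup'
    obtain ⟨j, -, hj⟩ := (Nat.dvd_prime_pow hp.out).mp
      (hn ▸ Subgroup.relIndex_dvd_card (C.subgroupOf N) (S : Subgroup N))
    exact ⟨j, hj⟩
  have hcop : Nat.Coprime (Nat.card C) p := by
    rw [hC, Nat.card_zpowers]
    exact ((Nat.Prime.coprime_iff_not_dvd hp.out).mpr (BlockBasic.not_dvd_orderOf_pReg x)).symm
  refine ⟨H, ⟨C, hCH, hHN, inferInstance, hcop, hidx⟩, ?_⟩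
  obtain ⟨k, hk⟩ := hidx
  -- the `p'`-elements of `H` lie in `C`
  have hreg : ∀ h ∈ H, ¬ p ∣ orderOf h → h ∈ C := by
    intro h hh hord
    have hsub : (C.subgroupOf H).Normal :=
      (Subgroup.normal_subgroupOf_iff_le_normalizer hCH).mpr hHN
    have h1 : (⟨h, hh⟩ : H) ^ p ^ k ∈ C.subgroupOf H := by
      rw [← hk, Subgroup.relIndex]
      exact Subgroup.pow_index_mem _ _
    rw [Subgroup.mem_subgroupOf, Subgroup.coe_pow] at h1
    obtain ⟨m, hm⟩ := exists_pow_eq_self_of_coprime
      (((Nat.Prime.coprime_iff_not_dvd hp.out).mpr hord).pow_left k)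
    rw [← hm]
    exact C.pow_mem h1 m
  -- the fixed cosets lie in `N ⧸ H`
  let T := {q : G ⧸ H // ∃ g ∈ N, (g : G ⧸ H) = q}
  have hfix : ∀ q : G ⧸ H, x • q = q → ∃ g ∈ N, (g : G ⧸ H) = q := by
    intro q hq
    obtain ⟨g, rfl⟩ := QuotientGroup.mk_surjective q
    refine ⟨g, ?_, rfl⟩
    rw [MulAction.Quotient.smul_coe, smul_eq_mul, eq_comm, QuotientGroup.eq] at hq
    have hxr : g⁻¹ * xr * g ∈ C := by
      refine hreg _ ?_ ?_
      · obtain ⟨m, hm⟩ : ∃ m : ℕ, x ^ m = xr := by
          have hco : Nat.Coprime (orderOf xp) (orderOf xr) := by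
            rw [show orderOf xp = p ^ e from he]
            exact ((Nat.Prime.coprime_iff_not_dvd hp.out).mpr
              (BlockBasic.not_dvd_orderOf_pReg x)).pow_left _
          obtain ⟨m, hm1, hm2⟩ := Nat.chineseRemainder hco 0 1
          refine ⟨m, ?_⟩
          rw [← BlockBasic.pPart_mul_pReg (p := p) x, hcomm.mul_pow]
          have e1 : xp ^ m = 1 := by
            rw [← pow_zero xp]
            exact pow_eq_pow_iff_modEq.mpr hm1
          have e2 : xr ^ m = xr := by
            conv_rhs => rw [← pow_one xr]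
            exact pow_eq_pow_iff_modEq.mpr hm2
          rw [e1, e2, one_mul]
        have := H.pow_mem hq m
        rw [show g⁻¹ * (x * g) = g⁻¹ * x * g⁻¹⁻¹ by group, conj_pow, hm] at this
        simpa [mul_assoc] using this
      · have : orderOf (g⁻¹ * xr * g) = orderOf xr := by
          have h' := orderOf_injective (MulAut.conj g⁻¹).toMonoidHom (MulAut.conj g⁻¹).injective xr
          simpa [mul_assoc] using h'
        rw [this]
        exact BlockBasic.not_dvd_orderOf_pReg x
    have hinv : g⁻¹ ∈ N := by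
      rw [hN]
      refine Subgroup.mem_normalizer_fintype fun n hn => ?_
      obtain ⟨i, rfl⟩ := Subgroup.mem_zpowers_iff.mp hn
      have := C.zpow_mem hxr i
      rwa [show g⁻¹ * xr * g = g⁻¹ * xr * g⁻¹⁻¹ by group, conj_zpow] at this
    simpa using N.inv_mem hinv
  -- `C` acts trivially on `T`, and `T` has order prime to `p`
  let _ : SMul N T := ⟨fun n q => ⟨(n : G) • q.1, by
    obtain ⟨g, hg, hq⟩ := q.2
    exact ⟨(n : G) * g, N.mul_mem n.2 hg, by rw [← hq]; rfl⟩⟩⟩
  let _ : MulAction N T :=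
    { one_smul := fun q => Subtype.ext (one_smul G q.1)
      mul_smul := fun a b q => Subtype.ext (mul_smul (a : G) (b : G) q.1) }
  have hTcard : Nat.card T = H0.index := by
    have : MulAction.IsPretransitive N T := ⟨fun a b => by
      obtain ⟨g, hg, hga⟩ := a.2
      obtain ⟨g', hg', hgb⟩ := b.2
      refine ⟨⟨g' * g⁻¹, N.mul_mem hg' (N.inv_mem hg)⟩, Subtype.ext ?_⟩
      show (g' * g⁻¹) • a.1 = b.1
      rw [← hga, ← hgb, MulAction.Quotient.smul_coe, smul_eq_mul, inv_mul_cancel_right]⟩
    let t0 : T := ⟨((1 : G) : G ⧸ H), 1, N.one_mem, rfl⟩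
    rw [← MulAction.index_stabilizer_of_transitive N t0]
    congr 1
    rw [← hH0]
    ext n
    rw [MulAction.mem_stabilizer_iff, Subgroup.mem_subgroupOf, Subtype.ext_iff]
    show (n : G) • ((1 : G) : G ⧸ H) = ((1 : G) : G ⧸ H) ↔ _
    rw [MulAction.Quotient.smul_coe, smul_eq_mul, mul_one, QuotientGroup.eq]
    simp
  have hT : ¬ p ∣ Nat.card T := by
    rw [hTcard]
    intro h
    exact S.not_dvd_index (h.trans (Subgroup.index_dvd_of_le le_sup_right))
  let P := Subgroup.zpowers (⟨xp, hxpN⟩ : N)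
  have hmod := hxpP.card_modEq_card_fixedPoints T
  have hcard : permChar H x = Nat.card (MulAction.fixedPoints P T) := by
    refine Nat.card_congr ?_
    have hCtriv : ∀ (q : T), xr • q.1 = q.1 := by
      intro q
      obtain ⟨g, hg, hq⟩ := q.2
      rw [← hq, MulAction.Quotient.smul_coe, smul_eq_mul, QuotientGroup.eq]
      have h1 : g⁻¹ * xr⁻¹ * g ∈ C := by
        have := (Subgroup.mem_normalizer_iff.mp (N.inv_mem hg) xr⁻¹).mp
          (C.inv_mem (Subgroup.mem_zpowers xr))
        simpa using this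
      exact hCH (by simpa [mul_assoc] using h1)
    have hx : ∀ q : T, x • q.1 = xp • q.1 := fun q => by
      conv_lhs => rw [← BlockBasic.pPart_mul_pReg (p := p) x]
      rw [mul_smul, hCtriv]
    exact
      { toFun := fun q => ⟨⟨q.1, hfix q.1 q.2⟩, fun u => by
          obtain ⟨i, hi⟩ := Subgroup.mem_zpowers_iff.mp u.2
          apply Subtype.ext
          show ((u : N) : G) • q.1 = q.1
          rw [← hi, Subgroup.coe_zpow]
          have h1 : xp • q.1 = q.1 := by
            have := hx ⟨q.1, hfix q.1 q.2⟩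
            exact this.symm.trans q.2
          exact MulAction.mem_fixedBy.mp (MulAction.fixedBy_subset_fixedBy_zpow _ xp i h1)⟩
        invFun := fun q => ⟨q.1.1, by
          show x • q.1.1 = q.1.1
          rw [hx]
          exact congrArg Subtype.val (q.2 ⟨⟨xp, hxpN⟩, Subgroup.mem_zpowers _⟩)⟩
        left_inv := fun q => rfl
        right_inv := fun q => rfl }
  rw [hcard]
  intro h
  exact hT (Nat.modEq_zero_iff_dvd.mp (hmod.trans (Nat.modEq_zero_iff_dvd.mpr h)))

theorem permChar_conj [Finite G] (H : Subgroup G) {g g' : G} (h : IsConj g g') :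
    permChar H g' = permChar H g := by
  obtain ⟨c, rfl⟩ := isConj_iff.mp h
  refine Nat.card_congr ((MulAction.toPerm (c⁻¹ : G)).subtypeEquiv fun q => ?_)
  rw [MulAction.mem_fixedBy, MulAction.mem_fixedBy, MulAction.toPerm_apply, ← mul_smul g c⁻¹ q,
    show g * c⁻¹ = c⁻¹ * (c * g * c⁻¹) by group, mul_smul c⁻¹ (c * g * c⁻¹) q, smul_left_cancel_iff]

/-- Solomon's theorem, local form, as an integer identity. -/
theorem solomon_local [Finite G] [Fintype (Subgroup G)] (p : ℕ) [hp : Fact p.Prime] :
    ∃ (m : ℤ) (a : Subgroup G → ℤ), ¬ (p : ℤ) ∣ m ∧ (∀ H, a H ≠ 0 → IsQuasiElem p H) ∧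
      ∀ g, m = ∑ H : Subgroup G, a H * (permChar H g : ℤ) := by
  classical
  let val : (Subgroup G → ℤ) → ConjClasses G → ℤ := fun a c =>
    ∑ H : Subgroup G, a H * (permChar H c.out : ℤ)
  let R : AddSubgroup (ConjClasses G → ℤ) :=
    { carrier := {f | ∃ a : Subgroup G → ℤ, (∀ H, a H ≠ 0 → IsQuasiElem p H) ∧ val a = f}
      zero_mem' := ⟨0, fun H h => absurd rfl h, by funext c; simp [val]⟩
      add_mem' := by
        rintro _ _ ⟨a, ha, rfl⟩ ⟨b, hb, rfl⟩
        refine ⟨a + b, fun H h => ?_, by funext c; simp [val, add_mul, Finset.sum_add_distrib]⟩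
        by_cases h' : a H = 0
        · exact hb H (by simpa [h'] using h)
        · exact ha H h'
      neg_mem' := by
        rintro _ ⟨a, ha, rfl⟩
        exact ⟨-a, fun H h => ha H (by simpa using h), by funext c; simp [val]⟩ }
  have hval : ∀ a, val a = ∑ H : Subgroup G, a H • fun c : ConjClasses G => (permChar H c.out : ℤ) := by
    intro a; funext c; simp [val, Finset.sum_apply]
  have hgen : ∀ H, IsQuasiElem p H → (fun c : ConjClasses G => (permChar H c.out : ℤ)) ∈ R := by
    intro H hH
    refine ⟨fun U => if U = H then 1 else 0, fun U h => ?_, by funext c; simp [val]⟩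
    have : U = H := by by_contra hne; simp [hne] at h
    rw [this]; exact hH
  have hmul : ∀ f ∈ R, ∀ g ∈ R, f * g ∈ R := by
    rintro _ ⟨a, ha, rfl⟩ _ ⟨b, -, rfl⟩
    rw [hval a, Finset.sum_mul]
    refine AddSubgroup.sum_mem _ fun H _ => ?_
    by_cases h0 : a H = 0
    · simp [h0]
    rw [smul_mul_assoc]
    refine R.zsmul_mem ?_ _
    rw [hval b, Finset.mul_sum]
    refine AddSubgroup.sum_mem _ fun K _ => ?_
    rw [mul_smul_comm]
    refine R.zsmul_mem ?_ _
    obtain ⟨u, hu, hprod⟩ := permChar_mul H K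
    refine ⟨fun U => (u U : ℤ), fun U h => (ha H h0).mono hp.out (hu U (by simpa using h)), ?_⟩
    funext c
    simp only [val, Pi.mul_apply]
    exact_mod_cast (hprod c.out).symm
  have : Finite (ConjClasses G) := Finite.of_surjective _ ConjClasses.mk_surjective
  have : Fintype (ConjClasses G) := Fintype.ofFinite _
  choose H hH hHp using fun c : ConjClasses G => exists_quasiElem_not_dvd p c.out
  have hmem := exists_prod_mem R hmul (fun c d => (permChar (H c) d.out : ℤ))
    (fun c => hgen _ (hH c))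
  rw [finprod_eq_prod_of_fintype] at hmem
  obtain ⟨a, ha, hae⟩ := hmem
  refine ⟨∏ c : ConjClasses G, (permChar (H c) c.out : ℤ), a, ?_, ha, fun g => ?_⟩
  · intro h
    obtain ⟨c, -, hc⟩ := (Nat.prime_iff_prime_int.mp hp.out).exists_mem_finset_dvd h
    exact hHp c (Int.natCast_dvd_natCast.mp hc)
  · have := congrFun hae (ConjClasses.mk g)
    simp only [val, Pi.intCast_apply, Int.cast_id] at this
    rw [← this]
    refine Finset.sum_congr rfl fun K _ => ?_
    congr 2
    exact permChar_conj K (ConjClasses.mk_eq_mk_iff_isConj.mp (Quotient.out_eq (ConjClasses.mk g)).symm)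

end Cfsg.Agent.H35
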