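import Cfsg.Agent.CharBasic.Complete
import Mathlib.GroupTheory.Transfer
import Mathlib.Analysis.Complex.Polynomial.Basic
import Mathlib.GroupTheory.SpecificGroups.Cyclic

/-!
# Extending invariant irreducible characters: the group of intertwiners

For a normal subgroup `N` of `G` and an irreducible representation `ρ` of `N` with `G`-invariant
character, the pairs `(g, T)` with `T` intertwining `ρ` with its `g`-conjugate form a central
extension of `G` by the scalars.  `ρ` extends to `G` as soon as this extension has a section that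
agrees with `ρ` on `N`.
-/

set_option autoImplicit false

namespace Cfsg.Agent.H35.Extend

open CharBasic

variable {G : Type*} [Group G] (N : Subgroup G) [hN : N.Normal]

/-- The conjugate of an element of a normal subgroup. -/
def nconj (g : G) (n : N) : N := ⟨g * n * g⁻¹, hN.conj_mem (n : G) n.2 g⟩

@[simp] theorem coe_nconj (g : G) (n : N) : (nconj N g n : G) = g * n * g⁻¹ := rfl

theorem nconj_mul (g h : G) (n : N) : nconj N (g * h) n = nconj N g (nconj N h n) := by
  apply Subtype.ext; simp only [coe_nconj]; group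

theorem nconj_one (n : N) : nconj N 1 n = n := by
  apply Subtype.ext; simp

theorem nconj_coe (m n : N) : nconj N (m : G) n = m * n * m⁻¹ := by
  apply Subtype.ext; simp

/-- Conjugation as an endomorphism of the normal subgroup. -/
def nconjHom (g : G) : N →* N where
  toFun := nconj N g
  map_one' := by apply Subtype.ext; simp
  map_mul' a b := by apply Subtype.ext; simp only [coe_nconj, Subgroup.coe_mul]; group

theorem nconjHom_surjective (g : G) : Function.Surjective (nconjHom N g) := fun n =>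
  ⟨nconj N g⁻¹ n, by
    show nconj N g (nconj N g⁻¹ n) = n
    rw [← nconj_mul, mul_inv_cancel, nconj_one]⟩

variable {V : Type*} [AddCommGroup V] [Module ℂ V] (ρ : Representation ℂ N V)

/-- The group of pairs of a group element and an intertwiner. -/
def twinGroup : Subgroup (G × (Module.End ℂ V)ˣ) where
  carrier := {x | ∀ n : N, (x.2 : Module.End ℂ V) * ρ n = ρ (nconj N x.1 n) * x.2}
  one_mem' n := by simp [nconj_one]
  mul_mem' := by
    intro x y hx hy n
    show ((x.2 * y.2 : (Module.End ℂ V)ˣ) : Module.End ℂ V) * ρ n =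
      ρ (nconj N (x.1 * y.1) n) * ((x.2 * y.2 : (Module.End ℂ V)ˣ) : Module.End ℂ V)
    rw [Units.val_mul, nconj_mul, mul_assoc, hy n, ← mul_assoc, hx, mul_assoc]
  inv_mem' := by
    intro x hx n
    show ((x.2⁻¹ : (Module.End ℂ V)ˣ) : Module.End ℂ V) * ρ n =
      ρ (nconj N x.1⁻¹ n) * ((x.2⁻¹ : (Module.End ℂ V)ˣ) : Module.End ℂ V)
    rw [Units.inv_mul_eq_iff_eq_mul, ← mul_assoc, hx, ← nconj_mul, mul_inv_cancel, nconj_one,
      Units.mul_inv_cancel_right]

theorem mem_twinGroup {x : G × (Module.End ℂ V)ˣ} : x ∈ twinGroup N ρ ↔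
    ∀ n : N, (x.2 : Module.End ℂ V) * ρ n = ρ (nconj N x.1 n) * x.2 := Iff.rfl

/-- The image of `N` in the group of intertwiners. -/
def baseHom : N →* twinGroup N ρ where
  toFun m := ⟨((m : G), ρ.toHomUnits m), fun n => by
    show ((ρ.toHomUnits m : (Module.End ℂ V)ˣ) : Module.End ℂ V) * ρ n =
      ρ (nconj N (m : G) n) * ((ρ.toHomUnits m : (Module.End ℂ V)ˣ) : Module.End ℂ V)
    simp only [MonoidHom.coe_toHomUnits, ← map_mul]
    rw [nconj_coe, inv_mul_cancel_right]⟩
  map_one' := by apply Subtype.ext; simp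
  map_mul' a b := by apply Subtype.ext; simp

/-- The scalars in the group of intertwiners. -/
def scalarHom : ℂˣ →* twinGroup N ρ where
  toFun c := ⟨(1, Units.map (algebraMap ℂ (Module.End ℂ V)).toMonoidHom c), fun n => by
    rw [nconj_one]
    exact Algebra.commutes (c : ℂ) (ρ n)⟩
  map_one' := by apply Subtype.ext; simp
  map_mul' a b := by
    apply Subtype.ext
    refine Prod.ext ?_ ?_
    · show (1 : G) = 1 * 1
      simp
    · simp

/-- Projection to `G`. -/
def proj : twinGroup N ρ →* G := (MonoidHom.fst G _).comp (twinGroup N ρ).subtype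

/-- The intertwiner component. -/
def op : twinGroup N ρ →* Module.End ℂ V :=
  (Units.coeHom _).comp ((MonoidHom.snd G _).comp (twinGroup N ρ).subtype)

@[simp] theorem proj_baseHom (m : N) : proj N ρ (baseHom N ρ m) = m := rfl
@[simp] theorem op_baseHom (m : N) : op N ρ (baseHom N ρ m) = ρ m := rfl
@[simp] theorem proj_scalarHom (c : ℂˣ) : proj N ρ (scalarHom N ρ c) = 1 := rfl
@[simp] theorem op_scalarHom (c : ℂˣ) :
    op N ρ (scalarHom N ρ c) = algebraMap ℂ (Module.End ℂ V) (c : ℂ) := rfl

theorem op_isUnit (x : twinGroup N ρ) : IsUnit (op N ρ x) := x.1.2.isUnit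

theorem ext_iff' {x y : twinGroup N ρ} :
    x = y ↔ proj N ρ x = proj N ρ y ∧ op N ρ x = op N ρ y := by
  refine ⟨fun h => by subst h; exact ⟨rfl, rfl⟩, fun h => ?_⟩
  exact Subtype.ext (Prod.ext h.1 (Units.ext h.2))

theorem op_twist (x : twinGroup N ρ) (n : N) :
    op N ρ x * ρ n = ρ (nconj N (proj N ρ x) n) * op N ρ x := x.2 n

theorem scalarHom_central (c : ℂˣ) (x : twinGroup N ρ) :
    scalarHom N ρ c * x = x * scalarHom N ρ c := by
  rw [ext_iff']
  refine ⟨by simp, ?_⟩
  rw [map_mul, map_mul, op_scalarHom]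
  exact Algebra.commutes (c : ℂ) (op N ρ x)

theorem conj_baseHom (x : twinGroup N ρ) (n : N) :
    x * baseHom N ρ n * x⁻¹ = baseHom N ρ (nconj N (proj N ρ x) n) := by
  rw [mul_inv_eq_iff_eq_mul, ext_iff']
  refine ⟨by simp, ?_⟩
  rw [map_mul, map_mul, op_baseHom, op_baseHom]
  exact op_twist N ρ x n

variable [FiniteDimensional ℂ V] [hirr : ρ.IsIrreducible]

theorem exists_scalar_of_proj_eq_one {x : twinGroup N ρ} (hx : proj N ρ x = 1) :
    ∃ c : ℂˣ, x = scalarHom N ρ c := by
  have := nontrivial_of_isIrreducible ρ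
  obtain ⟨c, hc⟩ := schur_scalar ρ (op N ρ x) (fun n => by
    rw [op_twist, hx, nconj_one])
  have hc0 : c ≠ 0 := by
    rintro rfl
    rw [zero_smul] at hc
    exact (op_isUnit N ρ x).ne_zero hc
  refine ⟨Units.mk0 c hc0, (ext_iff' N ρ).mpr ⟨by simpa using hx, ?_⟩⟩
  rw [hc, op_scalarHom]
  simp [Algebra.algebraMap_eq_smul_one]
  rfl

theorem scalarHom_injective : Function.Injective (scalarHom N ρ) := by
  intro a b h
  have := nontrivial_of_isIrreducible ρ
  have := congrArg (op N ρ) h
  simp only [op_scalarHom] at this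
  exact Units.ext ((algebraMap ℂ (Module.End ℂ V)).injective this)

omit [FiniteDimensional ℂ V] hirr in
theorem conjRep_isIrreducible [ρ.IsIrreducible] (g : G) :
    Representation.IsIrreducible (k := ℂ) (G := N) (V := V) (ρ.comp (nconjHom N g)) := by
  have h : Nontrivial V := nontrivial_of_isIrreducible ρ
  let σ : Representation ℂ N V := ρ.comp (nconjHom N g)
  show Representation.IsIrreducible σ
  refine @IsSimpleOrder.mk _ _ _ ?_ ?_
  · exact ⟨⊥, ⊤, by
      intro h
      have : (⊥ : Submodule ℂ V) = ⊤ := congrArg Subrepresentation.toSubmodule h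
      exact bot_ne_top this⟩
  · intro S
    let S' : Subrepresentation ρ := ⟨S.toSubmodule, fun n v hv => by
      obtain ⟨m, rfl⟩ := nconjHom_surjective N g n
      exact S.apply_mem_toSubmodule m hv⟩
    rcases ‹ρ.IsIrreducible›.eq_bot_or_eq_top S' with h | h
    · exact Or.inl (Subrepresentation.toSubmodule_injective
        (congrArg Subrepresentation.toSubmodule h :))
    · exact Or.inr (Subrepresentation.toSubmodule_injective
        (congrArg Subrepresentation.toSubmodule h :))

/-- Invariance of the character gives an intertwiner over every group element. -/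
theorem proj_surjective [Finite G]
    (hinv : ∀ (g : G) (n : N), ρ.character (nconj N g n) = ρ.character n) :
    Function.Surjective (proj N ρ) := by
  classical
  intro g
  cases nonempty_fintype G
  let σ : Representation ℂ N V := ρ.comp (nconjHom N g)
  have : σ.IsIrreducible := conjRep_isIrreducible N ρ g
  have hchar : σ.character = ρ.character := funext fun n => hinv g n
  have h1 := classInner_irr_self (isIrrCharacter_character ρ)
  nth_rewrite 1 [← hchar] at h1
  rw [classInner_character_irreducible] at h1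
  split_ifs at h1 with h
  · obtain ⟨e⟩ := h
    let T : (Module.End ℂ V)ˣ := LinearMap.GeneralLinearGroup.ofLinearEquiv e.toLinearEquiv
    refine ⟨⟨(g, T), fun n => ?_⟩, rfl⟩
    exact LinearMap.ext fun v => LinearMap.congr_fun (e.toIntertwiningMap.isIntertwining' n) v
  · exact absurd h1.symm one_ne_zero

/-- A complement to the scalars containing the image of `N` gives an extension. -/
theorem exists_extension (H : Subgroup (twinGroup N ρ))
    (hbase : ∀ n : N, baseHom N ρ n ∈ H)
    (hsurj : ∀ g : G, ∃ x ∈ H, proj N ρ x = g)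
    (hinj : ∀ c : ℂˣ, scalarHom N ρ c ∈ H → c = 1) :
    ∃ σ : Representation ℂ G V, σ.IsIrreducible ∧ ∀ n : N, σ (n : G) = ρ n := by
  choose s hs hps using hsurj
  have huniq : ∀ (x : twinGroup N ρ), x ∈ H → x = s (proj N ρ x) := by
    intro x hx
    obtain ⟨c, hc⟩ := exists_scalar_of_proj_eq_one N ρ (x := x * (s (proj N ρ x))⁻¹)
      (by simp [hps])
    have : c = 1 := hinj c (hc ▸ H.mul_mem hx (H.inv_mem (hs _)))
    rw [this, map_one, mul_inv_eq_one] at hc
    exact hc
  let σ : Representation ℂ G V :=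
    { toFun := fun g => op N ρ (s g)
      map_one' := by
        have := huniq 1 H.one_mem
        rw [map_one] at this
        rw [← this, map_one]
      map_mul' := fun g h => by
        have := huniq (s g * s h) (H.mul_mem (hs g) (hs h))
        rw [map_mul, hps, hps] at this
        rw [← this, map_mul] }
  have hres : ∀ n : N, σ (n : G) = ρ n := by
    intro n
    have := huniq (baseHom N ρ n) (hbase n)
    rw [proj_baseHom] at this
    show op N ρ (s (n : G)) = ρ n
    rw [← this, op_baseHom]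
  refine ⟨σ, ?_, hres⟩
  have := nontrivial_of_isIrreducible ρ
  refine @IsSimpleOrder.mk _ _ _ ?_ ?_
  · exact ⟨⊥, ⊤, by
      intro h
      have : (⊥ : Submodule ℂ V) = ⊤ := congrArg Subrepresentation.toSubmodule h
      exact bot_ne_top this⟩
  · intro S
    let S' : Subrepresentation ρ := ⟨S.toSubmodule, fun n v hv => by
      rw [← hres n]; exact S.apply_mem_toSubmodule _ hv⟩
    rcases hirr.eq_bot_or_eq_top S' with h | h
    · exact Or.inl (Subrepresentation.toSubmodule_injective
        (congrArg Subrepresentation.toSubmodule h :))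
    · exact Or.inr (Subrepresentation.toSubmodule_injective
        (congrArg Subrepresentation.toSubmodule h :))

/-- The extension statement for characters. -/
theorem exists_char_extension {N : Subgroup G} [N.Normal] {n : ℕ}
    (ρ : Representation ℂ N (Fin n → ℂ)) [ρ.IsIrreducible] (H : Subgroup (twinGroup N ρ))
    (hbase : ∀ n : N, baseHom N ρ n ∈ H)
    (hsurj : ∀ g : G, ∃ x ∈ H, proj N ρ x = g)
    (hinj : ∀ c : ℂˣ, scalarHom N ρ c ∈ H → c = 1) :
    ∃ χ : G → ℂ, Cfsg.IsIrrCharacter G χ ∧ ∀ m : N, χ m = ρ.character m := by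
  obtain ⟨σ, hσ, hres⟩ := exists_extension N ρ H hbase hsurj hinj
  refine ⟨σ.character, ⟨n, σ, hσ, rfl⟩, fun m => ?_⟩
  simp [Representation.character, hres m]

/-- A retraction to the scalars killing `N` gives a complement. -/
theorem exists_extension_of_retraction [Finite G] {N : Subgroup G} [N.Normal] {n : ℕ}
    (ρ : Representation ℂ N (Fin n → ℂ)) [ρ.IsIrreducible]
    (hinv : ∀ (g : G) (m : N), ρ.character (nconj N g m) = ρ.character m)
    (φ : twinGroup N ρ →* ℂˣ) (hN : ∀ m, φ (baseHom N ρ m) = 1)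
    (hc : ∀ c, φ (scalarHom N ρ c) = c) :
    ∃ χ : G → ℂ, Cfsg.IsIrrCharacter G χ ∧ ∀ m : N, χ m = ρ.character m := by
  refine exists_char_extension ρ φ.ker hN (fun g => ?_) (fun c h => ?_)
  · obtain ⟨x, hx⟩ := proj_surjective N ρ hinv g
    refine ⟨scalarHom N ρ (φ x)⁻¹ * x, ?_, by simp [hx]⟩
    rw [MonoidHom.mem_ker, map_mul, hc, inv_mul_cancel]
  · rw [MonoidHom.mem_ker, hc] at h
    exact h

/-- An invariant irreducible representation extends through a cyclic quotient. -/
theorem exists_extension_cyclic [Finite G] {N : Subgroup G} [N.Normal] {n : ℕ}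
    (ρ : Representation ℂ N (Fin n → ℂ)) [ρ.IsIrreducible]
    (hinv : ∀ (g : G) (m : N), ρ.character (nconj N g m) = ρ.character m)
    (hcyc : IsCyclic (G ⧸ N)) :
    ∃ χ : G → ℂ, Cfsg.IsIrrCharacter G χ ∧ ∀ m : N, χ m = ρ.character m := by
  obtain ⟨gb, hgb⟩ := hcyc.exists_generator
  obtain ⟨g, rfl⟩ := QuotientGroup.mk_surjective gb
  obtain ⟨x, hx⟩ := proj_surjective N ρ hinv g
  set k := orderOf (g : G ⧸ N)
  have hk : 0 < k := orderOf_pos _
  have hgk : g ^ k ∈ N := by
    rw [← QuotientGroup.eq_one_iff, QuotientGroup.mk_pow]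
    exact pow_orderOf_eq_one (g : G ⧸ N)
  obtain ⟨c, hc⟩ := exists_scalar_of_proj_eq_one N ρ (x := x ^ k * (baseHom N ρ ⟨g ^ k, hgk⟩)⁻¹)
    (by simp [hx])
  obtain ⟨r, hr⟩ := IsAlgClosed.exists_pow_nat_eq (c : ℂ) hk
  have hr0 : r ≠ 0 := by
    rintro rfl
    rw [zero_pow hk.ne'] at hr
    exact c.ne_zero hr.symm
  set x' := scalarHom N ρ (Units.mk0 r hr0)⁻¹ * x with hx'
  have hproj : proj N ρ x' = g := by simp [hx', hx]
  have hx'k : x' ^ k = baseHom N ρ ⟨g ^ k, hgk⟩ := by
    rw [hx', (show Commute (scalarHom N ρ (Units.mk0 r hr0)⁻¹) x from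
      scalarHom_central N ρ _ x).mul_pow, ← map_pow]
    have : (Units.mk0 r hr0)⁻¹ ^ k = c⁻¹ := by
      rw [inv_pow, inv_inj]; ext; simpa using hr
    rw [this, map_inv]
    rw [mul_inv_eq_iff_eq_mul] at hc
    rw [hc, inv_mul_cancel_left]
  let B : Subgroup (twinGroup N ρ) := (baseHom N ρ).range
  have hBn : B.Normal := ⟨by
    rintro _ ⟨m, rfl⟩ y
    exact ⟨_, (conj_baseHom N ρ y m).symm⟩⟩
  refine exists_char_extension ρ (B ⊔ Subgroup.zpowers x')
    (fun m => Subgroup.mem_sup_left ⟨m, rfl⟩) (fun h => ?_) (fun d hd => ?_)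
  · obtain ⟨i, hi⟩ := Subgroup.mem_zpowers_iff.mp (hgb (h : G ⧸ N))
    have hm : (g ^ i)⁻¹ * h ∈ N := by
      rw [← QuotientGroup.eq, ← hi]
      push_cast
      rfl
    refine ⟨x' ^ i * baseHom N ρ ⟨_, hm⟩,
      Subgroup.mul_mem _ (Subgroup.mem_sup_right (Subgroup.zpow_mem_zpowers x' i))
        (Subgroup.mem_sup_left ⟨_, rfl⟩), ?_⟩
    simp [hproj]
  · obtain ⟨a, ⟨m, rfl⟩, b, hb, hab⟩ := Subgroup.mem_sup_of_normal_left.mp hd
    obtain ⟨i, rfl⟩ := Subgroup.mem_zpowers_iff.mp hb
    have hgi : (m : G) * g ^ i = 1 := by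
      have := congrArg (proj N ρ) hab
      simpa [hproj] using this
    have hki : (k : ℤ) ∣ i := by
      rw [orderOf_dvd_iff_zpow_eq_one, ← QuotientGroup.mk_zpow, QuotientGroup.eq_one_iff,
        eq_inv_of_mul_eq_one_right hgi]
      exact N.inv_mem m.2
    obtain ⟨j, rfl⟩ := hki
    rw [zpow_mul, zpow_natCast, hx'k, ← map_zpow, ← map_mul] at hab
    have hm1 : m * (⟨g ^ k, hgk⟩ : N) ^ j = 1 := by
      apply Subtype.ext
      rw [← proj_baseHom N ρ (m * (⟨g ^ k, hgk⟩ : N) ^ j), hab]
      simp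
    rw [hm1, map_one] at hab
    apply scalarHom_injective N ρ
    rw [map_one]
    exact hab.symm

end Cfsg.Agent.H35.Extend

namespace Cfsg.Agent.H35.Extend

open CharBasic

variable {G : Type*} [Group G] {N : Subgroup G} [N.Normal]

/-- An extension to an intermediate subgroup gives a partial retraction to the scalars. -/
theorem exists_partial_retraction {n : ℕ} (ρ : Representation ℂ N (Fin n → ℂ)) [ρ.IsIrreducible]
    (P : Subgroup G) (σ : Representation ℂ P (Fin n → ℂ)) (hNP : N ≤ P)
    (hres : ∀ m : N, σ ⟨(m : G), hNP m.2⟩ = ρ m) :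
    ∃ φ : ↥(P.comap (proj N ρ)) →* ℂˣ,
      (∀ (m : N) (h : baseHom N ρ m ∈ P.comap (proj N ρ)), φ ⟨baseHom N ρ m, h⟩ = 1) ∧
      ∀ (c : ℂˣ) (h : scalarHom N ρ c ∈ P.comap (proj N ρ)), φ ⟨scalarHom N ρ c, h⟩ = c := by
  have hlift : ∀ x : ↥(P.comap (proj N ρ)), ∃ c : ℂˣ,
      op N ρ (x : twinGroup N ρ) =
        algebraMap ℂ (Module.End ℂ (Fin n → ℂ)) (c : ℂ) * σ ⟨proj N ρ x, x.2⟩ := by
    intro x
    set g : P := ⟨proj N ρ x, x.2⟩
    have hu : ∀ m : N, σ g * ρ m = ρ (nconj N (g : G) m) * σ g := by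
      intro m
      rw [← hres, ← hres, ← map_mul, ← map_mul]
      congr 1
      apply Subtype.ext
      simp
    let y : twinGroup N ρ := ⟨((g : G), σ.toHomUnits g), hu⟩
    obtain ⟨c, hc⟩ := exists_scalar_of_proj_eq_one N ρ (x := (x : twinGroup N ρ) * y⁻¹)
      (by rw [map_mul, map_inv]; show (g : G) * (g : G)⁻¹ = 1; simp)
    refine ⟨c, ?_⟩
    rw [mul_inv_eq_iff_eq_mul] at hc
    rw [hc, map_mul, op_scalarHom]
    rfl
  choose φ hφ using hlift
  have := nontrivial_of_isIrreducible ρ
  have huniq : ∀ (g : P) (a b : ℂ),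
      algebraMap ℂ (Module.End ℂ (Fin n → ℂ)) a * σ g =
        algebraMap ℂ (Module.End ℂ (Fin n → ℂ)) b * σ g → a = b := fun g a b h => by
    have h' := congrArg (· * σ g⁻¹) h
    simp only [mul_assoc, ← map_mul, mul_inv_cancel, map_one, mul_one] at h'
    exact (algebraMap ℂ (Module.End ℂ (Fin n → ℂ))).injective h'
  have hmul : ∀ x y, φ (x * y) = φ x * φ y := by
    intro x y
    apply Units.ext
    apply huniq ⟨proj N ρ (x * y : ↥(P.comap (proj N ρ))), (x * y).2⟩
    rw [← hφ]
    have e : (⟨proj N ρ (x * y : ↥(P.comap (proj N ρ))), (x * y).2⟩ : P) =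
        ⟨proj N ρ x, x.2⟩ * ⟨proj N ρ y, y.2⟩ := Subtype.ext (by simp)
    rw [e, Subgroup.coe_mul, map_mul, hφ, hφ, map_mul, Units.val_mul, map_mul]
    simp only [Algebra.algebraMap_eq_smul_one, smul_mul_assoc, mul_smul_comm, one_mul, mul_one,
      smul_smul]
  refine ⟨MonoidHom.mk' φ hmul, fun m h => ?_, fun c h => ?_⟩
  · apply Units.ext
    apply huniq ⟨(m : G), hNP m.2⟩
    have := hφ ⟨baseHom N ρ m, h⟩
    simp only [op_baseHom, proj_baseHom] at this
    show algebraMap ℂ _ (φ ⟨baseHom N ρ m, h⟩ : ℂ) * _ = _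
    rw [← this, hres]
    simp
  · apply Units.ext
    apply huniq 1
    have := hφ ⟨scalarHom N ρ c, h⟩
    simp only [op_scalarHom, proj_scalarHom] at this
    show algebraMap ℂ _ (φ ⟨scalarHom N ρ c, h⟩ : ℂ) * _ = _
    rw [map_one σ, mul_one, mul_one, this]
    rw [show (⟨1, _⟩ : P) = 1 from rfl, map_one, mul_one]

/-- Transfer of a partial retraction. -/
theorem exists_power_retraction [Finite G] {n : ℕ} (ρ : Representation ℂ N (Fin n → ℂ))
    [ρ.IsIrreducible]
    (hinv : ∀ (g : G) (m : N), ρ.character (nconj N g m) = ρ.character m)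
    (P : Subgroup G) (σ : Representation ℂ P (Fin n → ℂ)) (hNP : N ≤ P)
    (hres : ∀ m : N, σ ⟨(m : G), hNP m.2⟩ = ρ m) :
    ∃ ψ : twinGroup N ρ →* ℂˣ, (∀ m, ψ (baseHom N ρ m) = 1) ∧
      ∀ c, ψ (scalarHom N ρ c) = c ^ P.index := by
  classical
  obtain ⟨φ, hφN, hφc⟩ := exists_partial_retraction ρ P σ hNP hres
  let X := P.comap (proj N ρ)
  have hidx : X.index = P.index := Subgroup.index_comap_of_surjective P (proj_surjective N ρ hinv)
  have : X.FiniteIndex := ⟨by rw [hidx]; exact Subgroup.FiniteIndex.index_ne_zero⟩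
  have hfin : Finite (twinGroup N ρ ⧸ X) := Subgroup.finite_quotient_of_finiteIndex
  refine ⟨φ.transfer, fun m => ?_, fun c => ?_⟩
  · have : Fintype (Quotient (MulAction.orbitRel (Subgroup.zpowers (baseHom N ρ m))
        (twinGroup N ρ ⧸ X))) := Fintype.ofFinite _
    rw [MonoidHom.transfer_eq_prod_quotient_orbitRel_zpowers_quot]
    apply Finset.prod_eq_one
    intro q _
    set d := Function.minimalPeriod ((baseHom N ρ m) • ·) q.out
    have e : q.out.out⁻¹ * baseHom N ρ m ^ d * q.out.out =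
        baseHom N ρ (nconj N (proj N ρ q.out.out⁻¹) (m ^ d)) := by
      rw [← conj_baseHom, inv_inv, map_pow]
    have hmem : baseHom N ρ (nconj N (proj N ρ q.out.out⁻¹) (m ^ d)) ∈ X := by
      show proj N ρ _ ∈ P
      rw [proj_baseHom]
      exact hNP (nconj N _ _).2
    refine Eq.trans ?_ (hφN _ hmem)
    congr 1
    exact Subtype.ext e
  · rw [MonoidHom.transfer_eq_pow]
    · have hc : scalarHom N ρ c ^ X.index = scalarHom N ρ (c ^ P.index) := by
        rw [map_pow, hidx]
      have hmem : scalarHom N ρ (c ^ P.index) ∈ X := by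
        show proj N ρ _ ∈ P
        rw [proj_scalarHom]
        exact P.one_mem
      refine Eq.trans ?_ (hφc _ hmem)
      congr 1
      exact Subtype.ext hc
    · intro k g _
      rw [← map_pow, mul_assoc, scalarHom_central, inv_mul_cancel_left]

/-- If for every prime there is an extension to a subgroup of index prime to it, then there is
an extension to the whole group. -/
theorem exists_extension_local [Finite G] {n : ℕ} (ρ : Representation ℂ N (Fin n → ℂ))
    [ρ.IsIrreducible]
    (hinv : ∀ (g : G) (m : N), ρ.character (nconj N g m) = ρ.character m)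
    (hloc : ∀ p : ℕ, p.Prime → ∃ (P : Subgroup G) (hNP : N ≤ P)
      (σ : Representation ℂ P (Fin n → ℂ)), ¬ p ∣ P.index ∧
        ∀ m : N, σ ⟨(m : G), hNP m.2⟩ = ρ m) :
    ∃ χ : G → ℂ, Cfsg.IsIrrCharacter G χ ∧ ∀ m : N, χ m = ρ.character m := by
  let J : AddSubgroup ℤ :=
    { carrier := {k | ∃ ψ : twinGroup N ρ →* ℂˣ, (∀ m, ψ (baseHom N ρ m) = 1) ∧
        ∀ c, ψ (scalarHom N ρ c) = c ^ k}
      zero_mem' := ⟨1, fun m => rfl, fun c => by simp⟩
      add_mem' := by
        rintro a b ⟨ψ, hψ, hψ'⟩ ⟨θ, hθ, hθ'⟩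
        exact ⟨ψ * θ, fun m => by simp [hψ, hθ], fun c => by simp [hψ', hθ', zpow_add]⟩
      neg_mem' := by
        rintro a ⟨ψ, hψ, hψ'⟩
        exact ⟨ψ⁻¹, fun m => by simp [hψ], fun c => by simp [hψ', zpow_neg]⟩ }
  obtain ⟨d, hd⟩ := Int.subgroup_cyclic J
  rw [← AddSubgroup.zmultiples_eq_closure] at hd
  have hd1 : d.natAbs = 1 := by
    by_contra hne
    obtain ⟨p, hp, hpd⟩ := Nat.exists_prime_and_dvd hne
    obtain ⟨P, hNP, σ, hidx, hres⟩ := hloc p hp
    obtain ⟨ψ, hψ, hψ'⟩ := exists_power_retraction ρ hinv P σ hNP hres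
    have hmem : (P.index : ℤ) ∈ J := ⟨ψ, hψ, fun c => by rw [hψ', zpow_natCast]⟩
    rw [hd] at hmem
    obtain ⟨k, hk⟩ := AddSubgroup.mem_zmultiples_iff.mp hmem
    apply hidx
    apply Int.natCast_dvd_natCast.mp
    rw [← hk, smul_eq_mul]
    exact (Int.natCast_dvd.mpr hpd).mul_left k
  have h1 : (1 : ℤ) ∈ J := by
    rw [hd]
    rcases Int.natAbs_eq_iff.mp hd1 with h | h
    · rw [h]; exact AddSubgroup.mem_zmultiples _
    · rw [h]
      exact AddSubgroup.mem_zmultiples_iff.mpr ⟨-1, by simp⟩
  obtain ⟨ψ, hψ, hψ'⟩ := h1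
  exact exists_extension_of_retraction ρ hinv ψ hψ fun c => by rw [hψ', zpow_one]

/-- A representation whose restriction has the character of `ρ` can be conjugated to restrict to
`ρ` itself. -/
theorem exists_conj_restrict {N' P' : Type*} [Group N'] [Finite N'] [Group P'] (ι : N' →* P')
    {n m : ℕ}
    (ρ : Representation ℂ N' (Fin n → ℂ)) [ρ.IsIrreducible]
    (σ : Representation ℂ P' (Fin m → ℂ)) (h : ∀ a, σ.character (ι a) = ρ.character a) :
    ∃ σ' : Representation ℂ P' (Fin n → ℂ), ∀ a, σ' (ι a) = ρ a := by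
  classical
  cases nonempty_fintype N'
  let τ : Representation ℂ N' (Fin m → ℂ) := σ.comp ι
  have hτ : τ.character = ρ.character := funext h
  have hmn : m = n := by
    have := congrFun hτ 1
    rw [Representation.char_one, Representation.char_one] at this
    simpa using this
  subst hmn
  have h1 := classInner_irr_self (isIrrCharacter_character ρ)
  nth_rewrite 1 [← hτ] at h1
  rw [classInner_character ρ τ] at h1
  have h2 : Module.finrank ℂ (Representation.IntertwiningMap ρ τ) = 1 := by exact_mod_cast h1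
  obtain ⟨f, hf0, -⟩ := finrank_eq_one_iff'.mp h2
  let K : Subrepresentation ρ := ⟨LinearMap.ker f.toLinearMap, fun a v hv => by
    rw [LinearMap.mem_ker] at hv ⊢
    have := LinearMap.congr_fun (f.isIntertwining' a) v
    simp only [LinearMap.comp_apply] at this
    rw [this, hv, map_zero]⟩
  have hinj : Function.Injective f.toLinearMap := by
    rw [← LinearMap.ker_eq_bot]
    rcases ‹ρ.IsIrreducible›.eq_bot_or_eq_top K with hK | hK
    · exact congrArg Subrepresentation.toSubmodule hK
    · exfalso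
      apply hf0
      apply Representation.IntertwiningMap.ext
      apply LinearMap.ext
      intro v
      have : v ∈ LinearMap.ker f.toLinearMap := by
        rw [show LinearMap.ker f.toLinearMap = ⊤ from congrArg Subrepresentation.toSubmodule hK]
        trivial
      exact LinearMap.mem_ker.mp this
  let e := LinearEquiv.ofInjectiveEndo f.toLinearMap hinj
  refine ⟨repConj e.symm σ, fun a => ?_⟩
  apply LinearMap.ext
  intro v
  have := LinearMap.congr_fun (f.isIntertwining' a) v
  simp only [LinearMap.comp_apply] at this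
  show e.symm (σ (ι a) (e.symm.symm v)) = ρ a v
  rw [LinearEquiv.symm_symm, LinearEquiv.symm_apply_eq]
  exact this.symm

end Cfsg.Agent.H35.Extend
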