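import Cfsg.Agent.H35.MinMax
import Cfsg.Agent.H35.ClassSumNilpotent

/-!
# The Brauer homomorphism on central elements, and nilpotent class sums
-/

set_option autoImplicit false

open scoped ComplexConjugate
open MonoidAlgebra

namespace Cfsg.Agent.H35

open CharBasic BlockBasic

universe u

variable {p : ℕ} {M : Ideal AlgInt} {G : Type u} [Group G]

/-- Coefficientwise congruent central elements have congruent central characters. -/
theorem omega_congr_coeff [Fintype G] (hM : IsPModular p M) (χ : IrrCharacter G)
    {z w : MonoidAlgebra ℂ G} (hz : IsCentralElt z) (hw : IsCentralElt w)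
    (h : ∀ g, MemLocalIdeal M (z.coeff g - w.coeff g)) :
    MemLocalIdeal M (omega (χ : G → ℂ) z - omega (χ : G → ℂ) w) := by
  haveI : Finite (ConjClasses G) := Finite.of_surjective _ ConjClasses.mk_surjective
  haveI : Fintype (ConjClasses G) := Fintype.ofFinite _
  rw [omega_eq_sum_classes (IsIrr.isClassFunction χ.2) hz,
    omega_eq_sum_classes (IsIrr.isClassFunction χ.2) hw, ← Finset.sum_sub_distrib]
  refine memLocalIdeal_sum hM _ _ fun C _ => ?_
  rw [← sub_mul, mul_comm]
  exact memLocalIdeal_mul hM (memLocalRing_centralChar hM χ.2 _) (h _)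

theorem coeff_mul_sum [Fintype G] (a b : MonoidAlgebra ℂ G) (c : G) :
    (a * b).coeff c = ∑ u : G, a.coeff u * b.coeff (u⁻¹ * c) := by
  classical
  have hb : a = ∑ g : G, single g (a.coeff g) := by
    apply coeff_injective
    rw [coeff_sum]
    simp only [coeff_single]
    ext g
    simp [Finsupp.finsetSum_apply, Finsupp.single_apply]
  conv_lhs => rw [hb]
  rw [Finset.sum_mul, coeff_sum, Finsupp.finsetSum_apply]
  exact Finset.sum_congr rfl fun u _ => coeff_single_mul_apply _ _ _ _

/-- Coefficientwise congruence is compatible with multiplication. -/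
theorem mul_coeff_congr [Fintype G] (hM : IsPModular p M) {z z' w : MonoidAlgebra ℂ G}
    (hw : IsIntElt M w) (h : ∀ g, MemLocalIdeal M (z.coeff g - z'.coeff g)) (g : G) :
    MemLocalIdeal M ((z * w).coeff g - (z' * w).coeff g) := by
  rw [coeff_mul_sum, coeff_mul_sum, ← Finset.sum_sub_distrib]
  refine memLocalIdeal_sum hM _ _ fun u _ => ?_
  rw [← sub_mul, mul_comm]
  exact memLocalIdeal_mul hM (hw _) (h u)

/-- A central element, idempotent modulo the local ideal, all of whose central characters are in the
local ideal, vanishes modulo the local ideal. -/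
theorem coeff_mem_of_omega_mem [Finite G] [Fintype G] [Fact p.Prime] (hM : IsPModular p M)
    {w : MonoidAlgebra ℂ G} (hw : IsCentralElt w) (hwi : IsIntElt M w)
    (hidem : ∀ g, MemLocalIdeal M ((w * w).coeff g - w.coeff g))
    (h0 : ∀ χ : IrrCharacter G, MemLocalIdeal M (omega (χ : G → ℂ) w)) (g : G) :
    MemLocalIdeal M (w.coeff g) := by
  classical
  have hpow : ∀ N, 1 ≤ N → ∀ g, MemLocalIdeal M ((w ^ N).coeff g - w.coeff g) := by
    intro N hN
    induction N, hN using Nat.le_induction with
    | base => intro g; rw [pow_one, sub_self]; exact memLocalIdeal_zero hM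
    | succ N hN ih =>
      intro g
      have h1 := memLocalIdeal_add hM (mul_coeff_congr hM hwi ih g) (hidem g)
      rw [pow_succ]
      simpa using h1
  have hex : ∀ χ : IrrCharacter G, ∃ N : ℕ, ∃ r : ℂ, MemLocalRing M r ∧
      omega (χ : G → ℂ) w ^ N = (p : ℂ) * r := fun χ => exists_pow_eq_natCast_mul hM (h0 χ)
  choose N r hr hN using hex
  set a := (Nat.card G).factorization p
  set K := (a + 1) * (1 + ∑ χ : IrrCharacter G, N χ)
  have hK : 1 ≤ K := Nat.mul_pos (Nat.succ_pos _) (by omega)
  have hcoeff : MemLocalIdeal M ((w ^ K).coeff g) := by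
    rw [coeff_eq_sum_omega (hw.pow K)]
    obtain ⟨b, m, hm, hG⟩ := Nat.exists_eq_pow_mul_and_not_dvd (Nat.card_pos (α := G)).ne' p
      (Fact.out : p.Prime).ne_one
    have hb : a = b := by
      simp only [a, hG]
      rw [Nat.factorization_mul (pow_ne_zero _ (Fact.out : p.Prime).ne_zero)
        (fun h => hm (by rw [h]; exact dvd_zero p)), Nat.Prime.factorization_pow Fact.out]
      simp [Nat.factorization_eq_zero_of_not_dvd hm]
    rw [Finset.mul_sum]
    refine memLocalIdeal_sum hM _ _ fun χ _ => ?_
    rw [omega_pow χ.2 hw]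
    have hsplit : ∃ s : ℂ, MemLocalRing M s ∧
        omega (χ : G → ℂ) w ^ K = (p : ℂ) ^ (a + 1) * s := by
      have hle : N χ * (a + 1) ≤ K := by
        have := Finset.single_le_sum (f := N) (fun _ _ => Nat.zero_le _) (Finset.mem_univ χ)
        calc N χ * (a + 1) = (a + 1) * N χ := mul_comm _ _
          _ ≤ _ := Nat.mul_le_mul_left _ (by omega)
      refine ⟨r χ ^ (a + 1) * omega (χ : G → ℂ) w ^ (K - N χ * (a + 1)),
        memLocalRing_mul hM (pow_mem (mem_locRing (hM := hM).2 (hr χ)) _)
          (pow_mem (mem_locRing (hM := hM).2 (memLocalRing_omega hM χ.2 hw hwi)) _), ?_⟩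
      conv_lhs => rw [← Nat.add_sub_cancel' hle]
      rw [pow_add, pow_mul, hN χ, mul_pow]
      ring
    obtain ⟨s, hs, hse⟩ := hsplit
    rw [hse, hG, hb]
    push_cast
    have hp0 : (p : ℂ) ≠ 0 := by exact_mod_cast (Fact.out : p.Prime).ne_zero
    have hm0 : (m : ℂ) ≠ 0 := by
      exact_mod_cast (fun h => hm (by rw [h]; exact dvd_zero p) : m ≠ 0)
    have e : ((p : ℂ) ^ b * (m : ℂ))⁻¹ *
        ((χ : G → ℂ) 1 * ((p : ℂ) ^ (b + 1) * s) * conj ((χ : G → ℂ) g)) =
        ((m : ℂ)⁻¹ * (χ : G → ℂ) 1 * s * conj ((χ : G → ℂ) g)) * (p : ℂ) := by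
      field_simp
      ring
    rw [e]
    refine memLocalIdeal_mul hM ?_ ((memLocalIdeal_natCast_iff hM p).mpr dvd_rfl)
    refine memLocalRing_mul hM (memLocalRing_mul hM (memLocalRing_mul hM
      (memLocalRing_natCast_inv hM hm) (memLocalRing_of_isIntegral hM (isIntegral_apply χ 1))) hs)
      (memLocalRing_of_isIntegral hM (isIntegral_conj_apply χ g))
  simpa using memLocalIdeal_sub hM hcoeff (hpow K hK g)

/-- The truncation of a group algebra element to the part of `H` centralizing `P`. -/
noncomputable def trunc [Finite G] (P H : Subgroup G) (z : MonoidAlgebra ℂ G) :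
    MonoidAlgebra ℂ H :=
  ofFun fun h => by classical exact if (h : G) ∈ Subgroup.centralizer (P : Set G) then z.coeff h else 0

theorem coeff_trunc_of_mem [Finite G] (P H : Subgroup G) (z : MonoidAlgebra ℂ G) {h : H}
    (hh : (h : G) ∈ Subgroup.centralizer (P : Set G)) : (trunc P H z).coeff h = z.coeff h := by
  simp [trunc, hh]

theorem coeff_trunc_of_not_mem [Finite G] (P H : Subgroup G) (z : MonoidAlgebra ℂ G) {h : H}
    (hh : (h : G) ∉ Subgroup.centralizer (P : Set G)) : (trunc P H z).coeff h = 0 := by
  simp [trunc, hh]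

theorem isCentralElt_trunc [Finite G] {P H : Subgroup G}
    (hHN : H ≤ Subgroup.normalizer (P : Set G)) {z : MonoidAlgebra ℂ G} (hz : IsCentralElt z) :
    IsCentralElt (trunc P H z) := by
  intro g h
  have hiff : ∀ (c : H), ∀ x : G, x ∈ Subgroup.centralizer (P : Set G) →
      (c : G) * x * (c : G)⁻¹ ∈ Subgroup.centralizer (P : Set G) := by
    intro c x hx
    rw [Subgroup.mem_centralizer_iff] at hx ⊢
    intro q hq
    have hq' : (c : G)⁻¹ * q * c ∈ P := by
      have := (Subgroup.mem_normalizer_iff.mp (H.inv_mem c.2 |> fun h => hHN h) q).mp hq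
      simpa using this
    have := hx _ hq'
    calc q * ((c : G) * x * (c : G)⁻¹) = (c : G) * ((c : G)⁻¹ * q * c * x) * (c : G)⁻¹ := by group
      _ = (c : G) * (x * ((c : G)⁻¹ * q * c)) * (c : G)⁻¹ := by rw [this]
      _ = _ := by group
  by_cases hg : (g : G) ∈ Subgroup.centralizer (P : Set G)
  · simp only
    rw [coeff_trunc_of_mem P H z hg, coeff_trunc_of_mem P H z (by
      simpa using hiff h g hg)]
    simpa using hz (g : G) (h : G)
  · simp only
    rw [coeff_trunc_of_not_mem P H z hg, coeff_trunc_of_not_mem P H z (by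
      intro hc
      apply hg
      have := hiff h⁻¹ _ hc
      simpa [mul_assoc] using this)]

theorem isIntElt_trunc [Finite G] (hM : IsPModular p M) (P H : Subgroup G)
    {z : MonoidAlgebra ℂ G} (hz : IsIntElt M z) : IsIntElt M (trunc P H z) := by
  intro h
  by_cases hh : (h : G) ∈ Subgroup.centralizer (P : Set G)
  · rw [coeff_trunc_of_mem P H z hh]; exact hz _
  · rw [coeff_trunc_of_not_mem P H z hh]; exact (locRing hM).zero_mem

theorem trunc_one [Finite G] (P H : Subgroup G) : trunc P H 1 = 1 := by
  classical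
  apply coeff_injective
  ext h
  by_cases hh : h = 1
  · subst hh
    rw [coeff_trunc_of_mem P H 1 (by simp)]
    simp [MonoidAlgebra.one_def, coeff_single]
  · have hne : ((h : H) : G) ≠ 1 := fun e => hh (Subtype.ext e)
    by_cases hc : (h : G) ∈ Subgroup.centralizer (P : Set G)
    · rw [coeff_trunc_of_mem P H 1 hc]
      simp [MonoidAlgebra.one_def, coeff_single, Finsupp.single_apply, Ne.symm hh, Ne.symm hne]
    · rw [coeff_trunc_of_not_mem P H 1 hc]
      simp [MonoidAlgebra.one_def, coeff_single, Finsupp.single_apply, Ne.symm hh]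

/-- The Brauer homomorphism is multiplicative modulo the local ideal. -/
theorem trunc_mul [Finite G] [Fact p.Prime] (hM : IsPModular p M) {P H : Subgroup G} [Fintype H]
    (hP : IsPGroup p P) (hCH : Subgroup.centralizer (P : Set G) ≤ H) {z w : MonoidAlgebra ℂ G}
    (hz : IsCentralElt z) (hzi : IsIntElt M z) (hw : IsCentralElt w) (hwi : IsIntElt M w) (h : H) :
    MemLocalIdeal M ((trunc P H (z * w)).coeff h - (trunc P H z * trunc P H w).coeff h) := by
  classical
  cases nonempty_fintype G
  rw [coeff_mul_sum (trunc P H z)]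
  by_cases hh : (h : G) ∈ Subgroup.centralizer (P : Set G)
  · rw [coeff_trunc_of_mem P H _ hh, coeff_mul_sum z]
    let _ : SMul P G := ⟨fun q u => (q : G) * u * (q : G)⁻¹⟩
    let _ : MulAction P G :=
      { one_smul := fun u => by show ((1 : P) : G) * u * ((1 : P) : G)⁻¹ = u; simp
        mul_smul := fun a b u => by
          show ((a * b : P) : G) * u * ((a * b : P) : G)⁻¹ =
            (a : G) * ((b : G) * u * (b : G)⁻¹) * (a : G)⁻¹
          push_cast
          group }
    have hsum := sum_sub_fixed_mem (X := G) hM hP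
      (fun u => z.coeff u * w.coeff (u⁻¹ * (h : G)))
      (fun u => memLocalRing_mul hM (hzi u) (hwi _))
      (fun q u => by
        show z.coeff ((q : G) * u * (q : G)⁻¹) *
          w.coeff (((q : G) * u * (q : G)⁻¹)⁻¹ * (h : G)) = _
        have hq : (q : G) * (h : G) = (h : G) * q := Subgroup.mem_centralizer_iff.mp hh q q.2
        have hq' : (q : G)⁻¹ * (h : G) = (h : G) * (q : G)⁻¹ := by
          rw [inv_mul_eq_iff_eq_mul, ← mul_assoc, hq, mul_inv_cancel_right]
        have e : ((q : G) * u * (q : G)⁻¹)⁻¹ * (h : G) = (q : G) * (u⁻¹ * (h : G)) * (q : G)⁻¹ := by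
          simp only [mul_inv_rev, inv_inv, mul_assoc, hq']
        rw [e]
        exact congrArg₂ (· * ·) (hz u q) (hw _ q))
    convert hsum using 2
    let F : G → ℂ := fun u => if u ∈ Subgroup.centralizer (P : Set G) then
      z.coeff u * w.coeff (u⁻¹ * (h : G)) else 0
    have hterm : ∀ u : H, (trunc P H z).coeff u * (trunc P H w).coeff (u⁻¹ * h) = F (u : G) := by
      intro u
      by_cases hu : (u : G) ∈ Subgroup.centralizer (P : Set G)
      · rw [coeff_trunc_of_mem P H z hu, coeff_trunc_of_mem P H w (by
          push_cast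
          exact Subgroup.mul_mem _ (Subgroup.inv_mem _ hu) hh)]
        simp [F, hu]
      · rw [coeff_trunc_of_not_mem P H z hu]
        simp [F, hu]
    rw [Finset.sum_congr rfl (fun u _ => hterm u),
      ← Finset.sum_subtype (Finset.univ.filter fun u : G => u ∈ H) (by simp) F, Finset.sum_filter,
      Finset.sum_filter]
    refine Finset.sum_congr rfl fun u _ => ?_
    have hfix : u ∈ MulAction.fixedPoints P G ↔ u ∈ Subgroup.centralizer (P : Set G) := by
      rw [MulAction.mem_fixedPoints, Subgroup.mem_centralizer_iff]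
      exact ⟨fun h q hq => mul_inv_eq_iff_eq_mul.mp (h ⟨q, hq⟩),
        fun h q => mul_inv_eq_iff_eq_mul.mpr (h q q.2)⟩
    by_cases hu : u ∈ Subgroup.centralizer (P : Set G)
    · rw [if_pos (hCH hu), if_pos (hfix.mpr hu)]
      simp [F, hu]
    · rw [if_neg (fun h => hu (hfix.mp h))]
      simp [F, hu]
  · rw [coeff_trunc_of_not_mem P H _ hh]
    have : ∑ u : H, (trunc P H z).coeff u * (trunc P H w).coeff (u⁻¹ * h) = 0 := by
      refine Finset.sum_eq_zero fun u _ => ?_
      by_cases hu : (u : G) ∈ Subgroup.centralizer (P : Set G)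
      · rw [coeff_trunc_of_not_mem P H w (fun hc => hh (by
          have := Subgroup.mul_mem _ hu hc
          simpa using this)), mul_zero]
      · rw [coeff_trunc_of_not_mem P H z hu, zero_mul]
    rw [this, sub_zero]
    exact memLocalIdeal_zero hM

/-- The central character of a character of `H` composed with the Brauer homomorphism is
multiplicative modulo the local ideal. -/
theorem omega_trunc_mul [Finite G] [Fintype G] [Fact p.Prime] (hM : IsPModular p M)
    {P H : Subgroup G} [Fintype H] (hP : IsPGroup p P)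
    (hCH : Subgroup.centralizer (P : Set G) ≤ H) (hHN : H ≤ Subgroup.normalizer (P : Set G))
    (ξ : IrrCharacter H) {z w : MonoidAlgebra ℂ G} (hz : IsCentralElt z) (hzi : IsIntElt M z)
    (hw : IsCentralElt w) (hwi : IsIntElt M w) :
    MemLocalIdeal M (omega (ξ : H → ℂ) (trunc P H (z * w)) -
      omega (ξ : H → ℂ) (trunc P H z) * omega (ξ : H → ℂ) (trunc P H w)) := by
  rw [← omega_mul ξ.2 (isCentralElt_trunc hHN hz)]
  exact omega_congr_coeff hM ξ (isCentralElt_trunc hHN (hz.mul hw))
    ((isCentralElt_trunc hHN hz).mul (isCentralElt_trunc hHN hw))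
    (trunc_mul hM hP hCH hz hzi hw hwi)

/-- Every central character of `H` composed with the Brauer homomorphism is, modulo the local
ideal, a central character of `G`. -/
theorem exists_irr_trunc [Finite G] [Fintype G] [Fact p.Prime] (hM : IsPModular p M)
    {P H : Subgroup G} [Fintype H] (hP : IsPGroup p P)
    (hCH : Subgroup.centralizer (P : Set G) ≤ H) (hHN : H ≤ Subgroup.normalizer (P : Set G))
    (ξ : IrrCharacter H) :
    ∃ χ : IrrCharacter G, ∀ z : MonoidAlgebra ℂ G, IsCentralElt z → IsIntElt M z →
      MemLocalIdeal M (omega (ξ : H → ℂ) (trunc P H z) - omega (χ : G → ℂ) z) := by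
  classical
  by_contra hne
  push Not at hne
  choose z hz hzi hzne using hne
  set lam : MonoidAlgebra ℂ G → ℂ := fun w => omega (ξ : H → ℂ) (trunc P H w)
  have key : ∀ s : Finset (IrrCharacter G), ∃ u : MonoidAlgebra ℂ G, IsCentralElt u ∧ IsIntElt M u ∧
      (∀ χ ∈ s, omega (χ : G → ℂ) u = 0) ∧ ¬ MemLocalIdeal M (lam u) := by
    intro s
    induction s using Finset.induction with
    | empty =>
      refine ⟨1, IsCentralElt.one, isIntElt_one hM, fun χ h => absurd h (Finset.notMem_empty χ), ?_⟩
      simp only [lam, trunc_one, omega_one ξ.2]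
      exact not_memLocalIdeal_one hM
    | insert a s ha ih =>
      obtain ⟨u, hu, hui, hus, hune⟩ := ih
      set f := z a - omega (a : G → ℂ) (z a) • (1 : MonoidAlgebra ℂ G)
      have hf : IsCentralElt f := (hz a).sub (IsCentralElt.one.smul _)
      have hfi : IsIntElt M f :=
        (hzi a).sub hM ((isIntElt_one hM).smul hM (memLocalRing_omega hM a.2 (hz a) (hzi a)))
      refine ⟨f * u, hf.mul hu, hfi.mul hM hui, fun χ hχ => ?_, ?_⟩
      · rw [omega_mul χ.2 hf]
        rcases Finset.mem_insert.mp hχ with h | h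
        · subst h
          simp [f, omega_sub, omega_smul, omega_one χ.2]
        · rw [hus χ h, mul_zero]
      · intro hmem
        have h1 := omega_trunc_mul hM hP hCH hHN ξ hf hfi hu hui
        have h2 := memLocalIdeal_sub hM hmem h1
        rw [sub_sub_cancel, memLocalIdeal_mul_iff hM
          (memLocalRing_omega hM ξ.2 (isCentralElt_trunc hHN hf) (isIntElt_trunc hM P H hfi))
          (memLocalRing_omega hM ξ.2 (isCentralElt_trunc hHN hu) (isIntElt_trunc hM P H hui))] at h2
        rcases h2 with h2 | h2
        · apply hzne a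
          convert h2 using 1
          have e : trunc P H f = trunc P H (z a) - omega (a : G → ℂ) (z a) • trunc P H 1 := by
            apply coeff_injective
            ext h
            by_cases hh : (h : G) ∈ Subgroup.centralizer (P : Set G)
            · simp [f, coeff_trunc_of_mem P H _ hh]
            · simp [f, coeff_trunc_of_not_mem P H _ hh]
          rw [e, trunc_one, omega_sub, omega_smul, omega_one ξ.2, mul_one]
        · exact hune h2
  obtain ⟨u, hu, hui, hus, hune⟩ := key Finset.univ
  have hu0 : u = 0 := eq_of_omega_eq hu (fun g h => by simp) fun χ => by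
    rw [hus χ (Finset.mem_univ _)]; simp [omega, chiLin]
  apply hune
  have : trunc P H u = 0 := by
    apply coeff_injective
    ext h
    by_cases hh : (h : G) ∈ Subgroup.centralizer (P : Set G)
    · rw [coeff_trunc_of_mem P H _ hh, hu0]; simp
    · rw [coeff_trunc_of_not_mem P H _ hh]; simp
  simp only [lam, this]
  simpa [omega, chiLin] using memLocalIdeal_zero hM

/-- A class sum of elements none of which centralizes a normal `p`-subgroup has central
characters in the local ideal. -/
theorem centralChar_mem_of_no_centralizing [Finite G] [Fact p.Prime] (hM : IsPModular p M)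
    (Q : Subgroup G) [Q.Normal] (hQ : IsPGroup p Q) {g : G}
    (hg : ∀ x : G, IsConj g x → x ∉ Subgroup.centralizer (Q : Set G)) (χ : IrrCharacter G) :
    MemLocalIdeal M (centralChar (χ : G → ℂ) g) := by
  classical
  cases nonempty_fintype G
  haveI := locMax_isMaximal hM
  have hchar : CharP (locRing hM ⧸ locMax hM) p :=
    (CharP.charP_iff_prime_eq_zero (Fact.out : p.Prime)).mpr (by
      rw [← map_natCast (Ideal.Quotient.mk (locMax hM)), Ideal.Quotient.eq_zero_iff_mem]
      exact natCast_p_mem_locMax hM)
  let _ : Algebra (ZMod p) (locRing hM ⧸ locMax hM) := ZMod.algebra _ p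
  obtain ⟨N, hN⟩ := classSum_isNilpotent (p := p) hQ g hg (locRing hM ⧸ locMax hM)
  set z : MonoidAlgebra (locRing hM) G := classSumAlg (locRing hM) g
  have h1 : MonoidAlgebra.mapRingHom G (Ideal.Quotient.mk (locMax hM)) (z ^ N) = 0 := by
    rw [map_pow, ← hN]
    congr 1
    simp [z, classSumAlg, map_sum]
  have h2 : MonoidAlgebra.mapRingHom G (locRing hM).subtype (z ^ N) = classSum g ^ N := by
    rw [map_pow]
    congr 1
    apply coeff_injective
    ext h
    simp [z, classSumAlg, classSum, map_sum, coeff_sum, Finsupp.finsetSum_apply,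
      Finsupp.single_apply]
  have hco : ∀ h, MemLocalIdeal M ((classSum g ^ N).coeff h) := by
    intro h
    rw [← h2]
    simp only [MonoidAlgebra.coeff_mapRingHom, Finsupp.mapRange_apply]
    rw [Subring.coe_subtype, ← mem_locMax, ← Ideal.Quotient.eq_zero_iff_mem]
    have := congrArg (fun u => u.coeff h) h1
    simp only [MonoidAlgebra.coeff_mapRingHom] at this
    exact this
  have h3 := omega_congr_coeff hM χ ((isCentralElt_classSum g).pow N)
    (w := 0) (fun g h => by simp) (fun h => by simpa using hco h)
  rw [show omega (χ : G → ℂ) (0 : MonoidAlgebra ℂ G) = 0 by simp [omega, chiLin], sub_zero,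
    omega_pow χ.2 (isCentralElt_classSum g), omega_classSum (IsIrr.isClassFunction χ.2)] at h3
  by_contra hne
  have key : ∀ n, ¬ MemLocalIdeal M (centralChar (χ : G → ℂ) g ^ n) := by
    intro n
    induction n with
    | zero => simpa using not_memLocalIdeal_one hM
    | succ n ih =>
      rw [pow_succ, memLocalIdeal_mul_iff hM
        (pow_mem (mem_locRing (hM := hM).2 (memLocalRing_centralChar hM χ.2 g)) n)
        (memLocalRing_centralChar hM χ.2 g)]
      exact not_or.mpr ⟨ih, hne⟩
  exact key N h3

end Cfsg.Agent.H35
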