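import Cfsg.Agent.H35.AltPresentation
import Mathlib.GroupTheory.GroupAction.MultipleTransitivity
import Mathlib.GroupTheory.FiniteAbelian.Duality
import Mathlib.Analysis.Complex.Polynomial.Basic
import Mathlib.GroupTheory.Commutator.Basic

/-!
# The Schur multiplier of the alternating group: upper bound

A central extension of `A_n` (`n = 4, 5` or `n ≥ 8`) whose kernel is divisible and in which certain
commuting involutions lift to commuting elements splits.
-/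

set_option autoImplicit false

namespace Cfsg.Agent.H35.AltMult

open Equiv AltPres
open scoped commutatorElement

universe u

section Relations

variable {m : ℕ}

theorem coe_gen' (i : Fin m) : (gen m i : Perm (Fin (m + 2))) =
    (Arith.CoxeterA.permSystem (m + 1)).simple 0 *
      (Arith.CoxeterA.permSystem (m + 1)).simple i.succ := (simple_mul_simple m i).symm

theorem gen_inv_mul_gen_pow (i j : Fin m) (k : ℕ)
    (hk : CoxeterMatrix.A (m + 1) i.succ j.succ = k) : ((gen m i)⁻¹ * gen m j) ^ k = 1 := by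
  apply Subtype.ext
  rw [Subgroup.coe_pow, Subgroup.coe_mul, Subgroup.coe_inv, coe_gen', coe_gen', mul_inv_rev,
    CoxeterSystem.inv_simple, CoxeterSystem.inv_simple, mul_assoc,
    CoxeterSystem.simple_mul_simple_cancel_left, ← hk, CoxeterSystem.simple_mul_simple_pow,
    OneMemClass.coe_one]

theorem gen_adj {i j : Fin m} (h : (i : ℕ) + 1 = j) : ((gen m i)⁻¹ * gen m j) ^ 3 = 1 :=
  gen_inv_mul_gen_pow i j 3 (by
    rw [Arith.CoxeterA.matrix_eq, if_neg (by simp [Fin.ext_iff]; omega), if_pos (by simp; omega)])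

theorem gen_far {i j : Fin m} (h : (i : ℕ) + 2 ≤ j) : ((gen m i)⁻¹ * gen m j) ^ 2 = 1 :=
  gen_inv_mul_gen_pow i j 2 (by
    rw [Arith.CoxeterA.matrix_eq, if_neg (by simp [Fin.ext_iff]; omega), if_neg (by simp; omega)])

theorem gen_sq {i : Fin m} (h : (i : ℕ) ≠ 0) : gen m i * gen m i = 1 := by
  apply Subtype.ext
  have h1 := (Arith.CoxeterA.permSystem (m + 1)).simple_mul_simple_pow 0 i.succ
  rw [Arith.CoxeterA.matrix_eq, if_neg (by simp [Fin.ext_iff]), if_neg (by simp; omega), sq] at h1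
  rw [Subgroup.coe_mul, coe_gen', OneMemClass.coe_one]
  exact h1

theorem gen_cube {i : Fin m} (h : (i : ℕ) = 0) : gen m i ^ 3 = 1 := by
  apply Subtype.ext
  have h1 := (Arith.CoxeterA.permSystem (m + 1)).simple_mul_simple_pow 0 i.succ
  rw [Arith.CoxeterA.matrix_eq, if_neg (by simp [Fin.ext_iff]), if_pos (by simp; omega)] at h1
  rw [Subgroup.coe_pow, coe_gen', OneMemClass.coe_one]
  exact h1

theorem gen_invert {o i : Fin m} (ho : (o : ℕ) = 0) (h : 2 ≤ (i : ℕ)) :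
    gen m i * gen m o * (gen m i)⁻¹ = (gen m o)⁻¹ := by
  have h1 := gen_far (i := o) (j := i) (by omega)
  rw [sq] at h1
  have h2 : (gen m i)⁻¹ = gen m i := inv_eq_of_mul_eq_one_right (gen_sq (by omega))
  have h3 := inv_eq_of_mul_eq_one_right h1
  rw [mul_inv_rev, inv_inv, h2] at h3
  rw [h2]
  calc gen m i * gen m o * gen m i = (gen m o)⁻¹ * gen m i * gen m i := by rw [h3]
    _ = _ := by rw [mul_assoc, gen_sq (by omega), mul_one]

end Relations

section Split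

variable {D : Type u} [Group D] {m : ℕ} (π : D →* alternatingGroup (Fin (m + 2)))

theorem eq_mul_of_ker {x y : D} (h : π x = π y) : x * y⁻¹ ∈ π.ker := by
  rw [MonoidHom.mem_ker, map_mul, map_inv, h, mul_inv_cancel]

variable (hcen : π.ker ≤ Subgroup.center D)

include hcen

theorem ker_comm {z : D} (hz : z ∈ π.ker) (x : D) : z * x = x * z :=
  (Subgroup.mem_center_iff.1 (hcen hz) x).symm

theorem ker_mul_pow {z : D} (hz : z ∈ π.ker) (x : D) (k : ℕ) : (z * x) ^ k = z ^ k * x ^ k :=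
  (show Commute z x from ker_comm π hcen hz x).mul_pow k

theorem cube_sq_eq_one {a b : D} (ha : a * a = 1) (hb : b * b = 1) (h : (a⁻¹ * b) ^ 3 ∈ π.ker) :
    ((a⁻¹ * b) ^ 3) ^ 2 = 1 := by
  have ha' : a⁻¹ = a := inv_eq_of_mul_eq_one_right ha
  have hb' : b⁻¹ = b := inv_eq_of_mul_eq_one_right hb
  rw [ha'] at h ⊢
  have h1 : a * (a * b) ^ 3 * a⁻¹ = ((a * b) ^ 3)⁻¹ := by
    rw [← conj_pow, ← inv_pow, mul_inv_rev, hb', ha', ← mul_assoc a a, ha, one_mul]
  rw [← ker_comm π hcen h a, mul_inv_cancel_right] at h1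
  rw [sq]
  exact mul_eq_one_iff_eq_inv.2 h1

theorem exists_section (hπ : Function.Surjective π) (hroot2 : ∀ z ∈ π.ker, ∃ w ∈ π.ker, w ^ 2 = z)
    (hroot3 : ∀ z ∈ π.ker, ∃ w ∈ π.ker, w ^ 3 = z) (hm : m = 2 ∨ m = 3 ∨ 6 ≤ m)
    (hfar : ∀ i j : Fin m, 1 ≤ (i : ℕ) → (i : ℕ) + 2 ≤ j →
      ∀ a b : D, π a = gen m i → π b = gen m j → a * b = b * a)
    (h0 : m ≤ 3 → ∀ (i j : Fin m), (i : ℕ) = 0 → (j : ℕ) = 1 → ∀ X Y : D, π X = gen m i →
      π Y = gen m j → X ^ 3 = 1 → Y * Y = 1 → ((X⁻¹ * Y) ^ 3) ^ 2 = 1) :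
    ∃ σ : alternatingGroup (Fin (m + 2)) →* D, ∀ g, π (σ g) = g := by
  classical
  have hm2 : 2 ≤ m := by omega
  set o : Fin m := ⟨0, by omega⟩ with ho
  set i1 : Fin m := ⟨1, by omega⟩ with hi1
  -- lifts of the generators
  have hlift : ∀ i : Fin m, ∃ y : D, π y = gen m i ∧ ((i : ℕ) ≠ 0 → y * y = 1) ∧
      ((i : ℕ) = 0 → y ^ 3 = 1) := by
    intro i
    obtain ⟨y, hy⟩ := hπ (gen m i)
    by_cases hi : (i : ℕ) = 0
    · obtain ⟨w, hw, hw3⟩ := hroot3 (y ^ 3)⁻¹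
        (by rw [MonoidHom.mem_ker, map_inv, map_pow, hy, gen_cube hi, inv_one])
      refine ⟨w * y, by rw [map_mul, hw, one_mul, hy], fun h => absurd hi h, fun _ => ?_⟩
      rw [ker_mul_pow π hcen hw, hw3, inv_mul_cancel]
    · obtain ⟨w, hw, hw2⟩ := hroot2 (y ^ 2)⁻¹
        (by rw [MonoidHom.mem_ker, map_inv, map_pow, hy, sq, gen_sq hi, inv_one])
      refine ⟨w * y, by rw [map_mul, hw, one_mul, hy], fun _ => ?_, fun h => absurd h hi⟩
      rw [← sq, ker_mul_pow π hcen hw, hw2, inv_mul_cancel]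
  choose Y hY hY2 hY3 using hlift
  have hYinv : ∀ i : Fin m, (i : ℕ) ≠ 0 → (Y i)⁻¹ = Y i := fun i hi =>
    inv_eq_of_mul_eq_one_right (hY2 i hi)
  -- the twisting scalars of the element of order three
  set k : Fin m → D := fun i => Y o * (Y i * Y o * (Y i)⁻¹) with hk
  have hkker : ∀ i : Fin m, 2 ≤ (i : ℕ) → k i ∈ π.ker := fun i hi => by
    rw [MonoidHom.mem_ker, hk, map_mul, map_mul, map_mul, map_inv, hY, hY,
      gen_invert rfl hi, mul_inv_cancel]
  have hkconj : ∀ i : Fin m, Y i * Y o * (Y i)⁻¹ = (Y o)⁻¹ * k i := fun i => by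
    rw [hk]; group
  have hk3 : ∀ i : Fin m, 2 ≤ (i : ℕ) → k i ^ 3 = 1 := fun i hi => by
    have h1 : (Y i * Y o * (Y i)⁻¹) ^ 3 = 1 := by
      rw [conj_pow, hY3 o rfl, mul_one, mul_inv_cancel]
    rw [hkconj, ← ker_comm π hcen (hkker i hi), ker_mul_pow π hcen (hkker i hi), inv_pow,
      hY3 o rfl, inv_one, mul_one] at h1
    exact h1
  have hcomm : ∀ i j : Fin m, 1 ≤ (i : ℕ) → (i : ℕ) + 2 ≤ j → Y i * Y j = Y j * Y i :=
    fun i j hi hij => hfar i j hi hij _ _ (hY i) (hY j)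
  have hkeq : ∀ i j : Fin m, 2 ≤ (i : ℕ) → (i : ℕ) + 2 ≤ j → k i = k j := by
    intro i j hi hij
    have hTT : (Y i * Y j) * (Y i * Y j) = 1 := by
      rw [mul_assoc, ← mul_assoc (Y j), ← hcomm i j (by omega) hij, mul_assoc, hY2 j (by omega),
        mul_one, hY2 i (by omega)]
    set w := (k i)⁻¹ * k j with hw
    have hwker : w ∈ π.ker := mul_mem (inv_mem (hkker i hi)) (hkker j (by omega))
    have hT : (Y i * Y j) * Y o * (Y i * Y j)⁻¹ = w * Y o := by
      rw [show (Y i * Y j) * Y o * (Y i * Y j)⁻¹ = Y i * (Y j * Y o * (Y j)⁻¹) * (Y i)⁻¹ by group,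
        hkconj j, ← ker_comm π hcen (hkker j (by omega)), ← mul_assoc (Y i),
        ← ker_comm π hcen (hkker j (by omega)) (Y i), mul_assoc (k j), mul_assoc (k j),
        show Y i * (Y o)⁻¹ * (Y i)⁻¹ = (Y i * Y o * (Y i)⁻¹)⁻¹ by group, hkconj, mul_inv_rev,
        inv_inv, ← mul_assoc, hw,
        ker_comm π hcen (inv_mem (hkker i hi)) (k j)]
    have hw2 : w ^ 2 = 1 := by
      have h1 : (Y i * Y j) * (w * Y o) * (Y i * Y j)⁻¹ = Y o := by
        rw [← hT, show ∀ a b : D, a * (a * b * a⁻¹) * a⁻¹ = (a * a) * b * (a * a)⁻¹ from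
          fun a b => by group, hTT]
        simp
      rw [← mul_assoc _ w, ← ker_comm π hcen hwker, mul_assoc w, mul_assoc w, hT, ← mul_assoc,
        ← sq] at h1
      exact mul_eq_right.1 h1
    have hw3 : w ^ 3 = 1 := by
      rw [hw, ker_mul_pow π hcen (inv_mem (hkker i hi)), inv_pow, hk3 i hi, hk3 j (by omega),
        inv_one, one_mul]
    rw [pow_succ, hw2, one_mul] at hw3
    exact inv_mul_eq_one.1 hw3
  obtain ⟨κ, hκker, hκ3, hκ⟩ : ∃ κ : D, κ ∈ π.ker ∧ κ ^ 3 = 1 ∧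
      ∀ i : Fin m, 2 ≤ (i : ℕ) → k i = κ := by
    rcases hm with h | h | h
    · exact ⟨1, one_mem _, one_pow 3, fun i hi => absurd i.2 (by omega)⟩
    · exact ⟨k ⟨2, by omega⟩, hkker _ le_rfl, hk3 _ le_rfl, fun i hi => congrArg k
        (Fin.ext (by have := i.2; simp only; omega))⟩
    · refine ⟨k ⟨2, by omega⟩, hkker _ le_rfl, hk3 _ le_rfl, fun i hi => ?_⟩
      rcases Nat.lt_or_ge (i : ℕ) 4 with h4 | h4
      · rcases Nat.lt_or_ge (i : ℕ) 3 with h3 | h3
        · exact congrArg k (Fin.ext (by simp only; omega))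
        · exact (hkeq i ⟨5, by omega⟩ hi (by simp only; omega)).trans
            (hkeq ⟨2, by omega⟩ ⟨5, by omega⟩ le_rfl (by simp)).symm
      · exact (hkeq ⟨2, by omega⟩ i le_rfl (by simp only; omega)).symm
  set X := κ * Y o with hX
  have hX3 : X ^ 3 = 1 := by rw [hX, ker_mul_pow π hcen hκker, hκ3, hY3 o rfl, one_mul]
  have hπX : π X = gen m o := by rw [hX, map_mul, hκker, one_mul, hY]
  have hinv : ∀ i : Fin m, 2 ≤ (i : ℕ) → Y i * X * (Y i)⁻¹ = X⁻¹ := by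
    intro i hi
    rw [hX, ← mul_assoc (Y i), ← ker_comm π hcen hκker (Y i), mul_assoc κ, mul_assoc κ, hkconj,
      hκ i hi, ← ker_comm π hcen hκker (Y o)⁻¹, ← mul_assoc, mul_inv_rev,
      ← ker_comm π hcen (inv_mem hκker) (Y o)⁻¹]
    congr 1
    rw [eq_inv_iff_mul_eq_one, ← sq, ← pow_succ]
    exact hκ3
  -- the constants of the adjacent pairs
  let Z : Fin m → D := fun i => if (i : ℕ) = 0 then X else Y i
  have hπZ : ∀ i, π (Z i) = gen m i := by
    intro i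
    by_cases hi : (i : ℕ) = 0
    · rw [show Z i = X from if_pos hi, hπX, show i = o from Fin.ext hi]
    · rw [show Z i = Y i from if_neg hi, hY]
  let cst : ℕ → D := fun l =>
    if h : l + 1 < m then ((Z ⟨l, by omega⟩)⁻¹ * Z ⟨l + 1, h⟩) ^ 3 else 1
  have hcst : ∀ l, cst l ∈ π.ker ∧ cst l ^ 2 = 1 := by
    intro l
    by_cases hl : l + 1 < m
    · have hker : ((Z ⟨l, by omega⟩)⁻¹ * Z ⟨l + 1, hl⟩) ^ 3 ∈ π.ker := by
        rw [MonoidHom.mem_ker, map_pow, map_mul, map_inv, hπZ, hπZ, gen_adj rfl]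
      rw [show cst l = _ from dif_pos hl]
      refine ⟨hker, ?_⟩
      have hb : Z ⟨l + 1, hl⟩ = Y ⟨l + 1, hl⟩ := if_neg (Nat.succ_ne_zero l)
      by_cases hl0 : l = 0
      · subst hl0
        have ha : Z ⟨0, by omega⟩ = X := if_pos rfl
        rw [ha, hb] at hker ⊢
        by_cases hm3 : m ≤ 3
        · exact h0 hm3 o ⟨1, hl⟩ rfl rfl X _ hπX (hY _) hX3 (hY2 _ one_ne_zero)
        set j : Fin m := ⟨3, by omega⟩
        set c := (X⁻¹ * Y ⟨0 + 1, hl⟩) ^ 3 with hc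
        have h1 : Y j * (X⁻¹ * Y ⟨0 + 1, hl⟩) * (Y j)⁻¹ = X * Y ⟨0 + 1, hl⟩ := by
          rw [show Y j * (X⁻¹ * Y ⟨0 + 1, hl⟩) * (Y j)⁻¹ =
              (Y j * X * (Y j)⁻¹)⁻¹ * (Y j * Y ⟨0 + 1, hl⟩ * (Y j)⁻¹) by group,
            hinv j (by simp [j]), inv_inv,
            ← hcomm ⟨0 + 1, hl⟩ j (by simp) (by simp [j]), mul_inv_cancel_right]
        have h2 : (X * Y ⟨0 + 1, hl⟩) ^ 3 = c := by
          rw [← h1, conj_pow, ← hc, ← ker_comm π hcen hker, mul_inv_cancel_right]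
        have h3 : c⁻¹ = c := by
          calc c⁻¹ = ((X⁻¹ * Y ⟨0 + 1, hl⟩)⁻¹) ^ 3 := by rw [hc, inv_pow]
            _ = (Y ⟨0 + 1, hl⟩ * X) ^ 3 := by
              rw [mul_inv_rev, inv_inv, hYinv _ (by simp)]
            _ = X⁻¹ * (X * Y ⟨0 + 1, hl⟩) ^ 3 * X⁻¹⁻¹ := by
              rw [← conj_pow]; congr 1; group
            _ = c := by rw [h2, ← ker_comm π hcen hker, mul_inv_cancel_right]
        rw [sq]
        exact mul_eq_one_iff_eq_inv.2 h3.symm
      · rw [show Z ⟨l, by omega⟩ = Y ⟨l, by omega⟩ from if_neg hl0, hb] at hker ⊢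
        exact cube_sq_eq_one π hcen (hY2 _ hl0) (hY2 _ (Nat.succ_ne_zero l)) hker
    · rw [show cst l = 1 from dif_neg hl]
      exact ⟨one_mem _, one_pow 2⟩
  -- the signs
  let sgn : ℕ → D := fun i => Nat.rec 1 (fun l z => cst l * z) i
  have hsgn : ∀ i, sgn i ∈ π.ker ∧ sgn i ^ 2 = 1 := by
    intro i
    induction i with
    | zero => exact ⟨one_mem _, one_pow 2⟩
    | succ l ih =>
      refine ⟨mul_mem (hcst l).1 ih.1, ?_⟩
      show (cst l * sgn l) ^ 2 = 1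
      rw [ker_mul_pow π hcen (hcst l).1, (hcst l).2, ih.2, one_mul]
  let U : Fin m → D := fun i => sgn i * Z i
  have hU : ∀ i, π (U i) = gen m i := fun i => by
    rw [map_mul, (hsgn i).1, one_mul, hπZ]
  have hsplit : ∀ (i j : Fin m) (k : ℕ), ((U i)⁻¹ * U j) ^ k =
      ((sgn i)⁻¹ * sgn j) ^ k * ((Z i)⁻¹ * Z j) ^ k := by
    intro i j k
    rw [← ker_mul_pow π hcen (mul_mem (inv_mem (hsgn i).1) (hsgn j).1)]
    congr 1
    show (sgn i * Z i)⁻¹ * (sgn j * Z j) = _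
    rw [mul_inv_rev, ← ker_comm π hcen (inv_mem (hsgn i).1), mul_assoc, ← mul_assoc (Z i)⁻¹,
      ← ker_comm π hcen (hsgn j).1 (Z i)⁻¹]
    group
  have hsq : ∀ i : Fin m, (i : ℕ) ≠ 0 → U i * U i = 1 := by
    intro i hi
    rw [← sq, ker_mul_pow π hcen (hsgn i).1, (hsgn i).2, one_mul, sq,
      show Z i = Y i from if_neg hi, hY2 i hi]
  have hcube : ∀ i : Fin m, (i : ℕ) = 0 → U i ^ 3 = 1 := by
    intro i hi
    rw [ker_mul_pow π hcen (hsgn i).1, show sgn (i : ℕ) = 1 by rw [hi]; rfl, one_pow, one_mul,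
      show Z i = X from if_pos hi, hX3]
  have hadj : ∀ i j : Fin m, (i : ℕ) + 1 = j → ((U i)⁻¹ * U j) ^ 3 = 1 := by
    intro i j hij
    rw [hsplit]
    have h1 : (sgn i)⁻¹ * sgn j = cst i := by
      rw [← hij]
      show (sgn i)⁻¹ * (cst i * sgn i) = cst i
      rw [ker_comm π hcen (hcst i).1, inv_mul_cancel_left]
    have h2 : ((Z i)⁻¹ * Z j) ^ 3 = cst i := by
      rw [show cst (i : ℕ) = _ from dif_pos (hij ▸ j.2)]
      congr 3
      exact Fin.ext hij.symm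
    rw [h1, h2, pow_succ, (hcst i).2, one_mul, ← sq, (hcst i).2]
  have hfar' : ∀ i j : Fin m, (i : ℕ) + 2 ≤ j → ((U i)⁻¹ * U j) ^ 2 = 1 := by
    intro i j hij
    rw [hsplit, ker_mul_pow π hcen (inv_mem (hsgn i).1), inv_pow, (hsgn i).2, (hsgn j).2, inv_one,
      one_mul, one_mul, show Z j = Y j from if_neg (by omega)]
    by_cases hi : (i : ℕ) = 0
    · rw [show Z i = X from if_pos hi, sq]
      have h1 : Y j * X⁻¹ * (Y j)⁻¹ = X := by
        rw [show Y j * X⁻¹ * (Y j)⁻¹ = (Y j * X * (Y j)⁻¹)⁻¹ by group, hinv j (by omega), inv_inv]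
      rw [hYinv j (by omega)] at h1
      rw [mul_assoc, ← mul_assoc (Y j), h1, inv_mul_cancel]
    · rw [show Z i = Y i from if_neg hi, hYinv i hi, sq, mul_assoc, ← mul_assoc (Y j),
        ← hcomm i j (by omega) hij, mul_assoc, hY2 j (by omega), mul_one, hY2 i hi]
  obtain ⟨σ, hσ⟩ := AltPres.exists_hom m U hsq hcube hadj hfar'
  refine ⟨σ, fun g => ?_⟩
  have h : π.comp σ = MonoidHom.id _ := MonoidHom.eq_of_eqOn_dense (closure_gen m) (by
    rintro _ ⟨i, rfl⟩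
    show π (σ (gen m i)) = gen m i
    rw [hσ, hU])
  exact DFunLike.congr_fun h g

end Split

end Cfsg.Agent.H35.AltMult
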