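import Cfsg.Agent.H35.AltMultiplier
import Mathlib.RingTheory.RootsOfUnity.AlgebraicallyClosed
import Mathlib.GroupTheory.Abelianization.Defs

/-!
# The kernel of a stem extension of the alternating group has order at most two
-/

set_option autoImplicit false

namespace Cfsg.Agent.H35.AltMult

open Equiv AltPres
open scoped commutatorElement

universe u

variable {Γ : Type u} [Group Γ] {m : ℕ} (π : Γ →* alternatingGroup (Fin (m + 2)))
  (hcen : π.ker ≤ Subgroup.center Γ)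

include hcen

/-- Commutators only depend on the images. -/
theorem comm_congr {a a' b b' : Γ} (ha : π a = π a') (hb : π b = π b') : ⁅a, b⁆ = ⁅a', b'⁆ := by
  obtain ⟨z, hz, rfl⟩ : ∃ z ∈ π.ker, a = z * a' :=
    ⟨a * a'⁻¹, eq_mul_of_ker π ha, by group⟩
  obtain ⟨w, hw, rfl⟩ : ∃ w ∈ π.ker, b = w * b' :=
    ⟨b * b'⁻¹, eq_mul_of_ker π hb, by group⟩
  rw [commutatorElement_def, commutatorElement_def, mul_inv_rev, mul_inv_rev]
  calc z * a' * (w * b') * (a'⁻¹ * z⁻¹) * (b'⁻¹ * w⁻¹)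
      = z * (a' * w * b' * a'⁻¹) * z⁻¹ * (b'⁻¹ * w⁻¹) := by group
    _ = a' * w * b' * a'⁻¹ * (b'⁻¹ * w⁻¹) := by
        rw [ker_comm π hcen hz, mul_inv_cancel_right]
    _ = w * (a' * b' * a'⁻¹ * b'⁻¹) * w⁻¹ := by
        rw [← ker_comm π hcen hw a']; group
    _ = a' * b' * a'⁻¹ * b'⁻¹ := by rw [ker_comm π hcen hw, mul_inv_cancel_right]

theorem comm_sq {a b : Γ} (ha : π a * π a = 1) (h : π a * π b = π b * π a) :
    ⁅a, b⁆ * ⁅a, b⁆ = 1 := by
  have hz : ⁅a, b⁆ ∈ π.ker := by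
    rw [MonoidHom.mem_ker, map_commutatorElement, commutatorElement_eq_one_iff_mul_comm]
    exact h
  have hzc := ker_comm π hcen hz
  have h1 : a * b * a⁻¹ = ⁅a, b⁆ * b := by rw [commutatorElement_def]; group
  have haa : a * a ∈ π.ker := by rw [MonoidHom.mem_ker, map_mul, ha]
  have h2 : (a * a) * b * (a * a)⁻¹ = b := by
    rw [ker_comm π hcen haa, mul_inv_cancel_right]
  rw [show (a * a) * b * (a * a)⁻¹ = a * (a * b * a⁻¹) * a⁻¹ by group, h1, ← mul_assoc a,
    ← hzc a, mul_assoc ⁅a, b⁆, mul_assoc ⁅a, b⁆, h1, ← mul_assoc] at h2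
  exact mul_eq_right.1 h2

/-- The second criterion: all the relevant commutators lie in one cyclic subgroup. -/
theorem ker_le_zpowers [Finite Γ] (hπ : Function.Surjective π) (hd : π.ker ≤ commutator Γ)
    (hm : m = 2 ∨ m = 3 ∨ 6 ≤ m) {e : Γ} (he : e ∈ π.ker)
    (hfar : ∀ i j : Fin m, 1 ≤ (i : ℕ) → (i : ℕ) + 2 ≤ j →
      ∀ a b : Γ, π a = gen m i → π b = gen m j → ⁅a, b⁆ ∈ Subgroup.zpowers e)
    (h0 : m ≤ 3 → ∀ (i j : Fin m), (i : ℕ) = 0 → (j : ℕ) = 1 → ∀ x y : Γ, π x = gen m i →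
      π y = gen m j → ⁅x⁻¹ * y * x, x * y * x⁻¹⁆ ∈ Subgroup.zpowers e ∧
        ⁅x⁻¹ * y * x, y⁆ ∈ Subgroup.zpowers e ∧ ⁅x * y * x⁻¹, y⁆ ∈ Subgroup.zpowers e) :
    π.ker ≤ Subgroup.zpowers e := by
  classical
  intro z hz
  by_contra hzE
  letI : CommGroup π.ker :=
    { (inferInstance : Group π.ker) with
      mul_comm := fun a b => Subtype.ext (ker_comm π hcen a.2 b) }
  set E := (Subgroup.zpowers e).subgroupOf π.ker
  haveI : HasEnoughRootsOfUnity ℂ (Monoid.exponent (π.ker ⧸ E)) := by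
    haveI : NeZero (Monoid.exponent (π.ker ⧸ E)) := ⟨Monoid.exponent_ne_zero_of_finite⟩
    infer_instance
  obtain ⟨φ, hφ⟩ := CommGroup.exists_apply_ne_one_of_hasEnoughRootsOfUnity (π.ker ⧸ E) ℂ
    (a := QuotientGroup.mk ⟨z, hz⟩) (by rwa [Ne, QuotientGroup.eq_one_iff, Subgroup.mem_subgroupOf])
  set χ : π.ker →* ℂˣ := φ.comp (QuotientGroup.mk' E) with hχ
  have hχE : ∀ w : π.ker, (w : Γ) ∈ Subgroup.zpowers e → χ w = 1 := by
    intro w hw
    show φ (QuotientGroup.mk w) = 1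
    rw [(QuotientGroup.eq_one_iff w).2 (Subgroup.mem_subgroupOf.2 hw), map_one]
  -- the push-out
  let ι : π.ker →* Γ × ℂˣ := π.ker.subtype.prod χ⁻¹
  haveI : ι.range.Normal := ⟨by
    rintro _ ⟨w, rfl⟩ g
    refine ⟨w, Prod.ext ?_ ?_⟩
    · show (w : Γ) = g.1 * w * g.1⁻¹
      rw [← ker_comm π hcen w.2, mul_inv_cancel_right]
    · show (χ w)⁻¹ = g.2 * (χ w)⁻¹ * g.2⁻¹
      rw [mul_inv_cancel_comm]⟩
  let πD : (Γ × ℂˣ) ⧸ ι.range →* alternatingGroup (Fin (m + 2)) :=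
    QuotientGroup.lift ι.range (π.comp (MonoidHom.fst Γ ℂˣ)) (by
      rintro _ ⟨w, rfl⟩
      exact w.2)
  have hmk : ∀ (x : Γ) (c : ℂˣ), πD (QuotientGroup.mk (x, c)) = π x := fun _ _ => rfl
  have hmove : ∀ (w : π.ker) (c : ℂˣ),
      (QuotientGroup.mk ((w : Γ), c) : (Γ × ℂˣ) ⧸ ι.range) = QuotientGroup.mk (1, χ w * c) := by
    intro w c
    rw [QuotientGroup.eq]
    refine ⟨w⁻¹, Prod.ext ?_ ?_⟩
    · show ((w⁻¹ : π.ker) : Γ) = (w : Γ)⁻¹ * 1
      simp
    · show (χ w⁻¹)⁻¹ = c⁻¹ * (χ w * c)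
      rw [map_inv, inv_inv, mul_comm (χ w), inv_mul_cancel_left]
  have hkD : ∀ d, d ∈ πD.ker → ∃ c : ℂˣ, d = QuotientGroup.mk ((1 : Γ), c) := by
    intro d hd
    obtain ⟨⟨x, c⟩, rfl⟩ := QuotientGroup.mk_surjective d
    exact ⟨χ ⟨x, hd⟩ * c, hmove ⟨x, hd⟩ c⟩
  have hcenD : πD.ker ≤ Subgroup.center _ := by
    intro d hd
    obtain ⟨c, rfl⟩ := hkD d hd
    rw [Subgroup.mem_center_iff]
    intro g
    obtain ⟨⟨x, c'⟩, rfl⟩ := QuotientGroup.mk_surjective g
    rw [← QuotientGroup.mk_mul, ← QuotientGroup.mk_mul]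
    exact congrArg _ (Prod.ext (by simp) (mul_comm _ _))
  have hroot : ∀ (k : ℕ), 0 < k → ∀ d ∈ πD.ker, ∃ w ∈ πD.ker, w ^ k = d := by
    intro k hk d hd
    obtain ⟨c, rfl⟩ := hkD d hd
    obtain ⟨r, hr⟩ := IsAlgClosed.exists_pow_nat_eq (c : ℂ) hk
    have hr0 : r ≠ 0 := by
      rintro rfl
      rw [zero_pow hk.ne'] at hr
      exact c.ne_zero hr.symm
    refine ⟨QuotientGroup.mk (1, Units.mk0 r hr0), by rw [MonoidHom.mem_ker, hmk, map_one], ?_⟩
    rw [← QuotientGroup.mk_pow]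
    exact congrArg _ (Prod.ext (one_pow k) (Units.ext (by simpa using hr)))
  have hcomm : ∀ (a b : (Γ × ℂˣ) ⧸ ι.range) (x y : Γ), πD a = π x → πD b = π y →
      π x * π y = π y * π x → ⁅x, y⁆ ∈ Subgroup.zpowers e → a * b = b * a := by
    intro a b x y ha hb hxy hmem
    obtain ⟨⟨x', c⟩, rfl⟩ := QuotientGroup.mk_surjective a
    obtain ⟨⟨y', d⟩, rfl⟩ := QuotientGroup.mk_surjective b
    rw [hmk] at ha hb
    rw [← comm_congr π hcen ha hb] at hmem
    have hk : ⁅x', y'⁆ ∈ π.ker := by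
      rw [MonoidHom.mem_ker, map_commutatorElement, commutatorElement_eq_one_iff_mul_comm, ha, hb,
        hxy]
    rw [← commutatorElement_eq_one_iff_mul_comm, ← QuotientGroup.mk'_apply (N := ι.range),
      ← QuotientGroup.mk'_apply (N := ι.range), ← map_commutatorElement, QuotientGroup.mk'_apply,
      QuotientGroup.eq_one_iff]
    refine ⟨⟨_, hk⟩, Prod.ext rfl ?_⟩
    show (χ ⟨_, hk⟩)⁻¹ = ⁅c, d⁆
    rw [hχE _ hmem, inv_one, eq_comm, commutatorElement_eq_one_iff_mul_comm]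
    exact mul_comm c d
  have hsurj : Function.Surjective πD := fun g => by
    obtain ⟨x, hx⟩ := hπ g
    exact ⟨QuotientGroup.mk (x, 1), hx⟩
  obtain ⟨σ, hσ⟩ := exists_section πD hcenD hsurj (hroot 2 two_pos) (hroot 3 (by norm_num)) hm
    (fun i j hi hij a b ha hb => by
      obtain ⟨x, hx⟩ := hπ (gen m i)
      obtain ⟨y, hy⟩ := hπ (gen m j)
      refine hcomm a b x y (ha.trans hx.symm) (hb.trans hy.symm) ?_ (hfar i j hi hij x y hx hy)
      have h1 := gen_far hij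
      rw [sq, inv_eq_of_mul_eq_one_right (gen_sq (i := i) (by omega))] at h1
      rw [hx, hy]
      calc gen m i * gen m j = (gen m i * gen m j)⁻¹ := (mul_eq_one_iff_eq_inv.1 h1)
        _ = _ := by rw [mul_inv_rev, inv_eq_of_mul_eq_one_right (gen_sq (i := i) (by omega)),
          inv_eq_of_mul_eq_one_right (gen_sq (i := j) (by omega))])
    (fun hm3 i j hi hj X Y hX hY hX3 hY2 => by
      obtain ⟨x, hx⟩ := hπ (gen m i)
      obtain ⟨y, hy⟩ := hπ (gen m j)
      obtain ⟨h1, h2, h3⟩ := h0 hm3 i j hi hj x y hx hy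
      have e1 : πD (X⁻¹ * Y * X) = π (x⁻¹ * y * x) := by
        simp only [map_mul, map_inv, hX, hY, hx, hy]
      have e2 : πD (X * Y * X⁻¹) = π (x * y * x⁻¹) := by
        simp only [map_mul, map_inv, hX, hY, hx, hy]
      have e3 : πD Y = π y := hY.trans hy.symm
      have hker : (X⁻¹ * Y) ^ 3 ∈ πD.ker := by
        rw [MonoidHom.mem_ker, map_pow, map_mul, map_inv, hX, hY, gen_adj (by omega)]
      set a := X⁻¹ * Y * X
      set b := X * Y * X⁻¹
      have hc : (X⁻¹ * Y) ^ 3 = a * b * Y := by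
        have hX2 : X * X = X⁻¹ := by
          rw [eq_inv_iff_mul_eq_one, ← sq, ← pow_succ]; exact hX3
        simp only [a, b, pow_succ, pow_zero, one_mul, mul_assoc]
        rw [← mul_assoc X X, hX2]
      have ha2 : a * a = 1 := by
        show X⁻¹ * Y * X * (X⁻¹ * Y * X) = 1
        rw [show X⁻¹ * Y * X * (X⁻¹ * Y * X) = X⁻¹ * (Y * Y) * X by group, hY2]
        group
      have hb2 : b * b = 1 := by
        show X * Y * X⁻¹ * (X * Y * X⁻¹) = 1
        rw [show X * Y * X⁻¹ * (X * Y * X⁻¹) = X * (Y * Y) * X⁻¹ by group, hY2]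
        group
      have hπab : π (x⁻¹ * y * x) * π (x * y * x⁻¹) = π (x * y * x⁻¹) * π (x⁻¹ * y * x) ∧
          π (x⁻¹ * y * x) * π y = π y * π (x⁻¹ * y * x) ∧
          π (x * y * x⁻¹) * π y = π y * π (x * y * x⁻¹) := by
        rw [← e1, ← e2, ← e3]
        have h1 : πD a * πD b * πD Y = 1 := by
          rw [← map_mul, ← map_mul, ← hc]; exact hker
        have hA : (πD a)⁻¹ = πD a := inv_eq_of_mul_eq_one_right (by rw [← map_mul, ha2, map_one])
        have hB : (πD b)⁻¹ = πD b := inv_eq_of_mul_eq_one_right (by rw [← map_mul, hb2, map_one])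
        have hC : (πD Y)⁻¹ = πD Y := inv_eq_of_mul_eq_one_right (by rw [← map_mul, hY2, map_one])
        have hab : πD a * πD b = πD Y := by rw [← hC]; exact mul_eq_one_iff_eq_inv.1 h1
        have hba : πD b * πD a = πD Y := by
          rw [← hC, ← hab, mul_inv_rev, hA, hB]
        refine ⟨hab.trans hba.symm, ?_, ?_⟩
        · calc πD a * πD Y = πD a * (πD a * πD b) := by rw [hab]
            _ = πD b := by rw [← mul_assoc, ← map_mul, ha2, map_one, one_mul]
            _ = πD b * πD a * πD a := by rw [mul_assoc, ← map_mul, ha2, map_one, mul_one]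
            _ = _ := by rw [hba]
        · calc πD b * πD Y = πD b * (πD b * πD a) := by rw [hba]
            _ = πD a := by rw [← mul_assoc, ← map_mul, hb2, map_one, one_mul]
            _ = πD a * πD b * πD b := by rw [mul_assoc, ← map_mul, hb2, map_one, mul_one]
            _ = _ := by rw [hab]
      have c1 := hcomm a b _ _ e1 e2 hπab.1 h1
      have c2 := hcomm a Y _ _ e1 e3 hπab.2.1 h2
      have c3 := hcomm b Y _ _ e2 e3 hπab.2.2 h3
      rw [hc, sq, show a * b * Y * (a * b * Y) = a * b * (Y * a) * b * Y by group, ← c2,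
        show a * b * (a * Y) * b * Y = a * (b * a) * Y * b * Y by group, ← c1,
        show a * (a * b) * Y * b * Y = a * a * b * (Y * b) * Y by group, ← c3,
        show a * a * b * (b * Y) * Y = (a * a) * (b * b) * (Y * Y) by group, ha2, hb2, hY2,
        one_mul, one_mul])
  -- the extension of `χ` to a homomorphism
  have hdiff : ∀ x : Γ, QuotientGroup.mk (x, (1 : ℂˣ)) * (σ (π x))⁻¹ ∈ πD.ker := fun x => by
    rw [MonoidHom.mem_ker, map_mul, map_inv, hmk, hσ, mul_inv_cancel]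
  let ρ : Γ →* (Γ × ℂˣ) ⧸ ι.range := MonoidHom.mk'
    (fun x => QuotientGroup.mk (x, (1 : ℂˣ)) * (σ (π x))⁻¹) fun x y => by
      rw [map_mul π, map_mul σ, mul_inv_rev,
        show (QuotientGroup.mk (x * y, (1 : ℂˣ)) : (Γ × ℂˣ) ⧸ ι.range) =
          QuotientGroup.mk (x, 1) * QuotientGroup.mk (y, 1) by
            rw [← QuotientGroup.mk_mul]; simp,
        mul_assoc, ← mul_assoc (QuotientGroup.mk (y, (1 : ℂˣ))), ker_comm πD hcenD (hdiff y),
        ← mul_assoc]
  have hρcomm : commutator Γ ≤ ρ.ker := by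
    rw [commutator_def, Subgroup.commutator_le]
    intro a _ b _
    rw [MonoidHom.mem_ker, map_commutatorElement, commutatorElement_eq_one_iff_mul_comm]
    exact ker_comm πD hcenD (hdiff a) _
  have h1 : ρ z = 1 := hρcomm (hd hz)
  change QuotientGroup.mk (z, (1 : ℂˣ)) * (σ (π z))⁻¹ = 1 at h1
  rw [show π z = 1 from hz, map_one, inv_one, mul_one, hmove ⟨z, hz⟩, mul_one,
    QuotientGroup.eq_one_iff] at h1
  obtain ⟨w, hw⟩ := h1
  have hw1 : w = 1 := Subtype.ext (congrArg Prod.fst hw)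
  apply hφ
  show χ ⟨z, hz⟩ = 1
  rw [← show (χ w)⁻¹ = χ ⟨z, hz⟩ from congrArg Prod.snd hw, hw1, map_one, inv_one]

omit hcen in
/-- Conjugacy of the pairs of commuting generators. -/
theorem exists_conj_pair {i j : Fin m} (hi : 1 ≤ (i : ℕ)) (hij : (i : ℕ) + 2 ≤ j) (p q : Fin m)
    (hp : (p : ℕ) = 1) (hq : (q : ℕ) = 3) : ∃ g : alternatingGroup (Fin (m + 2)),
      g * gen m p * g⁻¹ = gen m i ∧ g * gen m q * g⁻¹ = gen m j := by
  let f : Fin 6 → Fin (m + 2) := fun t => ⟨t, by omega⟩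
  let h : Fin 6 → Fin (m + 2) := ![⟨0, by omega⟩, ⟨1, by omega⟩, ⟨i + 1, by omega⟩,
    ⟨i + 2, by omega⟩, ⟨j + 1, by omega⟩, ⟨j + 2, by omega⟩]
  have hinj : Function.Injective h := by
    intro a b hab
    have hv := congrArg Fin.val hab
    fin_cases a <;> fin_cases b <;> simp [h] at hv ⊢ <;> omega
  haveI := Equiv.Perm.isMultiplyPretransitive (α := Fin (m + 2)) (n := 6)
  obtain ⟨s, hs⟩ := MulAction.exists_smul_eq (Perm (Fin (m + 2)))
    (⟨f, fun a b hab => Fin.ext (by simpa [f] using congrArg Fin.val hab)⟩ : Fin 6 ↪ Fin (m + 2))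
    (⟨h, hinj⟩ : Fin 6 ↪ Fin (m + 2))
  have hst : ∀ t : Fin 6, s (f t) = h t := fun t => DFunLike.congr_fun hs t
  have key : ∀ g : Perm (Fin (m + 2)), (g = s ∨ g = s * swap (f 2) (f 3)) →
      g * (gen m p : Perm (Fin (m + 2))) * g⁻¹ = gen m i ∧
        g * (gen m q : Perm (Fin (m + 2))) * g⁻¹ = gen m j := by
    intro g hg
    have e : ∀ t : ℕ, ∀ ht : t + 1 < 6, swp (m + 2) t = swap (f ⟨t, by omega⟩) (f ⟨t + 1, ht⟩) :=
      fun t ht => by rw [swp_eq (by omega)]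
    have ep : (gen m p : Perm (Fin (m + 2))) = swap (f 0) (f 1) * swap (f 2) (f 3) := by
      rw [coe_gen, e 0 (by norm_num), show (p : ℕ) + 1 = 2 by omega, e 2 (by norm_num)]
      rfl
    have eq : (gen m q : Perm (Fin (m + 2))) = swap (f 0) (f 1) * swap (f 4) (f 5) := by
      rw [coe_gen, e 0 (by norm_num), show (q : ℕ) + 1 = 4 by omega, e 4 (by norm_num)]
      rfl
    have hconj : ∀ (c : Perm (Fin (m + 2))) (a b a' b' : Fin (m + 2)),
        c * (swap a b * swap a' b') * c⁻¹ = swap (c a) (c b) * swap (c a') (c b') := by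
      intro c a b a' b'
      rw [swap_apply_apply, swap_apply_apply]
      group
    have hc : swap (f 2) (f 3) * (gen m p : Perm (Fin (m + 2))) * (swap (f 2) (f 3))⁻¹ = gen m p ∧
        swap (f 2) (f 3) * (gen m q : Perm (Fin (m + 2))) * (swap (f 2) (f 3))⁻¹ = gen m q := by
      have h0 : swap (f 2) (f 3) (f 0) = f 0 :=
        swap_apply_of_ne_of_ne (by simp [f, Fin.ext_iff]) (by simp [f, Fin.ext_iff])
      have h1 : swap (f 2) (f 3) (f 1) = f 1 :=
        swap_apply_of_ne_of_ne (by simp [f, Fin.ext_iff]) (by simp [f, Fin.ext_iff])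
      have h4 : swap (f 2) (f 3) (f 4) = f 4 :=
        swap_apply_of_ne_of_ne (by simp [f, Fin.ext_iff]) (by simp [f, Fin.ext_iff])
      have h5 : swap (f 2) (f 3) (f 5) = f 5 :=
        swap_apply_of_ne_of_ne (by simp [f, Fin.ext_iff]) (by simp [f, Fin.ext_iff])
      rw [ep, eq, hconj, hconj, h0, h1, h4, h5, swap_apply_left, swap_apply_right,
        swap_comm (f 3) (f 2)]
      exact ⟨rfl, rfl⟩
    have hs' : s * (gen m p : Perm (Fin (m + 2))) * s⁻¹ = gen m i ∧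
        s * (gen m q : Perm (Fin (m + 2))) * s⁻¹ = gen m j := by
      rw [ep, eq, hconj, hconj, hst, hst, hst, hst, hst, hst, coe_gen, coe_gen,
        swp_eq (by omega : 0 + 1 < m + 2), swp_eq (by omega : (i : ℕ) + 1 + 1 < m + 2),
        swp_eq (by omega : (j : ℕ) + 1 + 1 < m + 2)]
      exact ⟨rfl, rfl⟩
    rcases hg with rfl | rfl
    · exact hs'
    · constructor
      · rw [show s * swap (f 2) (f 3) * (gen m p : Perm (Fin (m + 2))) * (s * swap (f 2) (f 3))⁻¹ =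
          s * (swap (f 2) (f 3) * gen m p * (swap (f 2) (f 3))⁻¹) * s⁻¹ by group, hc.1, hs'.1]
      · rw [show s * swap (f 2) (f 3) * (gen m q : Perm (Fin (m + 2))) * (s * swap (f 2) (f 3))⁻¹ =
          s * (swap (f 2) (f 3) * gen m q * (swap (f 2) (f 3))⁻¹) * s⁻¹ by group, hc.2, hs'.2]
  rcases Int.units_eq_one_or (Perm.sign s) with hsg | hsg
  · exact ⟨⟨s, Perm.mem_alternatingGroup.2 hsg⟩, Subtype.ext (key s (Or.inl rfl)).1,
      Subtype.ext (key s (Or.inl rfl)).2⟩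
  · have hsg' : Perm.sign (s * swap (f 2) (f 3)) = 1 := by
      rw [map_mul, hsg, Perm.sign_swap (by simp [f, Fin.ext_iff])]; rfl
    exact ⟨⟨_, Perm.mem_alternatingGroup.2 hsg'⟩, Subtype.ext (key _ (Or.inr rfl)).1,
      Subtype.ext (key _ (Or.inr rfl)).2⟩

/-- The kernel of a stem extension has at most two elements. -/
theorem card_ker_le_two [Finite Γ] (hπ : Function.Surjective π) (hd : π.ker ≤ commutator Γ)
    (hm : m = 2 ∨ m = 3 ∨ 6 ≤ m) : Nat.card π.ker ≤ 2 := by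
  classical
  suffices h : ∃ e : Γ, e * e = 1 ∧ π.ker ≤ Subgroup.zpowers e by
    obtain ⟨e, he, hle⟩ := h
    refine (Nat.le_of_dvd Nat.card_pos (Subgroup.card_dvd_of_le hle)).trans ?_
    rw [Nat.card_zpowers]
    exact orderOf_le_of_pow_eq_one two_pos (by rw [sq, he])
  by_cases hm3 : m ≤ 3
  · obtain ⟨x, hx⟩ := hπ (gen m ⟨0, by omega⟩)
    obtain ⟨y, hy⟩ := hπ (gen m ⟨1, by omega⟩)
    set a := x⁻¹ * y * x with ha
    set b := x * y * x⁻¹ with hb
    have hy2 : π y * π y = 1 := by rw [hy, gen_sq (by simp)]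
    have hx3 : π x ^ 3 = 1 := by rw [hx, gen_cube rfl]
    have hxx : π x * π x = (π x)⁻¹ := by
      rw [eq_inv_iff_mul_eq_one, ← sq, ← pow_succ]; exact hx3
    have hprod : π a * π b * π y = 1 := by
      have h1 : (π x⁻¹ * π y) ^ 3 = 1 := by
        rw [map_inv, hx, hy, gen_adj rfl]
      rw [← h1, ha, hb]
      simp only [map_mul, map_inv, pow_succ, pow_zero, one_mul, mul_assoc]
      rw [← mul_assoc (π x) (π x), hxx]
    have hA : π a * π a = 1 := by
      rw [ha, ← map_mul, show x⁻¹ * y * x * (x⁻¹ * y * x) = x⁻¹ * (y * y) * x by group,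
        map_mul, map_mul, map_mul, hy2, mul_one, ← map_mul, inv_mul_cancel, map_one]
    have hB : π b * π b = 1 := by
      rw [hb, ← map_mul, show x * y * x⁻¹ * (x * y * x⁻¹) = x * (y * y) * x⁻¹ by group,
        map_mul, map_mul, map_mul, hy2, mul_one, ← map_mul, mul_inv_cancel, map_one]
    have hab : π a * π b = π b * π a := by
      have h1 := mul_eq_one_iff_eq_inv.1 hprod
      rw [inv_eq_of_mul_eq_one_right hy2] at h1
      conv_rhs => rw [← inv_eq_of_mul_eq_one_right hA, ← inv_eq_of_mul_eq_one_right hB,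
        ← mul_inv_rev, h1, inv_eq_of_mul_eq_one_right hy2]
      exact h1
    have hby : π b * π y = π y * π b := by
      have h1 : π a = (π b * π y)⁻¹ := by
        rw [eq_inv_iff_mul_eq_one, ← mul_assoc, hprod]
      calc π b * π y = (π a)⁻¹ := by rw [h1, inv_inv]
        _ = (π b * π y)⁻¹ := by rw [inv_eq_of_mul_eq_one_right hA, h1]
        _ = _ := by rw [mul_inv_rev, inv_eq_of_mul_eq_one_right hB, inv_eq_of_mul_eq_one_right hy2]
    refine ⟨⁅y, b⁆, comm_sq π hcen hy2 hby.symm, ?_⟩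
    have heK : ⁅y, b⁆ ∈ π.ker := by
      rw [MonoidHom.mem_ker, map_commutatorElement, commutatorElement_eq_one_iff_mul_comm]
      exact hby.symm
    have hconj : ∀ (g : Γ) (u v : Γ), ⁅u, v⁆ ∈ π.ker → ⁅g * u * g⁻¹, g * v * g⁻¹⁆ = ⁅u, v⁆ := by
      intro g u v huv
      rw [show ⁅g * u * g⁻¹, g * v * g⁻¹⁆ = g * ⁅u, v⁆ * g⁻¹ by
        simp only [commutatorElement_def]; group, ← ker_comm π hcen huv, mul_inv_cancel_right]
    have hcyc : π (x * b * x⁻¹) = π a := by
      rw [ha, hb]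
      simp only [map_mul, map_inv, mul_assoc]
      rw [← mul_assoc (π x) (π x), hxx, show (π x)⁻¹ * (π x)⁻¹ = π x by
        rw [← mul_inv_rev, hxx, inv_inv]]
    have hya : π (x⁻¹ * y * x) = π a := by rw [ha]
    have h1 : ⁅b, a⁆ = ⁅y, b⁆ := by
      rw [← hconj x y b heK]
      exact comm_congr π hcen rfl hcyc.symm
    have h2 : ⁅a, y⁆ = ⁅y, b⁆ := by
      rw [← hconj x⁻¹ y b heK, inv_inv]
      refine comm_congr π hcen rfl ?_
      rw [hb, show x⁻¹ * (x * y * x⁻¹) * x = y by group]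
    refine ker_le_zpowers π hcen hπ hd hm heK (fun i j hi hij => absurd j.2 (by omega))
      fun _ i j hi hj x' y' hx' hy' => ?_
    have hxe : π x' = π x := hx'.trans ((congrArg (gen m) (Fin.ext hi)).trans hx.symm)
    have hye : π y' = π y := hy'.trans ((congrArg (gen m) (Fin.ext hj)).trans hy.symm)
    have ea : π (x'⁻¹ * y' * x') = π a := by simp only [ha, map_mul, map_inv, hxe, hye]
    have eb : π (x' * y' * x'⁻¹) = π b := by simp only [hb, map_mul, map_inv, hxe, hye]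
    refine ⟨?_, ?_, ?_⟩
    · rw [comm_congr π hcen ea eb, show ⁅a, b⁆ = ⁅y, b⁆⁻¹ by rw [← h1, commutatorElement_inv]]
      exact inv_mem (Subgroup.mem_zpowers _)
    · rw [comm_congr π hcen ea hye, h2]
      exact Subgroup.mem_zpowers _
    · rw [comm_congr π hcen eb hye, show ⁅b, y⁆ = ⁅y, b⁆⁻¹ from (commutatorElement_inv y b).symm]
      exact inv_mem (Subgroup.mem_zpowers _)
  · obtain ⟨a, ha⟩ := hπ (gen m ⟨1, by omega⟩)
    obtain ⟨b, hb⟩ := hπ (gen m ⟨3, by omega⟩)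
    have hab : π a * π b = π b * π a := by
      have h1 := gen_far (i := (⟨1, by omega⟩ : Fin m)) (j := ⟨3, by omega⟩) (by simp)
      rw [sq, inv_eq_of_mul_eq_one_right (gen_sq (i := (⟨1, by omega⟩ : Fin m)) (by simp))] at h1
      rw [ha, hb]
      conv_rhs => rw [← inv_eq_of_mul_eq_one_right (gen_sq (i := (⟨3, by omega⟩ : Fin m)) (by simp)),
        ← inv_eq_of_mul_eq_one_right (gen_sq (i := (⟨1, by omega⟩ : Fin m)) (by simp)),
        ← mul_inv_rev]
      exact mul_eq_one_iff_eq_inv.1 h1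
    have heK : ⁅a, b⁆ ∈ π.ker := by
      rw [MonoidHom.mem_ker, map_commutatorElement, commutatorElement_eq_one_iff_mul_comm]
      exact hab
    refine ⟨⁅a, b⁆, comm_sq π hcen (by rw [ha, gen_sq (by simp)]) hab,
      ker_le_zpowers π hcen hπ hd hm heK (fun i j hi hij a' b' ha' hb' => ?_)
        (fun h => absurd h hm3)⟩
    obtain ⟨g, hg1, hg2⟩ := exists_conj_pair hi hij (⟨1, by omega⟩ : Fin m) ⟨3, by omega⟩ rfl rfl
    obtain ⟨s, hs⟩ := hπ g
    have e : ⁅a', b'⁆ = ⁅a, b⁆ := by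
      rw [comm_congr π hcen (a' := s * a * s⁻¹) (b' := s * b * s⁻¹)
        (by rw [ha', map_mul, map_mul, map_inv, hs, ha, hg1])
        (by rw [hb', map_mul, map_mul, map_inv, hs, hb, hg2]),
        show ⁅s * a * s⁻¹, s * b * s⁻¹⁆ = s * ⁅a, b⁆ * s⁻¹ by
          simp only [commutatorElement_def]; group,
        ← ker_comm π hcen heK, mul_inv_cancel_right]
    rw [e]
    exact Subgroup.mem_zpowers _

end Cfsg.Agent.H35.AltMult
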