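import Cfsg.Agent.Arith.CoxeterA
import Mathlib.GroupTheory.SpecificGroups.Alternating
import Mathlib.GroupTheory.SemidirectProduct

/-!
# A presentation of the alternating group

Generators `u i = (0 1) (i+1 i+2)` with the relations inherited from the Coxeter presentation of
the symmetric group: a family satisfying them gives a homomorphism.
-/

set_option autoImplicit false

namespace Cfsg.Agent.H35.AltPres

open Equiv

/-- The adjacent transposition `(i i+1)`. -/
def swp (n i : ℕ) : Perm (Fin n) :=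
  if h : i + 1 < n then swap ⟨i, by omega⟩ ⟨i + 1, h⟩ else 1

theorem swp_eq {n i : ℕ} (h : i + 1 < n) : swp n i = swap ⟨i, by omega⟩ ⟨i + 1, h⟩ := dif_pos h

theorem swp_eq_castSucc {k : ℕ} (i : Fin k) : swp (k + 1) i = swap i.castSucc i.succ := by
  rw [swp_eq (by omega)]
  rfl

theorem sign_swp {n i : ℕ} (h : i + 1 < n) : Perm.sign (swp n i) = -1 := by
  rw [swp_eq h, Perm.sign_swap]
  simp [Fin.ext_iff]

/-- The generators of the alternating group. -/
def gen (m : ℕ) (i : Fin m) : alternatingGroup (Fin (m + 2)) :=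
  ⟨swp (m + 2) 0 * swp (m + 2) (i + 1), Perm.mem_alternatingGroup.2 (by
    rw [map_mul, sign_swp (by omega), sign_swp (by omega)]; rfl)⟩

theorem coe_gen (m : ℕ) (i : Fin m) :
    (gen m i : Perm (Fin (m + 2))) = swp (m + 2) 0 * swp (m + 2) (i + 1) := rfl

theorem simple_mul_simple (m : ℕ) (i : Fin m) :
    (Arith.CoxeterA.permSystem (m + 1)).simple 0 * (Arith.CoxeterA.permSystem (m + 1)).simple i.succ
      = (gen m i : Perm (Fin (m + 2))) := by
  rw [Arith.CoxeterA.permSystem_simple, Arith.CoxeterA.permSystem_simple, coe_gen,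
    ← swp_eq_castSucc, ← swp_eq_castSucc]
  simp

/-- The generators generate. -/
theorem closure_gen (m : ℕ) : Subgroup.closure (Set.range (gen m)) = ⊤ := by
  set cs := Arith.CoxeterA.permSystem (m + 1) with hcs
  set S := (Subgroup.closure (Set.range (gen m))).map (alternatingGroup (Fin (m + 2))).subtype with hS
  have hgen : ∀ i : Fin m, cs.simple 0 * cs.simple i.succ ∈ S := fun i =>
    ⟨gen m i, Subgroup.subset_closure ⟨i, rfl⟩, (simple_mul_simple m i).symm⟩
  have hall : ∀ g : Perm (Fin (m + 2)), g ∈ S ∨ cs.simple 0 * g ∈ S := by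
    intro g
    induction g using cs.simple_induction_left with
    | one => exact Or.inl (one_mem _)
    | mul_simple_left w i ih =>
      rcases Fin.eq_zero_or_eq_succ i with rfl | ⟨j, rfl⟩
      · rw [cs.simple_mul_simple_cancel_left]
        exact ih.symm
      · rcases ih with h | h
        · exact Or.inr (by rw [← mul_assoc]; exact mul_mem (hgen j) h)
        · left
          have h1 := mul_mem (S.inv_mem (hgen j)) h
          rwa [mul_inv_rev, cs.inv_simple, cs.inv_simple, mul_assoc,
            cs.simple_mul_simple_cancel_left] at h1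
  rw [eq_top_iff]
  intro g _
  rcases hall g with h | ⟨t, ht, he⟩
  · obtain ⟨t, ht, he⟩ := h
    rwa [← Subtype.ext he]
  · exfalso
    have h1 := congrArg Perm.sign he
    rw [Subgroup.subtype_apply, map_mul, show Perm.sign (t : Perm (Fin (m + 2))) = 1 from Perm.mem_alternatingGroup.1 t.2,
      show Perm.sign (g : Perm (Fin (m + 2))) = 1 from Perm.mem_alternatingGroup.1 g.2, mul_one,
      hcs, Arith.CoxeterA.permSystem_simple, Perm.sign_swap (by simp [Fin.ext_iff])] at h1
    exact absurd h1 (by decide)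

theorem pow_eq_one_of_conj {D : Type*} [Group D] {a b : D} {k : ℕ} (h : (a⁻¹ * b) ^ k = 1) :
    (a * b⁻¹) ^ k = 1 := by
  rw [show a * b⁻¹ = a * (a⁻¹ * b)⁻¹ * a⁻¹ by group, conj_pow, inv_pow, h, inv_one, mul_one,
    mul_inv_cancel]

theorem pow_eq_one_comm {D : Type*} [Group D] {a b : D} {k : ℕ} (h : (a⁻¹ * b) ^ k = 1) :
    (b⁻¹ * a) ^ k = 1 := by
  rw [show b⁻¹ * a = (a⁻¹ * b)⁻¹ by group, inv_pow, h, inv_one]

/-- A family satisfying the relations gives a homomorphism. -/
theorem exists_hom {D : Type*} [Group D] (m : ℕ) (U : Fin m → D)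
    (hsq : ∀ i : Fin m, (i : ℕ) ≠ 0 → U i * U i = 1)
    (hcube : ∀ i : Fin m, (i : ℕ) = 0 → U i ^ 3 = 1)
    (hadj : ∀ i j : Fin m, (i : ℕ) + 1 = j → ((U i)⁻¹ * U j) ^ 3 = 1)
    (hfar : ∀ i j : Fin m, (i : ℕ) + 2 ≤ j → ((U i)⁻¹ * U j) ^ 2 = 1) :
    ∃ σ : alternatingGroup (Fin (m + 2)) →* D, ∀ i, σ (gen m i) = U i := by
  classical
  set c : MulAut (D × D) := MulEquiv.prodComm with hc
  have hc2 : c * c = 1 := MulEquiv.ext fun x => rfl
  let C := Subgroup.zpowers c
  let c' : C := ⟨c, Subgroup.mem_zpowers c⟩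
  have hc'2 : c' * c' = 1 := Subtype.ext hc2
  have hC : ∀ y : C, y * y = 1 := by
    rintro ⟨y, k, rfl⟩
    apply Subtype.ext
    show c ^ k * c ^ k = 1
    rw [← (Commute.refl c).mul_zpow, hc2, one_zpow]
  let V : Fin (m + 1) → D × D := Fin.cases 1 fun i => ((U i)⁻¹, U i)
  let T : Fin (m + 1) → SemidirectProduct (D × D) C C.subtype := fun i => ⟨V i, c'⟩
  have hV : ∀ i, c (V i) = (V i)⁻¹ := by
    intro i
    refine Fin.cases ?_ (fun j => ?_) i
    · simp [V]
    · show Prod.swap ((U j)⁻¹, U j) = ((U j)⁻¹, U j)⁻¹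
      simp
  have hTT : ∀ i j, T i * T j = SemidirectProduct.inl (V i * (V j)⁻¹) := by
    intro i j
    refine SemidirectProduct.ext ?_ ?_
    · rw [SemidirectProduct.mul_left, SemidirectProduct.left_inl]
      show V i * c (V j) = _
      rw [hV]
    · rw [SemidirectProduct.mul_right, SemidirectProduct.right_inl]
      exact hc'2
  have hpow : ∀ (a b : D) (k : ℕ), (a⁻¹ * b) ^ k = 1 →
      (((a⁻¹, a) : D × D) * ((b⁻¹, b) : D × D)⁻¹) ^ k = 1 := by
    intro a b k h
    apply Prod.ext
    · simpa using h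
    · simpa using pow_eq_one_of_conj h
  have hlift : (CoxeterMatrix.A (m + 1)).IsLiftable T := by
    intro i j
    rw [hTT, ← map_pow, Arith.CoxeterA.matrix_eq]
    suffices h : (V i * (V j)⁻¹) ^
        (if i = j then 1 else if (j : ℕ) + 1 = i ∨ (i : ℕ) + 1 = j then 3 else 2) = 1 by
      rw [h, map_one]
    rcases Fin.eq_zero_or_eq_succ i with rfl | ⟨a, rfl⟩ <;>
      rcases Fin.eq_zero_or_eq_succ j with rfl | ⟨b, rfl⟩
    · simp
    · rw [if_neg (Fin.succ_ne_zero b).symm]
      show ((1 : D × D) * ((U b)⁻¹, U b)⁻¹) ^ _ = 1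
      split_ifs with h
      · apply Prod.ext <;> simp [inv_pow, hcube b (by simp at h; omega)]
      · have hb : (b : ℕ) ≠ 0 := fun e => h (Or.inr (by simp [e]))
        apply Prod.ext <;> simp [sq, hsq b hb, inv_eq_one, ← mul_inv_rev]
    · rw [if_neg (Fin.succ_ne_zero a)]
      show (((U a)⁻¹, U a) * (1 : D × D)⁻¹) ^ _ = 1
      split_ifs with h
      · apply Prod.ext <;> simp [inv_pow, hcube a (by simp at h; omega)]
      · have ha : (a : ℕ) ≠ 0 := fun e => h (Or.inl (by simp [e]))
        apply Prod.ext <;> simp [sq, hsq a ha, ← mul_inv_rev]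
    · show (((U a)⁻¹, U a) * ((U b)⁻¹, U b)⁻¹) ^ _ = 1
      apply hpow
      split_ifs with h1 h2
      · rw [Fin.succ_inj.1 h1]; simp
      · simp only [Fin.val_succ] at h2
        rcases h2 with h | h
        · exact pow_eq_one_comm (hadj b a (by omega))
        · exact hadj a b (by omega)
      · simp only [Fin.val_succ, not_or] at h2
        have hne : (a : ℕ) ≠ b := fun e => h1 (congrArg Fin.succ (Fin.ext e))
        rcases Nat.lt_or_gt_of_ne hne with h | h
        · exact hfar a b (by omega)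
        · exact pow_eq_one_comm (hfar b a (by omega))
  let cs := Arith.CoxeterA.permSystem (m + 1)
  let f := cs.lift ⟨T, hlift⟩
  have hright : ∀ g ∈ alternatingGroup (Fin (m + 2)), (f g).right = 1 := by
    intro g hg
    have h : alternatingGroup (Fin (m + 2)) ≤ (SemidirectProduct.rightHom.comp f).ker := by
      rw [← Perm.closure_three_cycles_eq_alternating, Subgroup.closure_le]
      intro t ht
      have h3 : t ^ 3 = 1 := by rw [← Perm.IsThreeCycle.orderOf ht]; exact pow_orderOf_eq_one t
      have h1 := congrArg (SemidirectProduct.rightHom.comp f) h3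
      rw [map_pow, map_one, pow_succ, sq, hC, one_mul] at h1
      exact h1
    exact h hg
  let σ : alternatingGroup (Fin (m + 2)) →* D :=
    { toFun := fun g => (f g).left.1
      map_one' := by simp
      map_mul' := fun g h => by
        rw [Subgroup.coe_mul, map_mul, SemidirectProduct.mul_left, hright g g.2, map_one]
        rfl }
  refine ⟨σ, fun i => ?_⟩
  show (f (gen m i : Perm (Fin (m + 2)))).left.1 = U i
  rw [← simple_mul_simple, map_mul]
  show (cs.lift ⟨T, hlift⟩ (cs.simple 0) * cs.lift ⟨T, hlift⟩ (cs.simple i.succ)).left.1 = U i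
  rw [cs.lift_apply_simple, cs.lift_apply_simple, hTT, SemidirectProduct.left_inl]
  simp [V]

end Cfsg.Agent.H35.AltPres
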