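import Cfsg.Agent.H35.BergerCover

/-!
# Quasi-primitive characters are primitive in the solvable case
-/

set_option autoImplicit false

namespace Cfsg.Agent.H35.Berger

open CharBasic CharInduce

universe u

/-- An irreducible character induced from a maximal subgroup with solvable quotient by its core is
not homogeneous on all normal subgroups above the core. -/
theorem not_homog_induced (n : ℕ) :
    ∀ (G : Type u) [Group G] [Fintype G] (H : Subgroup G) (ϑ : H → ℂ),
      H.normalCore.index = n → IsCoatom H → Group.IsSolvable (G ⧸ H.normalCore) →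
      Cfsg.IsCharacter H ϑ → Cfsg.IsIrrCharacter G (Cfsg.indFun H ϑ) →
      (∀ M : Subgroup G, M.Normal → H.normalCore ≤ M → Homog M (Cfsg.indFun H ϑ)) → False := by
  induction n using Nat.strong_induction_on with
  | _ n ih =>
    intro G _ _ H ϑ hn hmax hsolv hϑ hind hhom
    haveI := hsolv
    obtain ⟨G₁, _, _, H₁, ϑ₁, hlt, hmax₁, hsolv₁, hϑ₁, hind₁, hhom₁⟩ :=
      exists_descent H hmax hϑ hind hhom
    exact ih _ (hn ▸ hlt) G₁ H₁ ϑ₁ rfl hmax₁ hsolv₁ hϑ₁ hind₁ hhom₁

/-- Berger's theorem. -/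
theorem indFun_ne_of_quasiprimitive {G : Type u} [Group G] [Fintype G] [Group.IsSolvable G]
    {χ : G → ℂ} (hχ : Cfsg.IsIrrCharacter G χ)
    (hqp : ∀ N : Subgroup G, N.Normal → Homog N χ) (K : Subgroup G) (hK : K ≠ ⊤) {ψ : K → ℂ}
    (hψ : Cfsg.IsCharacter K ψ) : Cfsg.indFun K ψ ≠ χ := by
  intro he
  obtain ⟨H, hH, hKH⟩ := (eq_top_or_exists_le_coatom K).resolve_left hK
  haveI := Fintype.ofFinite H
  let ϑ : H → ℂ := Cfsg.indFun (K.subgroupOf H)
    (fun x => ψ ⟨(x : H), Subgroup.mem_subgroupOf.mp x.2⟩)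
  have hϑ : Cfsg.IsCharacter H ϑ :=
    IsChar.ind _ (IsChar.comp hψ (Subgroup.subgroupOfEquivOfLe hKH).toMonoidHom)
  have hind : Cfsg.indFun H ϑ = χ := by rw [← he]; exact indFun_indFun K H hKH ψ
  exact not_homog_induced _ G H ϑ rfl hH inferInstance hϑ (hind.symm ▸ hχ)
    (fun M hM _ => by rw [hind]; exact hqp M hM)

end Cfsg.Agent.H35.Berger
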