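import Cfsg.Agent.H35.BergerGroups
import Cfsg.Agent.H35.DegreeIndex
import Cfsg.Agent.CharInduce.Transport
import Cfsg.Agent.CharBasic.Virtual

/-!
# An induced character from a maximal subgroup is not homogeneous on every normal subgroup
-/

set_option autoImplicit false

open scoped ComplexConjugate

namespace Cfsg.Agent.H35.Berger

open CharBasic CharInduce

universe u

variable {G : Type u} [Group G] [Fintype G]

/-- An irreducible character is not a sum of two nonzero characters. -/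
theorem eq_zero_of_irr_eq_add {χ α β : G → ℂ} (hχ : Cfsg.IsIrrCharacter G χ)
    (hα : Cfsg.IsCharacter G α) (hβ : Cfsg.IsCharacter G β) (h : χ = α + β) (h0 : α ≠ 0) :
    β = 0 := by
  by_contra hβ0
  have key : ∀ γ : G → ℂ, Cfsg.IsCharacter G γ → γ ≠ 0 →
      (∀ ψ : Cfsg.IrrCharacter G, (ψ : G → ℂ) ≠ χ → Cfsg.classInner γ (ψ : G → ℂ) = 0) →
      Cfsg.classInner γ χ ≠ 0 := by
    intro γ hγ hγ0 hz hc
    obtain ⟨ψ, hψ⟩ := exists_constituent hγ hγ0
    by_cases e : (ψ : G → ℂ) = χ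
    · exact hψ (e ▸ hc)
    · exact hψ (hz ψ e)
  have hz : ∀ ψ : Cfsg.IrrCharacter G, (ψ : G → ℂ) ≠ χ →
      Cfsg.classInner α (ψ : G → ℂ) = 0 ∧ Cfsg.classInner β (ψ : G → ℂ) = 0 := by
    intro ψ hψ
    obtain ⟨a, ha⟩ := classInner_isChar_nat hα (CharBasic.IsIrr.isCharacter ψ.2)
    obtain ⟨b, hb⟩ := classInner_isChar_nat hβ (CharBasic.IsIrr.isCharacter ψ.2)
    have h1 := classInner_irr_of_ne hχ ψ.2 (Ne.symm hψ)
    rw [h, classInner_add_left, ha, hb, ← Nat.cast_add, Nat.cast_eq_zero] at h1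
    rw [ha, hb]
    exact ⟨by rw [show a = 0 by omega, Nat.cast_zero], by rw [show b = 0 by omega, Nat.cast_zero]⟩
  have h1 := key α hα h0 fun ψ e => (hz ψ e).1
  have h2 := key β hβ hβ0 fun ψ e => (hz ψ e).2
  obtain ⟨a, ha⟩ := classInner_isChar_nat hα (CharBasic.IsIrr.isCharacter hχ)
  obtain ⟨b, hb⟩ := classInner_isChar_nat hβ (CharBasic.IsIrr.isCharacter hχ)
  have h3 : Cfsg.classInner (α + β) χ = 1 := by rw [← h]; exact classInner_irr_self hχ
  rw [classInner_add_left, ha, hb, ← Nat.cast_add, Nat.cast_eq_one] at h3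
  rw [ha, Nat.cast_ne_zero] at h1
  rw [hb, Nat.cast_ne_zero] at h2
  omega

/-- A summand of a multiple of an irreducible character is a multiple of it. -/
theorem eq_smul_of_add {α β φ : G → ℂ} (hα : Cfsg.IsCharacter G α) (hβ : Cfsg.IsCharacter G β)
    (hφ : Cfsg.IsIrrCharacter G φ) {c : ℂ} (h : α + β = c • φ) :
    α = Cfsg.classInner α φ • φ := by
  classical
  conv_lhs => rw [classFunction_expansion (CharBasic.IsChar.isClassFunction hα)]
  rw [Finset.sum_eq_single (⟨φ, hφ⟩ : Cfsg.IrrCharacter G)]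
  · intro ψ _ hψ
    obtain ⟨a, ha⟩ := classInner_isChar_nat hα (CharBasic.IsIrr.isCharacter ψ.2)
    obtain ⟨b, hb⟩ := classInner_isChar_nat hβ (CharBasic.IsIrr.isCharacter ψ.2)
    have h1 : Cfsg.classInner (α + β) (ψ : G → ℂ) = 0 := by
      rw [h, classInner_smul_left,
        classInner_irr_of_ne hφ ψ.2 (fun e => hψ (Subtype.ext e.symm)), mul_zero]
    rw [classInner_add_left, ha, hb, ← Nat.cast_add, Nat.cast_eq_zero] at h1
    rw [ha, show a = 0 by omega, Nat.cast_zero, zero_smul]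
  · exact fun h => absurd (Finset.mem_univ _) h

/-- A character of the least possible degree with a given multiplicity is that multiple. -/
theorem eq_smul_of_degree {α φ : G → ℂ} (hα : Cfsg.IsCharacter G α)
    (hφ : Cfsg.IsIrrCharacter G φ) {f : ℕ} (hf : Cfsg.classInner α φ = (f : ℂ))
    (hdeg : α 1 = (f : ℂ) * φ 1) : α = (f : ℂ) • φ := by
  classical
  set φ₀ : Cfsg.IrrCharacter G := ⟨φ, hφ⟩ with hφ₀
  choose n hn using fun ψ : Cfsg.IrrCharacter G =>
    classInner_isChar_nat hα (CharBasic.IsIrr.isCharacter ψ.2)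
  choose d hd0 hd using fun ψ : Cfsg.IrrCharacter G => CharBasic.IsIrr.exists_degree ψ.2
  have hexp := classFunction_expansion (CharBasic.IsChar.isClassFunction hα)
  have h1 : ((∑ ψ, n ψ * d ψ : ℕ) : ℂ) = ((f * d φ₀ : ℕ) : ℂ) := by
    rw [Nat.cast_mul, ← hd φ₀]
    refine Eq.trans ?_ hdeg
    rw [hexp, Finset.sum_apply, Nat.cast_sum]
    exact Finset.sum_congr rfl fun ψ _ => by
      rw [Pi.smul_apply, smul_eq_mul, hn, hd, Nat.cast_mul]
  rw [Nat.cast_inj, ← Finset.add_sum_erase _ _ (Finset.mem_univ φ₀)] at h1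
  have hnf : n φ₀ = f := Nat.cast_injective (R := ℂ) ((hn φ₀).symm.trans hf)
  rw [hnf] at h1
  have h2 : ∑ ψ ∈ Finset.univ.erase φ₀, n ψ * d ψ = 0 := by omega
  rw [hexp, Finset.sum_eq_single φ₀]
  · rw [hn, hnf]
  · intro ψ _ hψ
    have := Finset.sum_eq_zero_iff.1 h2 ψ (Finset.mem_erase.2 ⟨hψ, Finset.mem_univ _⟩)
    rw [hn, (Nat.mul_eq_zero.1 this).resolve_right (hd0 ψ).ne', Nat.cast_zero, zero_smul]
  · exact fun h => absurd (Finset.mem_univ _) h

/-- A character with irreducible restriction is irreducible. -/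
theorem isIrr_of_res {T : Type u} [Group T] [Fintype T] (ι : T →* G) {θ : G → ℂ}
    (hθ : Cfsg.IsCharacter G θ) (h : Cfsg.IsIrrCharacter T (fun t => θ (ι t))) :
    Cfsg.IsIrrCharacter G θ := by
  have h0 : θ ≠ 0 := fun e => CharBasic.IsIrr.one_ne_zero h (by simp [e])
  obtain ⟨θ₁, hθ₁⟩ := exists_constituent hθ h0
  obtain ⟨r, hr, he⟩ := IsChar.exists_eq_add hθ θ₁.2 hθ₁
  have h1 : (fun t => r (ι t)) = 0 := eq_zero_of_irr_eq_add h
    (IsChar.comp (CharBasic.IsIrr.isCharacter θ₁.2) ι) (IsChar.comp hr ι)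
    (funext fun t => by rw [he]; rfl) fun e => by
      have h2 : (θ₁ : G → ℂ) (ι 1) = 0 := congrFun e 1
      rw [map_one] at h2
      exact CharBasic.IsIrr.one_ne_zero θ₁.2 h2
  have hr1 : r (ι 1) = 0 := congrFun h1 1
  rw [map_one] at hr1
  rw [he, IsChar.eq_zero_of_one_eq_zero hr hr1, add_zero]
  exact θ₁.2

/-- Mackey's formula for a normal supplement. -/
theorem res_indFun (N H : Subgroup G) [N.Normal] [Fintype N] (htop : N ⊔ H = ⊤) {δ : H → ℂ}
    (hδ : Cfsg.IsClassFunction H δ) :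
    (fun x : N => Cfsg.indFun H δ x) =
      Cfsg.indFun (H.subgroupOf N) (fun y => δ ⟨((y : N) : G), Subgroup.mem_subgroupOf.1 y.2⟩) := by
  classical
  funext n
  haveI := Fintype.ofFinite H
  set F : G → ℂ := fun x => Cfsg.extendByZero H δ (x⁻¹ * n * x) with hF
  have hFh : ∀ (x : G) (h : H), F (x * h) = F x := by
    intro x h
    simp only [hF]
    rw [show (x * (h : G))⁻¹ * n * (x * h) = (h : G)⁻¹ * (x⁻¹ * n * x) * ((h : G)⁻¹)⁻¹ by group]
    exact extendByZero_conj hδ (H.inv_mem h.2) _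
  have hfib : ∀ g : G, (Finset.univ.filter fun z : N × H => (z.1 : G) * z.2 = g).card =
      Nat.card ↥(H.subgroupOf N) := by
    intro g
    obtain ⟨y, hy, h, hh, rfl⟩ :=
      Subgroup.mem_sup_of_normal_left.1 (htop.symm ▸ Subgroup.mem_top g)
    rw [← Fintype.card_subtype, ← Nat.card_eq_fintype_card]
    refine Nat.card_congr
      { toFun := fun z => ⟨(⟨y, hy⟩ : N)⁻¹ * z.1.1, Subgroup.mem_subgroupOf.2 ?_⟩
        invFun := fun u => ⟨(⟨y, hy⟩ * (u : N), ⟨((u : N) : G)⁻¹ * h,
          H.mul_mem (H.inv_mem (Subgroup.mem_subgroupOf.1 u.2)) hh⟩), by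
            simp only [Subgroup.coe_mul]; group⟩
        left_inv := fun z => ?_
        right_inv := fun u => ?_ }
    · show y⁻¹ * (z.1.1 : G) ∈ H
      rw [show y⁻¹ * (z.1.1 : G) = h * (z.1.2 : G)⁻¹ by
        rw [eq_mul_inv_iff_mul_eq, mul_assoc, z.2]; group]
      exact H.mul_mem hh (H.inv_mem z.1.2.2)
    · refine Subtype.ext (Prod.ext (by simp) (Subtype.ext ?_))
      show (((⟨y, hy⟩ : N)⁻¹ * z.1.1 : N) : G)⁻¹ * h = z.1.2
      have := z.2
      simp only [Subgroup.coe_mul, InvMemClass.coe_inv] at this ⊢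
      rw [mul_inv_rev, inv_inv, mul_assoc]
      exact inv_mul_eq_iff_eq_mul.2 this.symm
    · exact Subtype.ext (by simp)
  have hsum : ((Nat.card ↥(H.subgroupOf N) : ℕ) : ℂ) * ∑ g : G, F g =
      (Nat.card H : ℂ) * ∑ y : N, F y := by
    rw [Finset.mul_sum, ← Finset.sum_congr rfl fun g _ => by rw [← hfib g], Nat.card_eq_fintype_card,
      Finset.mul_sum]
    have h1 : ∑ z : N × H, F ((z.1 : G) * z.2) = ∑ y : N, (Fintype.card H : ℂ) * F y := by
      rw [Fintype.sum_prod_type]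
      exact Finset.sum_congr rfl fun y _ => by
        rw [Finset.sum_congr rfl fun h _ => hFh y h, Finset.sum_const, Finset.card_univ, nsmul_eq_mul]
    rw [← h1, ← Finset.sum_fiberwise Finset.univ (fun z : N × H => (z.1 : G) * z.2)
      (fun z => F ((z.1 : G) * z.2))]
    refine Finset.sum_congr rfl fun g _ => ?_
    rw [Finset.sum_congr rfl (fun z hz => by rw [(Finset.mem_filter.1 hz).2]), Finset.sum_const,
      nsmul_eq_mul]
  rw [indFun_apply, indFun_apply]
  have hext : ∀ u : N, Cfsg.extendByZero (H.subgroupOf N)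
      (fun y => δ ⟨((y : N) : G), Subgroup.mem_subgroupOf.1 y.2⟩) u =
      Cfsg.extendByZero H δ (u : G) := by
    intro u
    by_cases hu : (u : G) ∈ H
    · rw [extendByZero_of_mem _ hu, extendByZero_of_mem _ (Subgroup.mem_subgroupOf.2 hu)]
    · rw [extendByZero_of_not_mem _ hu,
        extendByZero_of_not_mem _ fun h => hu (Subgroup.mem_subgroupOf.1 h)]
  simp only [hext, Subgroup.coe_mul, InvMemClass.coe_inv]
  have := card_ne_zero_complex ↥(H.subgroupOf N)
  have := card_ne_zero_complex H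
  field_simp
  linear_combination hsum

/-- The step: nonhomogeneity of a character induced from a maximal subgroup. -/
theorem exists_nonhomogeneous (L H : Subgroup G) [L.Normal] (hLH : L ≤ H) (hmax : IsCoatom H)
    [Group.IsSolvable (G ⧸ L)] (hcore : ∀ N : Subgroup G, N.Normal → N ≤ H → N ≤ L)
    {δ : H → ℂ} (hδ : Cfsg.IsCharacter H δ)
    (hδL : Cfsg.IsIrrCharacter L (fun l : L => δ ⟨(l : G), hLH l.2⟩))
    (hX : Cfsg.IsIrrCharacter G (Cfsg.indFun H δ))
    (hXL : ∀ l : L, Cfsg.indFun H δ l = (H.index : ℂ) * δ ⟨(l : G), hLH l.2⟩) :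
    ∃ M : Subgroup G, M.Normal ∧ L ≤ M ∧ ¬ M ≤ H ∧ ∀ (φ : M → ℂ) (e : ℂ),
      Cfsg.IsIrrCharacter M φ → (fun x : M => Cfsg.indFun H δ x) ≠ e • φ := by
  classical
  set π := QuotientGroup.mk' L with hπ
  have hπs : Function.Surjective π := QuotientGroup.mk'_surjective L
  set Hb := H.map π with hHb
  have hHcomap : Hb.comap π = H := by
    rw [hHb, Subgroup.comap_map_eq, QuotientGroup.ker_mk', sup_eq_left]
    exact hLH
  have hmaxb : IsCoatom Hb := by
    refine ⟨fun h => hmax.1 (by rw [← hHcomap, h, Subgroup.comap_top]), fun X hX' => ?_⟩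
    have h1 : H < X.comap π := by
      rw [← hHcomap]
      exact (Subgroup.comap_lt_comap_of_surjective hπs).2 hX'
    rw [← Subgroup.map_comap_eq_self_of_surjective hπs X, hmax.2 _ h1,
      Subgroup.map_top_of_surjective _ hπs]
  have hcoreb : ∀ X : Subgroup (G ⧸ L), X.Normal → X ≤ Hb → X = ⊥ := by
    intro X hXn hXH
    have h1 := hcore _ (hXn.comap π) (hHcomap ▸ Subgroup.comap_mono hXH)
    rw [← Subgroup.map_comap_eq_self_of_surjective hπs X, eq_bot_iff]
    rintro _ ⟨x, hx, rfl⟩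
    rw [Subgroup.mem_bot, hπ, QuotientGroup.mk'_apply, QuotientGroup.eq_one_iff]
    exact h1 hx
  obtain ⟨p, Kb, hp, hKn, hK1, hKtop, hKinf, hKp, hcase⟩ := exists_config hmaxb hcoreb
  haveI : Fact p.Prime := ⟨hp⟩
  have hidx : H.index = Nat.card Kb := by
    rw [← hHcomap, Subgroup.index_comap_of_surjective _ hπs]
    haveI := hKn
    exact (Subgroup.isComplement'_of_disjoint_and_mul_eq_univ (disjoint_iff.2 hKinf)
      (by rw [← Subgroup.normal_mul, hKtop, Subgroup.coe_top])).index_eq_card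
  obtain ⟨k, hk⟩ := IsPGroup.iff_card.1 hKp
  set K := Kb.comap π with hKdef
  haveI hKnorm : K.Normal := hKn.comap π
  have hLK : L ≤ K := fun x hx => by
    show π x ∈ Kb
    rw [hπ, QuotientGroup.mk'_apply, (QuotientGroup.eq_one_iff x).2 hx]
    exact one_mem _
  have hKH : K ⊔ H = ⊤ := by
    show Kb.comap π ⊔ H = ⊤
    rw [← hHcomap, Subgroup.comap_sup_eq _ _ _ hπs, hKtop, Subgroup.comap_top]
  have hKinfH : K ⊓ H = L := by
    rw [← hHcomap, ← Subgroup.comap_inf, hKinf, MonoidHom.comap_bot, QuotientGroup.ker_mk']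
  have hKnle : ¬ K ≤ H := fun h => hmax.1 (by rw [← hKH, sup_eq_right.2 h])
  have hδc := CharBasic.IsChar.isClassFunction hδ
  have hv0 : (H.index : ℂ) ≠ 0 := Nat.cast_ne_zero.2 Subgroup.index_ne_zero_of_finite
  by_contra hno
  push Not at hno
  haveI := Fintype.ofFinite K
  -- the subgroup `K`
  obtain ⟨ψ, c₀, hψ, hcψ⟩ := hno K hKnorm hLK hKnle
  have hcharK : Cfsg.IsCharacter K (fun x : K => Cfsg.indFun H δ x) :=
    IsChar.res (CharBasic.IsIrr.isCharacter hX) K
  obtain ⟨c, hc⟩ := classInner_isChar_nat hcharK (CharBasic.IsIrr.isCharacter hψ)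
  have hc₀ : c₀ = (c : ℂ) := by
    rw [← hc, hcψ, classInner_smul_left, classInner_irr_self hψ, mul_one]
  subst hc₀
  have hmack := res_indFun K H hKH hδc
  haveI := Fintype.ofFinite ↥(H.subgroupOf K)
  set θK : ↥(H.subgroupOf K) → ℂ :=
    fun y => δ ⟨((y : K) : G), Subgroup.mem_subgroupOf.1 y.2⟩ with hθK
  let toL : ↥(H.subgroupOf K) →* L :=
    MonoidHom.mk' (fun y => ⟨((y : K) : G), hKinfH.le ⟨(y : K).2, Subgroup.mem_subgroupOf.1 y.2⟩⟩)
      fun a b => Subtype.ext (by simp)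
  have htoL : Function.Surjective toL := fun l =>
    ⟨⟨⟨(l : G), hLK l.2⟩, Subgroup.mem_subgroupOf.2 (hLH l.2)⟩, Subtype.ext rfl⟩
  have hθKirr : Cfsg.IsIrrCharacter ↥(H.subgroupOf K) θK := IsIrr.comp hδL toL htoL
  have hc0 : (c : ℂ) ≠ 0 := by
    intro h
    have h1 := congrFun hcψ 1
    rw [h, zero_smul, Pi.zero_apply] at h1
    exact CharBasic.IsIrr.one_ne_zero hX h1
  have hψy : (fun y : ↥(H.subgroupOf K) => ψ (y : K)) = ((H.index : ℂ) / c) • θK := by
    funext y
    have h1 : Cfsg.indFun H δ ((y : K) : G) = (c : ℂ) * ψ (y : K) := congrFun hcψ (y : K)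
    have h2 : Cfsg.indFun H δ ((y : K) : G) = (H.index : ℂ) * θK y := hXL (toL y)
    rw [Pi.smul_apply, smul_eq_mul, div_mul_eq_mul_div, eq_div_iff hc0, mul_comm, ← h1, h2]
  have hsq : (c : ℂ) * c = H.index := by
    have h2 := classInner_indFun_left (H.subgroupOf K) θK ψ (CharBasic.IsIrr.isClassFunction hψ)
    rw [← hmack, hc, hψy, ← conj_classInner, classInner_smul_left, classInner_irr_self hθKirr,
      mul_one, map_div₀, Complex.conj_natCast, Complex.conj_natCast, eq_div_iff hc0] at h2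
    exact h2
  have hcK : ∀ y : ↥(H.subgroupOf K), ψ (y : K) = (c : ℂ) * θK y := fun y => by
    rw [show ψ (y : K) = ((H.index : ℂ) / c) * θK y from congrFun hψy y, ← hsq,
      mul_div_cancel_right₀ _ hc0]
  have hsqN : c * c = H.index := by exact_mod_cast hsq
  rcases hcase with hH | ⟨q, Ab, hq, hqp, hAH, hA1, hAq, hMn, hMinf, hfaith⟩
  · -- `H = L`
    have hKt : Kb = ⊤ := by rw [← hKtop, hH, sup_bot_eq]
    have hKtop' : ∀ g : G, g ∈ K := fun g => by
      show π g ∈ Kb
      rw [hKt]; exact Subgroup.mem_top _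
    let e : G →* K := MonoidHom.mk' (fun g => ⟨g, hKtop' g⟩) fun a b => rfl
    have hψG : Cfsg.IsIrrCharacter G (fun g => ψ (e g)) :=
      IsIrr.comp hψ e fun x => ⟨x, rfl⟩
    have h1 : Cfsg.indFun H δ = (c : ℂ) • fun g => ψ (e g) := funext fun g => congrFun hcψ (e g)
    have h2 : Cfsg.classInner (Cfsg.indFun H δ) (fun g => ψ (e g)) = (c : ℂ) := by
      rw [h1, classInner_smul_left, classInner_irr_self hψG, mul_one]
    rw [classInner_irr hX hψG] at h2
    split_ifs at h2 with he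
    · have hc1 : c = 1 := by exact_mod_cast h2.symm
      rw [hc1, one_mul] at hsqN
      exact hmax.1 (Subgroup.index_eq_one.1 hsqN.symm)
    · exact hc0 h2.symm
  · haveI : Fact q.Prime := ⟨hq⟩
    set M := (Kb ⊔ Ab).comap π with hMdef
    haveI hMnorm : M.Normal := hMn.comap π
    have hKM : K ≤ M := Subgroup.comap_mono le_sup_left
    have hMH : M ⊔ H = ⊤ := eq_top_iff.2 (hKH ▸ sup_le_sup_right hKM H)
    have hLM : L ≤ M := hLK.trans hKM
    set A := Ab.comap π with hAdef
    have hMinfH : M ⊓ H = A := by rw [← hHcomap, ← Subgroup.comap_inf, hMinf]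
    have hAH' : A ≤ H := hHcomap ▸ Subgroup.comap_mono hAH
    have hLA : L ≤ A := fun x hx => by
      show π x ∈ Ab
      rw [hπ, QuotientGroup.mk'_apply, (QuotientGroup.eq_one_iff x).2 hx]
      exact one_mem _
    obtain ⟨ψ', f₀, hψ', hfψ'⟩ := hno M hMnorm hLM fun h => hKnle (hKM.trans h)
    haveI := Fintype.ofFinite M
    obtain ⟨f, hf⟩ := classInner_isChar_nat (IsChar.res (CharBasic.IsIrr.isCharacter hX) M)
      (CharBasic.IsIrr.isCharacter hψ')
    have hf₀ : f₀ = (f : ℂ) := by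
      rw [← hf, hfψ', classInner_smul_left, classInner_irr_self hψ', mul_one]
    subst hf₀
    have hmackM := res_indFun M H hMH hδc
    haveI := Fintype.ofFinite ↥(H.subgroupOf M)
    set θM : ↥(H.subgroupOf M) → ℂ :=
      fun y => δ ⟨((y : M) : G), Subgroup.mem_subgroupOf.1 y.2⟩ with hθM
    let toH : ↥(H.subgroupOf M) →* H :=
      MonoidHom.mk' (fun y => ⟨((y : M) : G), Subgroup.mem_subgroupOf.1 y.2⟩)
        fun a b => Subtype.ext (by simp)
    let fromL : L →* ↥(H.subgroupOf M) :=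
      MonoidHom.mk' (fun l => ⟨⟨(l : G), hLM l.2⟩, Subgroup.mem_subgroupOf.2 (hLH l.2)⟩)
        fun a b => rfl
    haveI := Fintype.ofFinite L
    have hθMirr : Cfsg.IsIrrCharacter ↥(H.subgroupOf M) θM :=
      isIrr_of_res fromL (IsChar.comp hδ toH) hδL
    -- the multiplicities
    have hψM : Cfsg.classInner (fun y : ↥(H.subgroupOf M) => ψ' (y : M)) θM = (f : ℂ) := by
      have h2 := classInner_indFun_left (H.subgroupOf M) θM ψ' (CharBasic.IsIrr.isClassFunction hψ')
      rw [← hmackM, hf] at h2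
      rw [← conj_classInner, ← h2, Complex.conj_natCast]
    haveI : (K.subgroupOf M).Normal := hKnorm.subgroupOf M
    haveI := Fintype.ofFinite ↥(K.subgroupOf M)
    let eK := Subgroup.subgroupOfEquivOfLe hKM
    have hψK : Cfsg.IsIrrCharacter ↥(K.subgroupOf M) (fun y => ψ (eK y)) :=
      IsIrr.comp hψ eK.toMonoidHom eK.surjective
    obtain ⟨m, hm⟩ := classInner_isChar_nat
      (IsChar.res (CharBasic.IsIrr.isCharacter hψ') (K.subgroupOf M))
      (CharBasic.IsIrr.isCharacter hψK)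
    have hfm : ((f * m : ℕ) : ℂ) = (c : ℂ) := by
      have e1 : (f : ℂ) • (fun y : ↥(K.subgroupOf M) => ψ' (y : M)) =
          (c : ℂ) • fun y => ψ (eK y) := by
        funext y
        exact (congrFun hfψ' (y : M)).symm.trans (congrFun hcψ (eK y))
      have := congrArg (fun F => Cfsg.classInner F (fun y => ψ (eK y))) e1
      simp only [classInner_smul_left, classInner_irr_self hψK, mul_one, hm] at this
      rw [Nat.cast_mul]
      exact this
    have hfmN : f * m = c := Nat.cast_injective hfm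
    have hf0 : f ≠ 0 := fun h => hc0 (by rw [← hfmN, h, zero_mul, Nat.cast_zero])
    have hm0 : m ≠ 0 := fun h => hc0 (by rw [← hfmN, h, mul_zero, Nat.cast_zero])
    obtain ⟨d, -, hd⟩ := CharBasic.IsIrr.exists_degree hψ
    obtain ⟨d', -, hd'⟩ := CharBasic.IsIrr.exists_degree hψ'
    have hd0 : 0 < d := Nat.pos_of_ne_zero fun h =>
      CharBasic.IsIrr.one_ne_zero hψ (by rw [hd, h, Nat.cast_zero])
    have hdd : f * d' = c * d := by
      have e1 : (f : ℂ) * ψ' 1 = (c : ℂ) * ψ 1 :=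
        (congrFun hfψ' 1).symm.trans (congrFun hcψ 1)
      rw [hd, hd'] at e1
      exact_mod_cast e1
    have hd'm : d' = m * d := by
      apply Nat.eq_of_mul_eq_mul_left (Nat.pos_of_ne_zero hf0)
      rw [hdd, ← hfmN, mul_assoc]
    obtain ⟨-, hdvd⟩ := H35.DegreeIndex.degree_quotient_dvd_index (K.subgroupOf M) hψ' hψK
      (by rw [hm]; exact Nat.cast_ne_zero.2 hm0) d' d hd'
      (by show ψ (eK 1) = _; rw [map_one, hd])
    rw [hd'm, Nat.mul_div_cancel _ hd0] at hdvd
    have hm1 : m = 1 := by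
      obtain ⟨j, hj⟩ := IsPGroup.iff_card.1 hAq
      have h1 : (K.subgroupOf M).index ∣ q ^ j := by
        rw [← hj]
        show K.relIndex M ∣ _
        rw [hKdef, Subgroup.relIndex_comap, Subgroup.map_comap_eq_self_of_surjective hπs, sup_comm]
        haveI := hKn
        rw [Subgroup.relIndex_sup_right]
        exact Subgroup.index_dvd_card _
      refine Nat.eq_one_of_dvd_coprimes (Nat.Coprime.pow j k ((Nat.coprime_primes hq hp).2 hqp))
        (hdvd.trans h1) ?_
      rw [← hk, ← hidx, ← hsqN]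
      exact Dvd.dvd.mul_right ⟨f, by rw [← hfmN]; ring⟩ c
    have hfc : f = c := by rw [← hfmN, hm1, mul_one]
    have hd'd : d' = d := by rw [hd'm, hm1, one_mul]
    have hθ1 : θM 1 = δ 1 := rfl
    have hψ1 : ψ 1 = (c : ℂ) * δ 1 := hcK 1
    have hψ'A : (fun y : ↥(H.subgroupOf M) => ψ' (y : M)) = (f : ℂ) • θM := by
      refine eq_smul_of_degree (IsChar.res (CharBasic.IsIrr.isCharacter hψ') _) hθMirr hψM ?_
      rw [OneMemClass.coe_one, hd', hd'd, ← hd, hψ1, hfc, hθ1]
    have hval : ∀ y : ↥(H.subgroupOf M),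
        Cfsg.indFun H δ ((y : M) : G) = (H.index : ℂ) * θM y := fun y => by
      rw [show Cfsg.indFun H δ ((y : M) : G) = (f : ℂ) * ψ' (y : M) from congrFun hfψ' (y : M),
        show ψ' (y : M) = (f : ℂ) * θM y from congrFun hψ'A y, ← mul_assoc, hfc, hsq]
    -- an element of `A` outside `L` where `δ` does not vanish
    have hθ10 : δ 1 ≠ 0 := hθ1 ▸ CharBasic.IsIrr.one_ne_zero hθMirr
    have hidxM : ((H.subgroupOf M).index : ℂ) = (H.index : ℂ) := by
      have h1 := congrFun hmackM 1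
      rw [OneMemClass.coe_one, indFun_one, indFun_one] at h1
      exact (mul_right_cancel₀ hθ10 (h1.trans (congrArg _ hθ1))).symm
    set S : Finset ↥(H.subgroupOf M) :=
      Finset.univ.filter fun y => ((y : M) : G) ∉ L with hS
    have hSne : ∃ y ∈ S, θM y ≠ 0 := by
      by_contra hz
      push Not at hz
      have h1 := classInner_irr_self hθMirr
      rw [classInner_def, inv_mul_eq_one₀ (card_ne_zero_complex _)] at h1
      have h2 := classInner_irr_self hδL
      rw [classInner_def, inv_mul_eq_one₀ (card_ne_zero_complex _)] at h2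
      have h3 : ∑ y : ↥(H.subgroupOf M), θM y * conj (θM y) =
          ∑ l : L, δ ⟨(l : G), hLH l.2⟩ * conj (δ ⟨(l : G), hLH l.2⟩) := by
        rw [← Finset.sum_filter_add_sum_filter_not Finset.univ
          (fun y : ↥(H.subgroupOf M) => ((y : M) : G) ∈ L),
          Finset.sum_eq_zero (s := Finset.univ.filter fun y : ↥(H.subgroupOf M) => ¬ ((y : M) : G) ∈ L)
            (fun y hy => by rw [hz y hy, zero_mul]), add_zero]
        refine Finset.sum_bij' (fun y hy => (⟨((y : M) : G), (Finset.mem_filter.1 hy).2⟩ : L))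
          (fun l _ => fromL l) (fun y hy => Finset.mem_univ _)
          (fun l _ => Finset.mem_filter.2 ⟨Finset.mem_univ _, l.2⟩) (fun y hy => rfl) (fun l _ => rfl)
          (fun y hy => rfl)
      rw [← h1, ← h2, Nat.cast_inj] at h3
      have hcA : Nat.card ↥(H.subgroupOf M) = Nat.card A := Nat.card_congr
        { toFun := fun y => ⟨((y : M) : G), hMinfH.le ⟨(y : M).2, Subgroup.mem_subgroupOf.1 y.2⟩⟩
          invFun := fun a => ⟨⟨(a : G), (hMinfH.ge a.2).1⟩,
            Subgroup.mem_subgroupOf.2 (hMinfH.ge a.2).2⟩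
          left_inv := fun _ => rfl
          right_inv := fun _ => rfl }
      rw [hcA] at h3
      apply hA1
      have h4 : L = A := Subgroup.eq_of_le_of_card_ge hLA h3.le
      rw [← Subgroup.map_comap_eq_self_of_surjective hπs Ab, ← hAdef, ← h4, hπ,
        QuotientGroup.map_mk'_self]
    obtain ⟨y₀, hy₀, hy₀'⟩ := hSne
    obtain ⟨a, haS, hamax⟩ := S.exists_max_image (fun y => ‖θM y‖) ⟨y₀, hy₀⟩
    set s := ‖θM a‖ with hs
    have hs0 : 0 < s := lt_of_lt_of_le (norm_pos_iff.2 hy₀') (hamax y₀ hy₀)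
    have haA : π ((a : M) : G) ∈ Ab := hMinfH.le ⟨(a : M).2, Subgroup.mem_subgroupOf.1 a.2⟩
    have ha1 : π ((a : M) : G) ≠ 1 := fun h => (Finset.mem_filter.1 haS).2 (by
      rwa [hπ, QuotientGroup.mk'_apply, QuotientGroup.eq_one_iff] at h)
    obtain ⟨yb, hyb, hyb'⟩ := hfaith _ haA ha1
    obtain ⟨z, rfl⟩ := hπs yb
    have hzM : z ∈ M := hKM hyb
    have hval' := hval a
    have hind : Cfsg.indFun H δ ((a : M) : G) = Cfsg.indFun (H.subgroupOf M) θM (a : M) :=
      congrFun hmackM (a : M)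
    rw [hind, indFun_apply] at hval'
    set T : M → ℂ := fun x => Cfsg.extendByZero (H.subgroupOf M) θM (x⁻¹ * (a : M) * x) with hT
    have hTle : ∀ x, ‖T x‖ ≤ s := by
      intro x
      by_cases hx : x⁻¹ * (a : M) * x ∈ H.subgroupOf M
      · simp only [hT, extendByZero_of_mem _ hx]
        refine hamax _ (Finset.mem_filter.2 ⟨Finset.mem_univ _, fun hxL => ?_⟩)
        apply (Finset.mem_filter.1 haS).2
        have := (inferInstance : L.Normal).conj_mem _ hxL (x : G)
        simpa [mul_assoc] using this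
      · simp only [hT, extendByZero_of_not_mem _ hx, norm_zero]
        exact hs0.le
    have hTz : T ⟨z, hzM⟩ = 0 := by
      simp only [hT]
      refine extendByZero_of_not_mem _ fun hz => hyb' ?_
      have hmem : z⁻¹ * ((a : M) : G) * z ∈ A := hMinfH.le
        ⟨(⟨z, hzM⟩⁻¹ * (a : M) * ⟨z, hzM⟩ : M).2, Subgroup.mem_subgroupOf.1 hz⟩
      have h5 : π (z⁻¹ * ((a : M) : G) * z) ∈ Ab := hmem
      rwa [map_mul, map_mul, map_inv] at h5
    have hbound : (Nat.card M : ℝ) * s ≤ ((Finset.univ.erase (⟨z, hzM⟩ : M)).card : ℝ) * s := by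
      have e : ∑ x : M, T x = ((Nat.card ↥(H.subgroupOf M) * (H.subgroupOf M).index : ℕ) : ℂ) * θM a := by
        rw [Nat.cast_mul, hidxM, mul_assoc, ← hval', mul_inv_cancel_left₀ (card_ne_zero_complex _)]
      rw [Subgroup.card_mul_index] at e
      have e2 : ‖∑ x : M, T x‖ = (Nat.card M : ℝ) * s := by
        rw [e, norm_mul, Complex.norm_natCast, hs]
      rw [← e2, ← Finset.add_sum_erase _ _ (Finset.mem_univ (⟨z, hzM⟩ : M)), hTz, zero_add]
      refine (norm_sum_le _ _).trans ?_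
      rw [← nsmul_eq_mul]
      exact Finset.sum_le_card_nsmul _ _ _ fun x _ => hTle x
    have hlt : (Finset.univ.erase (⟨z, hzM⟩ : M)).card < Nat.card M := by
      rw [Finset.card_erase_of_mem (Finset.mem_univ _), Finset.card_univ, ← Nat.card_eq_fintype_card]
      exact Nat.sub_lt Nat.card_pos one_pos
    exact absurd hbound (not_le.2 (mul_lt_mul_of_pos_right (by exact_mod_cast hlt) hs0))

end Cfsg.Agent.H35.Berger
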