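import Cfsg.Agent.H35.BergerMult
import Cfsg.Agent.H35.BergerStep
import Cfsg.Agent.CharInduce.Transport

/-!
# The covering step in Berger's theorem
-/

set_option autoImplicit false

open scoped TensorProduct ComplexConjugate

namespace Cfsg.Agent.H35.Berger

open CharBasic CharInduce Extend DegreeIndex

universe u

/-- A function is homogeneous on a subgroup. -/
def Homog {G : Type u} [Group G] (M : Subgroup G) (f : G → ℂ) : Prop :=
  ∃ (φ : M → ℂ) (e : ℂ), Cfsg.IsIrrCharacter M φ ∧ (fun x : M => f x) = e • φ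

/-- An induced irreducible character comes from an irreducible character. -/
theorem isIrr_of_indFun {G : Type u} [Group G] [Fintype G] (H : Subgroup G) {θ : H → ℂ}
    (hθ : Cfsg.IsCharacter H θ) (h : Cfsg.IsIrrCharacter G (Cfsg.indFun H θ)) :
    Cfsg.IsIrrCharacter H θ := by
  haveI := Fintype.ofFinite H
  have h0 : θ ≠ 0 := fun e => CharBasic.IsIrr.one_ne_zero h (by rw [e, indFun_zero]; rfl)
  obtain ⟨ψ, hψ⟩ := exists_constituent hθ h0
  obtain ⟨r, hr, he⟩ := IsChar.exists_eq_add hθ ψ.2 hψ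
  have h1 : Cfsg.indFun H r = 0 := eq_zero_of_irr_eq_add h
    (IsChar.ind H (CharBasic.IsIrr.isCharacter ψ.2)) (IsChar.ind H hr)
    (by rw [he, indFun_add]) fun e => by
      have h2 := congrFun e 1
      rw [indFun_one, Pi.zero_apply, mul_eq_zero] at h2
      exact h2.elim (Nat.cast_ne_zero.2 Subgroup.index_ne_zero_of_finite)
        (CharBasic.IsIrr.one_ne_zero ψ.2)
  have h2 := congrFun h1 1
  rw [indFun_one, Pi.zero_apply, mul_eq_zero] at h2
  rw [he, IsChar.eq_zero_of_one_eq_zero hr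
    (h2.resolve_left (Nat.cast_ne_zero.2 Subgroup.index_ne_zero_of_finite)), add_zero]
  exact ψ.2

/-- A factor of an irreducible product is irreducible. -/
theorem isIrr_of_mul {G : Type u} [Group G] [Fintype G] {X γ : G → ℂ} (hX : Cfsg.IsCharacter G X)
    (hγ : Cfsg.IsCharacter G γ) (h : Cfsg.IsIrrCharacter G (X * γ)) :
    Cfsg.IsIrrCharacter G X := by
  have h1 := CharBasic.IsIrr.one_ne_zero h
  rw [Pi.mul_apply, mul_ne_zero_iff] at h1
  obtain ⟨ψ, hψ⟩ := exists_constituent hX fun e => h1.1 (by rw [e]; rfl)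
  obtain ⟨r, hr, he⟩ := IsChar.exists_eq_add hX ψ.2 hψ
  have h2 : r * γ = 0 := eq_zero_of_irr_eq_add h
    (IsChar.mul (CharBasic.IsIrr.isCharacter ψ.2) hγ) (IsChar.mul hr hγ)
    (by rw [he, add_mul]) fun e => by
      have h3 := congrFun e 1
      rw [Pi.mul_apply, Pi.zero_apply, mul_eq_zero] at h3
      exact h3.elim (CharBasic.IsIrr.one_ne_zero ψ.2) h1.2
  have h3 := congrFun h2 1
  rw [Pi.mul_apply, Pi.zero_apply, mul_eq_zero] at h3
  rw [he, IsChar.eq_zero_of_one_eq_zero hr (h3.resolve_right h1.2), add_zero]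
  exact ψ.2

/-- An irreducible representation stays irreducible up to scalars over a surjection. -/
theorem isIrr_of_scalar {A B : Type u} [Group A] [Group B] {d : ℕ}
    {ρ : Representation ℂ B (Fin d → ℂ)} [ρ.IsIrreducible] (R : Representation ℂ A (Fin d → ℂ))
    (f : A →* B) (hf : Function.Surjective f) (h : ∀ x, ∃ c : ℂˣ, R x = (c : ℂ) • ρ (f x)) :
    Cfsg.IsIrrCharacter A R.character := by
  haveI : R.IsIrreducible := by
    have hn : Nontrivial (Fin d → ℂ) := nontrivial_of_isIrreducible ρ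
    refine @IsSimpleOrder.mk _ _ _ ⟨⊥, ⊤, fun h => bot_ne_top
        (show (⊥ : Submodule ℂ (Fin d → ℂ)) = ⊤ from congrArg Subrepresentation.toSubmodule h)⟩
      fun S => ?_
    let S' : Subrepresentation ρ := ⟨S.toSubmodule, fun b v hv => by
      obtain ⟨x, rfl⟩ := hf b
      obtain ⟨c, hc⟩ := h x
      have h1 : R x v ∈ S.toSubmodule := S.apply_mem_toSubmodule x hv
      rw [hc, LinearMap.smul_apply] at h1
      exact (Submodule.smul_mem_iff _ c.ne_zero).1 h1⟩
    rcases ‹ρ.IsIrreducible›.eq_bot_or_eq_top S' with e | e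
    · exact Or.inl (Subrepresentation.toSubmodule_injective
        (congrArg Subrepresentation.toSubmodule e :))
    · exact Or.inr (Subrepresentation.toSubmodule_injective
        (congrArg Subrepresentation.toSubmodule e :))
  exact isIrrCharacter_character R

/-- A linear twist of an irreducible character is irreducible. -/
theorem isIrr_hom_mul {A : Type u} [Group A] [Fintype A] (l : A →* ℂˣ) {φ : A → ℂ}
    (hφ : Cfsg.IsIrrCharacter A φ) : Cfsg.IsIrrCharacter A (fun x => (l x : ℂ) * φ x) := by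
  refine CharBasic.isIrr_of_norm_one
    (IsChar.mul (isCharacter_hom l) (CharBasic.IsIrr.isCharacter hφ)) ?_
  refine Eq.trans ?_ (classInner_irr_self hφ)
  rw [classInner_def, classInner_def]
  congr 1
  refine Finset.sum_congr rfl fun x _ => ?_
  rw [map_mul, mul_mul_mul_comm, Complex.mul_conj', norm_hom]
  simp

variable {G : Type u} [Group G] [Fintype G]

/-- A normal supplement meeting the maximal subgroup in its core. -/
theorem exists_supplement (L H : Subgroup G) [L.Normal] (hLH : L ≤ H) (hmax : IsCoatom H)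
    [Group.IsSolvable (G ⧸ L)] (hcore : ∀ N : Subgroup G, N.Normal → N ≤ H → N ≤ L) :
    ∃ K : Subgroup G, K.Normal ∧ K ⊔ H = ⊤ ∧ K ⊓ H = L := by
  set q := QuotientGroup.mk' L with hq
  have hqs : Function.Surjective q := QuotientGroup.mk'_surjective L
  have hHcomap : (H.map q).comap q = H := by
    rw [Subgroup.comap_map_eq, QuotientGroup.ker_mk', sup_eq_left]
    exact hLH
  have hmaxb : IsCoatom (H.map q) := by
    refine ⟨fun h => hmax.1 (by rw [← hHcomap, h, Subgroup.comap_top]), fun X hX' => ?_⟩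
    have h1 : H < X.comap q := by
      rw [← hHcomap]
      exact (Subgroup.comap_lt_comap_of_surjective hqs).2 hX'
    rw [← Subgroup.map_comap_eq_self_of_surjective hqs X, hmax.2 _ h1,
      Subgroup.map_top_of_surjective _ hqs]
  have hcoreb : ∀ X : Subgroup (G ⧸ L), X.Normal → X ≤ H.map q → X = ⊥ := by
    intro X hXn hXH
    have h1 : X.comap q ≤ L := hcore _ (hXn.comap q) (hHcomap ▸ Subgroup.comap_mono hXH)
    rw [← Subgroup.map_comap_eq_self_of_surjective hqs X, eq_bot_iff]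
    rintro _ ⟨x, hx, rfl⟩
    rw [Subgroup.mem_bot, hq, QuotientGroup.mk'_apply, QuotientGroup.eq_one_iff]
    exact h1 hx
  obtain ⟨p, Kb, -, hKn, -, hKtop, hKinf, -, -⟩ := exists_config hmaxb hcoreb
  refine ⟨Kb.comap q, hKn.comap q, ?_, ?_⟩
  · rw [← hHcomap, Subgroup.comap_sup_eq _ _ _ hqs, hKtop, Subgroup.comap_top]
  · rw [← hHcomap, ← Subgroup.comap_inf, hKinf, MonoidHom.comap_bot, QuotientGroup.ker_mk']

/-- The scalar by which two operators differ, as a homomorphism. -/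
theorem exists_scalar_hom {A B : Type u} [Group A] [Group B] {U : Type*} [AddCommGroup U]
    [Module ℂ U] [Nontrivial U] (τ : Representation ℂ B U) (f g : A →* B)
    (h : ∀ x, ∃ s : ℂˣ, ∀ w, τ ((g x)⁻¹ * f x) w = (s : ℂ) • w) :
    ∃ ν : A →* ℂˣ, ∀ x, τ (f x) = (ν x : ℂ) • τ (g x) := by
  have hν : ∀ x, ∃ s : ℂˣ, τ (f x) = (s : ℂ) • τ (g x) := by
    intro x
    obtain ⟨s, hs⟩ := h x
    refine ⟨s, LinearMap.ext fun w => ?_⟩
    rw [← mul_inv_cancel_left (g x) (f x), map_mul, Module.End.mul_apply, hs, map_smul]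
    rfl
  choose ν₀ hν₀ using hν
  have huniq : ∀ (x : A) (s : ℂˣ), τ (f x) = (s : ℂ) • τ (g x) → s = ν₀ x := by
    intro x s hs
    obtain ⟨w, hw⟩ := exists_ne (0 : U)
    have h1 := LinearMap.congr_fun (hs.symm.trans (hν₀ x)) (τ (g x)⁻¹ w)
    rw [LinearMap.smul_apply, LinearMap.smul_apply, ← Module.End.mul_apply (τ (g x)), ← map_mul,
      mul_inv_cancel, map_one, Module.End.one_apply] at h1
    exact Units.ext (smul_left_injective ℂ hw h1)
  refine ⟨MonoidHom.mk' ν₀ fun x y => (huniq (x * y) (ν₀ x * ν₀ y) ?_).symm, hν₀⟩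
  rw [map_mul f, map_mul g, map_mul τ, map_mul τ, hν₀ x, hν₀ y, Units.val_mul, smul_mul_smul_comm]

/-- The covering group and the two factors. -/
theorem exists_cover {Y : Type u} [Group Y] [Finite Y] (π : Y →* G) (hπs : Function.Surjective π)
    (L K H : Subgroup G) [L.Normal] [K.Normal] (hLH : L ≤ H) (hKH : K ⊔ H = ⊤)
    (hKinfH : K ⊓ H = L) {d : ℕ} (ρ : Representation ℂ L (Fin d → ℂ)) [ρ.IsIrreducible]
    (opy : Representation ℂ Y (Fin d → ℂ)) {U : Type*} [AddCommGroup U] [Module ℂ U]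
    [FiniteDimensional ℂ U] [Nontrivial U] (τ : Representation ℂ (H.comap π) U)
    (hscal : ∀ (z : H.comap π) (hz : π (z : Y) ∈ L), ∃ c : ℂˣ,
      opy (z : Y) = (c : ℂ) • ρ ⟨_, hz⟩ ∧ ∀ w, τ z w = ((c⁻¹ : ℂˣ) : ℂ) • w)
    (ϑ : H → ℂ)
    (hsplit : ∀ z : H.comap π, ϑ ⟨π (z : Y), z.2⟩ = opy.character (z : Y) * τ.character z) :
    ∃ (Gt : Type u) (_ : Group Gt) (_ : Fintype Gt) (pr : Gt →* G) (δ : H.comap pr → ℂ)
      (γ : Gt → ℂ), Function.Surjective pr ∧ Cfsg.IsCharacter (H.comap pr) δ ∧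
      Cfsg.IsCharacter Gt γ ∧
      Cfsg.IsIrrCharacter (L.comap pr)
        (fun x => δ ⟨(x : Gt), Subgroup.comap_mono hLH x.2⟩) ∧
      (∀ x : H.comap pr, δ x * γ (x : Gt) = ϑ ⟨pr (x : Gt), x.2⟩) ∧
      ∀ x : L.comap pr, γ (x : Gt) ≠ 0 := by
  classical
  set qK := QuotientGroup.mk' K with hqK
  let f₁ : Y × (H.comap π) →* G ⧸ K := (qK.comp π).comp (MonoidHom.fst Y (H.comap π))
  let f₂ : Y × (H.comap π) →* G ⧸ K := (qK.comp π).comp ((H.comap π).subtype.comp (MonoidHom.snd Y (H.comap π)))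
  let Gt : Subgroup (Y × (H.comap π)) := MonoidHom.eqLocus f₁ f₂
  haveI := Fintype.ofFinite Gt
  let pr : Gt →* G := (π.comp (MonoidHom.fst Y (H.comap π))).comp Gt.subtype
  have hprs : Function.Surjective pr := by
    intro g
    obtain ⟨k, hk, h, hh, rfl⟩ :=
      Subgroup.mem_sup_of_normal_left.1 (hKH.symm ▸ Subgroup.mem_top g)
    obtain ⟨y, hy⟩ := hπs (k * h)
    obtain ⟨z, hz⟩ := hπs h
    refine ⟨⟨(y, ⟨z, show π z ∈ H from hz ▸ hh⟩), ?_⟩, hy⟩
    show qK (π y) = qK (π z)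
    rw [hy, hz, map_mul, show qK k = 1 from (QuotientGroup.eq_one_iff k).2 hk, one_mul]
  have hrel : ∀ x : Gt, (π (x : Y × (H.comap π)).1)⁻¹ * π ((x : Y × (H.comap π)).2 : Y) ∈ K := fun x => by
    rw [← QuotientGroup.eq_one_iff, QuotientGroup.mk_mul, QuotientGroup.mk_inv, inv_mul_eq_one]
    exact x.2
  have hLtHt : (L.comap pr) ≤ (H.comap pr) := Subgroup.comap_mono hLH
  let fy : (H.comap pr) →* (H.comap π) :=
    MonoidHom.mk' (fun x => ⟨((x : Gt) : Y × (H.comap π)).1, x.2⟩) fun _ _ => rfl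
  let fz : (H.comap pr) →* (H.comap π) := (MonoidHom.snd Y (H.comap π)).comp (Gt.subtype.comp (H.comap pr).subtype)
  have hwL : ∀ x : (H.comap pr), π (((fy x)⁻¹ * fz x : (H.comap π)) : Y) ∈ L := by
    intro x
    refine hKinfH.le ⟨?_, ((fy x)⁻¹ * fz x).2⟩
    rw [Subgroup.coe_mul, Subgroup.coe_inv, map_mul, map_inv]
    exact hrel (x : Gt)
  obtain ⟨ν, hν⟩ := exists_scalar_hom τ fz fy fun x => by
    obtain ⟨s, -, hs⟩ := hscal _ (hwL x)
    exact ⟨s⁻¹, hs⟩
  let R : Representation ℂ (H.comap pr) (Fin d → ℂ) := opy.comp ((H.comap π).subtype.comp fy)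
  haveI := Fintype.ofFinite (L.comap pr)
  refine ⟨Gt, inferInstance, inferInstance, pr,
    fun x => ((ν⁻¹ x : ℂˣ) : ℂ) * R.character x, fun x => τ.character (x : Y × (H.comap π)).2, hprs,
    IsChar.mul (isCharacter_hom ν⁻¹) (isCharacter_character R),
    IsChar.comp (isCharacter_character τ) ((MonoidHom.snd Y (H.comap π)).comp Gt.subtype), ?_, ?_, ?_⟩
  · let toL : (L.comap pr) →* L := MonoidHom.mk' (fun x => ⟨pr (x : Gt), x.2⟩) fun a b =>
      Subtype.ext (map_mul pr (a : Gt) b)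
    have htoL : Function.Surjective toL := fun l => by
      obtain ⟨x, hx⟩ := hprs (l : G)
      exact ⟨⟨x, show pr x ∈ L from hx ▸ l.2⟩, Subtype.ext hx⟩
    refine isIrr_hom_mul ((ν⁻¹).comp (Subgroup.inclusion hLtHt))
      (φ := fun x => R.character ⟨(x : Gt), hLtHt x.2⟩) ?_
    refine isIrr_of_scalar (ρ := ρ) (R.comp (Subgroup.inclusion hLtHt)) toL htoL fun x => ?_
    obtain ⟨s, hs, -⟩ := hscal (fy (Subgroup.inclusion hLtHt x)) x.2
    exact ⟨s, hs⟩
  · intro x
    have htr : τ.character (fz x) = (ν x : ℂ) * τ.character (fy x) := by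
      show LinearMap.trace ℂ U (τ (fz x)) = (ν x : ℂ) * LinearMap.trace ℂ U (τ (fy x))
      rw [hν x, map_smul, smul_eq_mul]
    show ((ν⁻¹ x : ℂˣ) : ℂ) * opy.character ((fy x : (H.comap π)) : Y) * τ.character (fz x) = _
    rw [htr, MonoidHom.inv_apply]
    refine Eq.trans ?_ (hsplit (fy x)).symm
    rw [mul_assoc, mul_left_comm (opy.character _), ← mul_assoc, ← Units.val_mul, inv_mul_cancel,
      Units.val_one, one_mul]
  · intro x
    have hzL : π (((x : Gt) : Y × (H.comap π)).2 : Y) ∈ L := by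
      refine hKinfH.le ⟨?_, ((x : Gt) : Y × (H.comap π)).2.2⟩
      have h2 : π ((x : Gt) : Y × (H.comap π)).1 ∈ K := (hKinfH.ge x.2).1
      simpa using mul_mem h2 (hrel (x : Gt))
    obtain ⟨s, -, hs⟩ := hscal _ hzL
    have h1 : τ ((x : Gt) : Y × (H.comap π)).2 = ((s⁻¹ : ℂˣ) : ℂ) • (1 : Module.End ℂ U) :=
      LinearMap.ext hs
    show LinearMap.trace ℂ U (τ ((x : Gt) : Y × (H.comap π)).2) ≠ 0
    rw [h1, map_smul, smul_eq_mul, LinearMap.trace_one]
    exact mul_ne_zero (Units.ne_zero _) (Nat.cast_ne_zero.2 Module.finrank_pos.ne')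

/-- The descent, for a given normal subgroup. -/
theorem exists_descent_aux (L H : Subgroup G) [L.Normal] (hLH : L ≤ H)
    (hcore : ∀ N : Subgroup G, N.Normal → N ≤ H → N ≤ L) (hmax : IsCoatom H)
    [Group.IsSolvable (G ⧸ L)] {ϑ : H → ℂ} (hϑ : Cfsg.IsCharacter H ϑ)
    (hind : Cfsg.IsIrrCharacter G (Cfsg.indFun H ϑ))
    (hhom : ∀ M : Subgroup G, M.Normal → L ≤ M → Homog M (Cfsg.indFun H ϑ)) :
    ∃ (G₁ : Type u) (_ : Group G₁) (_ : Fintype G₁) (H₁ : Subgroup G₁) (ϑ₁ : H₁ → ℂ),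
      H₁.normalCore.index < L.index ∧ IsCoatom H₁ ∧
      Group.IsSolvable (G₁ ⧸ H₁.normalCore) ∧ Cfsg.IsCharacter H₁ ϑ₁ ∧
      Cfsg.IsIrrCharacter G₁ (Cfsg.indFun H₁ ϑ₁) ∧
      ∀ M : Subgroup G₁, M.Normal → H₁.normalCore ≤ M → Homog M (Cfsg.indFun H₁ ϑ₁) := by
  classical
  haveI := Fintype.ofFinite L
  haveI := Fintype.ofFinite H
  obtain ⟨K, hKnorm, hKH, hKinfH⟩ := exists_supplement L H hLH hmax hcore
  haveI := hKnorm
  -- the invariant character of `L`
  set χ := Cfsg.indFun H ϑ with hχ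
  have hϑirr := isIrr_of_indFun H hϑ hind
  obtain ⟨η, c, hη, hcη⟩ := hhom L inferInstance le_rfl
  have hcon : Cfsg.classInner (fun h : H => χ h) ϑ ≠ 0 := by
    rw [← classInner_indFun_right H ϑ _ (isClassFunction_indFun H ϑ), classInner_irr_self hind]
    exact one_ne_zero
  obtain ⟨r, hr, hϑr⟩ := IsChar.exists_eq_add (IsChar.res (CharBasic.IsIrr.isCharacter hind) H)
    hϑirr hcon
  have hϑL : Cfsg.IsCharacter L (fun l => ϑ ⟨(l : G), hLH l.2⟩) :=
    IsChar.comp hϑ (Subgroup.inclusion hLH)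
  have hϑη := eq_smul_of_add hϑL (IsChar.comp hr (Subgroup.inclusion hLH)) hη (c := c) (by
    rw [← hcη]
    funext l
    exact (congrFun hϑr ⟨(l : G), hLH l.2⟩).symm)
  obtain ⟨a, ha'⟩ := classInner_isChar_nat hϑL (CharBasic.IsIrr.isCharacter hη)
  rw [ha'] at hϑη
  have ha : 0 < a := Nat.pos_of_ne_zero fun h => by
    rw [h, Nat.cast_zero, zero_smul] at hϑη
    exact CharBasic.IsIrr.one_ne_zero hϑirr (congrFun hϑη 1)
  have hc0 : c ≠ 0 := fun h => by
    rw [h, zero_smul] at hcη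
    exact CharBasic.IsIrr.one_ne_zero hind (congrFun hcη 1)
  have hcval : c = (H.index : ℂ) * a := by
    have h1 : χ ((1 : L) : G) = c * η 1 := congrFun hcη 1
    rw [OneMemClass.coe_one, hχ, indFun_one,
      show ϑ 1 = (a : ℂ) * η 1 from congrFun hϑη 1, ← mul_assoc] at h1
    exact (mul_right_cancel₀ (CharBasic.IsIrr.one_ne_zero hη) h1).symm
  have hηinv : ∀ (g : G) (l : L), η (nconj L g l) = η l := by
    intro g l
    have h1 : χ (g * (l : G) * g⁻¹) = c * η (nconj L g l) := congrFun hcη (nconj L g l)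
    have h2 : χ (l : G) = c * η l := congrFun hcη l
    have h3 : χ (g * (l : G) * g⁻¹) = χ (l : G) :=
      CharBasic.IsIrr.isClassFunction hind l g
    rw [h1, h2] at h3
    exact mul_left_cancel₀ hc0 h3
  obtain ⟨d, ρ, hρ, hρη⟩ := hη
  obtain ⟨m, σ, hσ, hσϑ⟩ := hϑirr
  haveI := hρ
  haveI := hσ
  have hinv : ∀ (g : G) (l : L), ρ.character (nconj L g l) = ρ.character l := by
    intro g l; rw [hρη]; exact hηinv g l
  have hres : ∀ l : L, σ.character ⟨(l : G), hLH l.2⟩ = (a : ℂ) * ρ.character l := by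
    intro l; rw [hσϑ, hρη]; exact congrFun hϑη l
  haveI := finite_detOneGroup ρ
  have hU := multU_finrank L H hLH ρ σ a hres
  haveI hUfree : Module.Free ℂ (multU L H hLH ρ σ) :=
    Module.Free.of_divisionRing ℂ (multU L H hLH ρ σ)
  haveI hUfin : Module.Finite ℂ (multU L H hLH ρ σ) := Module.finite_of_finrank_pos (by omega)
  haveI hUnt : Nontrivial (multU L H hLH ρ σ) :=
    Module.nontrivial_of_finrank_pos (R := ℂ) (by omega)
  refine (fun h => ?_) (exists_cover (piY L ρ) (piY_surjective L ρ hinv) L K H hLH hKH hKinfH ρ (opY L ρ)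
      (U := multU L H hLH ρ σ) (τ := tauU L H hLH ρ σ)
      ?_ ϑ
      ?_)
  case refine_2 => exact fun z hz => exists_scalar_tauU L H hLH ρ σ z hz
  case refine_3 =>
    intro z
    rw [← hσϑ]
    exact character_split L H hLH ρ σ hinv a hres ha z
  obtain ⟨Gt, _, _, pr, δ, γ, hprs, hδ, hγ, hδL, hprod, hγne⟩ := h
  haveI hLtn : (L.comap pr).Normal := Subgroup.Normal.comap inferInstance pr
  have hLtHt : (L.comap pr) ≤ (H.comap pr) := Subgroup.comap_mono hLH
  haveI := Fintype.ofFinite (H.comap pr)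
  haveI := Fintype.ofFinite (L.comap pr)
  set X := Cfsg.indFun (H.comap pr) δ with hXdef
  have hXγ : X * γ = fun x => χ (pr x) := by
    rw [hXdef, ← indFun_mul_res (H.comap pr) δ γ (CharBasic.IsChar.isClassFunction hγ)]
    funext x
    rw [hχ, ← indFun_comap pr hprs H ϑ x]
    exact congrFun (congrArg _ (funext hprod)) x
  have hXγirr : Cfsg.IsIrrCharacter Gt (X * γ) := by
    rw [hXγ]; exact IsIrr.comp hind pr hprs
  have hXirr : Cfsg.IsIrrCharacter Gt X := isIrr_of_mul (IsChar.ind (H.comap pr) hδ) hγ hXγirr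
  have hidx : (H.comap pr).index = H.index := Subgroup.index_comap_of_surjective H hprs
  have hXL : ∀ l : (L.comap pr), X l = ((H.comap pr).index : ℂ) * δ ⟨(l : Gt), hLtHt l.2⟩ := by
    intro l
    apply mul_right_cancel₀ (hγne l)
    have h1 : X (l : Gt) * γ l = χ (pr (l : Gt)) := congrFun hXγ (l : Gt)
    rw [mul_assoc, h1, hprod ⟨(l : Gt), hLtHt l.2⟩, hidx]
    rw [show χ (pr (l : Gt)) = c * η ⟨pr (l : Gt), l.2⟩ from congrFun hcη ⟨pr (l : Gt), l.2⟩,
      show ϑ ⟨pr (l : Gt), hLtHt l.2⟩ = (a : ℂ) * η ⟨pr (l : Gt), l.2⟩ from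
        congrFun hϑη ⟨pr (l : Gt), l.2⟩, hcval, mul_assoc]
  haveI : Group.IsSolvable (Gt ⧸ (L.comap pr)) := by
    refine solvable_of_solvable_injective (f := QuotientGroup.map (L.comap pr) L pr le_rfl) ?_
    rw [← MonoidHom.ker_eq_bot_iff, eq_bot_iff]
    intro x hx
    obtain ⟨y, rfl⟩ := QuotientGroup.mk_surjective x
    rw [MonoidHom.mem_ker, QuotientGroup.map_mk, QuotientGroup.eq_one_iff] at hx
    rw [Subgroup.mem_bot, QuotientGroup.eq_one_iff]
    exact hx
  have hmaxt : IsCoatom (H.comap pr) := by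
    refine ⟨fun h => hmax.1 (by rw [← Subgroup.map_comap_eq_self_of_surjective hprs H, h,
      Subgroup.map_top_of_surjective _ hprs]), fun S hS => ?_⟩
    have hker : pr.ker ≤ S := (Subgroup.ker_le_comap pr H).trans hS.le
    have h1 : H < S.map pr := by
      rw [← Subgroup.comap_lt_comap_of_surjective hprs, Subgroup.comap_map_eq, sup_eq_left.2 hker]
      exact hS
    rw [← sup_eq_left.2 hker, ← Subgroup.comap_map_eq, hmax.2 _ h1, Subgroup.comap_top]
  obtain ⟨Mt, hMtn, hLMt, hMtH, hMt⟩ := exists_nonhomogeneous (L.comap pr) (H.comap pr) hLtHt hmaxt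
    (fun N hN hNH => Subgroup.map_le_iff_le_comap.1
      (hcore _ (hN.map pr hprs) (Subgroup.map_le_iff_le_comap.2 hNH)))
    hδ hδL hXirr hXL
  -- the inertia subgroup
  haveI := hMtn
  haveI := Fintype.ofFinite Mt
  obtain ⟨ψ, hψ⟩ := exists_constituent (IsChar.res (CharBasic.IsIrr.isCharacter hXirr) Mt)
    fun e => CharBasic.IsIrr.one_ne_zero hXirr (congrFun e 1)
  set T := inertia Mt (ψ : Mt → ℂ) with hT
  have hMT : Mt ≤ T := le_inertia Mt (CharBasic.IsIrr.isClassFunction ψ.2)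
  have hTtop : T ≠ ⊤ := by
    intro h
    refine hMt (ψ : Mt → ℂ) (Cfsg.classInner (fun n : Mt => X n) (ψ : Mt → ℂ)) ψ.2 ?_
    have h1 := clifford_avg Mt hXirr ψ.2 hψ
    rw [← hT, h, Subgroup.card_top,
      Finset.sum_congr rfl (fun x _ => (mem_inertia Mt).1 (show x ∈ inertia Mt (ψ : Mt → ℂ) by
        rw [← hT, h]; exact Subgroup.mem_top x)), Finset.sum_const, Finset.card_univ,
      ← Nat.card_eq_fintype_card, ← Nat.cast_smul_eq_nsmul ℂ, smul_comm] at h1
    exact smul_right_injective _ (card_ne_zero_complex Gt) h1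
  obtain ⟨φ₁, hφ₁, hindφ, -⟩ := exists_clifford_correspondent Mt hXirr ψ.2 hψ
  let φ₀ : T → ℂ := fun t => φ₁ t * γ t
  have hφ₀ : Cfsg.IsCharacter T φ₀ :=
    IsChar.mul (CharBasic.IsIrr.isCharacter hφ₁) (IsChar.res hγ T)
  have hindφ₀ : Cfsg.indFun T φ₀ = fun x => χ (pr x) := by
    show Cfsg.indFun T (fun t => φ₁ t * γ t) = _
    rw [indFun_mul_res T φ₁ γ (CharBasic.IsChar.isClassFunction hγ), ← hT] at *
    rw [hindφ]
    exact hXγ
  obtain ⟨H₁, hH₁, hTH₁⟩ := (eq_top_or_exists_le_coatom T).resolve_left hTtop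
  haveI := Fintype.ofFinite H₁
  let e₁ := Subgroup.subgroupOfEquivOfLe hTH₁
  let ϑ₁ : H₁ → ℂ := Cfsg.indFun (T.subgroupOf H₁)
    (fun x => φ₀ ⟨(x : H₁), Subgroup.mem_subgroupOf.mp x.2⟩)
  have hϑ₁ : Cfsg.IsCharacter H₁ ϑ₁ := IsChar.ind _ (IsChar.comp hφ₀ e₁.toMonoidHom)
  have hind₁ : Cfsg.indFun H₁ ϑ₁ = fun x => χ (pr x) := by
    rw [← hindφ₀]; exact indFun_indFun T H₁ hTH₁ φ₀
  have hMcore : Mt ≤ H₁.normalCore := Subgroup.normal_le_normalCore.2 (hMT.trans hTH₁)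
  refine ⟨Gt, inferInstance, inferInstance, H₁, ϑ₁, ?_, hH₁, ?_, hϑ₁, ?_, ?_⟩
  · have h1 : (L.comap pr) < H₁.normalCore :=
      lt_of_lt_of_le (lt_of_le_of_ne hLMt fun h => hMtH (h ▸ hLtHt)) hMcore
    calc H₁.normalCore.index < (L.comap pr).index := Subgroup.index_strictAnti h1
      _ = L.index := Subgroup.index_comap_of_surjective L hprs
  · refine Group.isSolvable_of_surjective
      (f := QuotientGroup.map (L.comap pr) H₁.normalCore (MonoidHom.id Gt) (hLMt.trans hMcore)) fun x => ?_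
    obtain ⟨g, rfl⟩ := QuotientGroup.mk_surjective x
    exact ⟨(g : Gt ⧸ (L.comap pr)), rfl⟩
  · rw [hind₁]; exact IsIrr.comp hind pr hprs
  · intro M hM hMle
    have hLM : L ≤ M.map pr := by
      intro l hl
      obtain ⟨x, rfl⟩ := hprs l
      exact ⟨x, hMle (hMcore (hLMt hl)), rfl⟩
    obtain ⟨φ, e, hφ, he⟩ := hhom (M.map pr) (hM.map pr hprs) hLM
    refine ⟨fun x => φ ⟨pr x, Subgroup.mem_map_of_mem pr x.2⟩, e,
      IsIrr.comp hφ (pr.subgroupMap M) (pr.subgroupMap_surjective M), ?_⟩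
    rw [hind₁]
    funext x
    exact congrFun he ⟨pr x, Subgroup.mem_map_of_mem pr x.2⟩

/-- The covering step. -/
theorem exists_descent (H : Subgroup G) (hmax : IsCoatom H)
    [Group.IsSolvable (G ⧸ H.normalCore)] {ϑ : H → ℂ} (hϑ : Cfsg.IsCharacter H ϑ)
    (hind : Cfsg.IsIrrCharacter G (Cfsg.indFun H ϑ))
    (hhom : ∀ M : Subgroup G, M.Normal → H.normalCore ≤ M → Homog M (Cfsg.indFun H ϑ)) :
    ∃ (G₁ : Type u) (_ : Group G₁) (_ : Fintype G₁) (H₁ : Subgroup G₁) (ϑ₁ : H₁ → ℂ),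
      H₁.normalCore.index < H.normalCore.index ∧ IsCoatom H₁ ∧
      Group.IsSolvable (G₁ ⧸ H₁.normalCore) ∧ Cfsg.IsCharacter H₁ ϑ₁ ∧
      Cfsg.IsIrrCharacter G₁ (Cfsg.indFun H₁ ϑ₁) ∧
      ∀ M : Subgroup G₁, M.Normal → H₁.normalCore ≤ M → Homog M (Cfsg.indFun H₁ ϑ₁) :=
  exists_descent_aux H.normalCore H H.normalCore_le
    (fun _ hN hNH => @Subgroup.normal_le_normalCore G _ H _ hN |>.2 hNH) hmax hϑ hind hhom

end Cfsg.Agent.H35.Berger
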