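import Mathlib.GroupTheory.Solvable
import Mathlib.GroupTheory.PGroup
import Mathlib.GroupTheory.QuotientGroup.Basic
import Mathlib.GroupTheory.Complement
import Mathlib.GroupTheory.Index

/-!
# Maximal subgroups with a solvable quotient by their core
-/

set_option autoImplicit false

namespace Cfsg.Agent.H35.Berger

variable {Q : Type*} [Group Q] [Finite Q]

/-- A nontrivial finite solvable group has a nontrivial normal elementary abelian subgroup. -/
theorem exists_normal_elementary [Group.IsSolvable Q] [Nontrivial Q] :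
    ∃ (p : ℕ) (A : Subgroup Q), p.Prime ∧ A.Normal ∧ A ≠ ⊥ ∧
      (∀ x ∈ A, ∀ y ∈ A, x * y = y * x) ∧ ∀ x ∈ A, x ^ p = 1 := by
  classical
  obtain ⟨n, hn⟩ := (Group.IsSolvable.solvable : ∃ n, derivedSeries Q n = ⊥)
  have hex : ∃ k, derivedSeries Q k = ⊥ := ⟨n, hn⟩
  obtain ⟨j, hj⟩ : ∃ j, Nat.find hex = j + 1 := by
    refine Nat.exists_eq_succ_of_ne_zero fun h => ?_
    have := Nat.find_spec hex
    rw [h, derivedSeries_zero] at this
    exact top_ne_bot this
  have hB : derivedSeries Q j ≠ ⊥ := Nat.find_min hex (by omega)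
  have hBab : ∀ x ∈ derivedSeries Q j, ∀ y ∈ derivedSeries Q j, x * y = y * x := by
    intro x hx y hy
    have h := Nat.find_spec hex
    rw [hj, derivedSeries_succ, Subgroup.commutator_eq_bot_iff_le_centralizer] at h
    exact (Subgroup.mem_centralizer_iff.1 (h hx) y hy).symm
  have hcard : Nat.card (derivedSeries Q j) ≠ 1 := fun h => hB (Subgroup.card_eq_one.1 h)
  obtain ⟨p, hp, hpd⟩ := Nat.exists_prime_and_dvd hcard
  haveI : Fact p.Prime := ⟨hp⟩
  let A : Subgroup Q :=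
    { carrier := {x | x ∈ derivedSeries Q j ∧ x ^ p = 1}
      one_mem' := ⟨one_mem _, one_pow p⟩
      mul_mem' := fun {a b} ha hb => ⟨mul_mem ha.1 hb.1, by
        rw [(show Commute a b from hBab a ha.1 b hb.1).mul_pow, ha.2, hb.2, mul_one]⟩
      inv_mem' := fun {a} ha => ⟨inv_mem ha.1, by rw [inv_pow, ha.2, inv_one]⟩ }
  obtain ⟨x, hx⟩ := exists_prime_orderOf_dvd_card' p hpd
  refine ⟨p, A, hp, ⟨fun a ha g => ⟨(derivedSeries_normal Q j).conj_mem a ha.1 g, ?_⟩⟩, ?_,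
    fun a ha b hb => hBab a ha.1 b hb.1, fun a ha => ha.2⟩
  · rw [conj_pow, ha.2, mul_one, mul_inv_cancel]
  · intro h
    have hx1 : (x : Q) ∈ A := ⟨x.2, by rw [← hx, ← Subgroup.coe_pow, pow_orderOf_eq_one]; rfl⟩
    rw [h, Subgroup.mem_bot] at hx1
    rw [← Subgroup.orderOf_coe, hx1, orderOf_one] at hx
    exact hp.ne_one hx.symm

omit [Finite Q] in
/-- A core-free maximal subgroup is complemented by every nontrivial abelian normal subgroup. -/
theorem complement_of_abelian_normal {H K : Subgroup Q} (hmax : IsCoatom H)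
    (hcore : ∀ N : Subgroup Q, N.Normal → N ≤ H → N = ⊥) (hK : K.Normal) (hK1 : K ≠ ⊥)
    (hab : ∀ x ∈ K, ∀ y ∈ K, x * y = y * x) : K ⊔ H = ⊤ ∧ K ⊓ H = ⊥ := by
  have htop : K ⊔ H = ⊤ :=
    hmax.2 _ (lt_of_le_of_ne le_sup_right fun h => hK1 (hcore K hK (h ▸ le_sup_left)))
  refine ⟨htop, hcore _ ?_ inf_le_right⟩
  refine ⟨fun x hx g => ?_⟩
  haveI := hK
  obtain ⟨k, hk, h, hh, rfl⟩ := Subgroup.mem_sup_of_normal_left.1 (htop.symm ▸ Subgroup.mem_top g)
  have e : h * x * h⁻¹ ∈ K ⊓ H := ⟨hK.conj_mem x hx.1 h, mul_mem (mul_mem hh hx.2) (H.inv_mem hh)⟩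
  rw [show k * h * x * (k * h)⁻¹ = k * (h * x * h⁻¹) * k⁻¹ by group, hab k hk _ e.1,
    mul_inv_cancel_right]
  exact e

omit [Finite Q] in
/-- A subgroup normalised by an abelian normal supplement and by `H` is normal. -/
theorem normal_of_supplement {H K X : Subgroup Q} (hK : K.Normal) (htop : K ⊔ H = ⊤)
    (hXK : ∀ k ∈ K, ∀ x ∈ X, k * x * k⁻¹ ∈ X) (hXH : ∀ h ∈ H, ∀ x ∈ X, h * x * h⁻¹ ∈ X) :
    X.Normal := by
  haveI := hK
  refine ⟨fun x hx g => ?_⟩
  obtain ⟨k, hk, h, hh, rfl⟩ := Subgroup.mem_sup_of_normal_left.1 (htop.symm ▸ Subgroup.mem_top g)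
  rw [show k * h * x * (k * h)⁻¹ = k * (h * x * h⁻¹) * k⁻¹ by group]
  exact hXK k hk _ (hXH h hh x hx)

/-- The configuration: `K` a `p`-group complementing `H`, and, unless `H` is trivial, a normal
`q`-subgroup `A` of `H` acting faithfully on `K`, with `q ≠ p`. -/
theorem exists_config [Group.IsSolvable Q] {H : Subgroup Q} (hmax : IsCoatom H)
    (hcore : ∀ N : Subgroup Q, N.Normal → N ≤ H → N = ⊥) :
    ∃ (p : ℕ) (K : Subgroup Q), p.Prime ∧ K.Normal ∧ K ≠ ⊥ ∧ K ⊔ H = ⊤ ∧ K ⊓ H = ⊥ ∧ IsPGroup p K ∧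
      (H = ⊥ ∨ ∃ (q : ℕ) (A : Subgroup Q), q.Prime ∧ q ≠ p ∧ A ≤ H ∧ A ≠ ⊥ ∧ IsPGroup q A ∧
        (K ⊔ A).Normal ∧ (K ⊔ A) ⊓ H = A ∧
        ∀ a ∈ A, a ≠ 1 → ∃ y ∈ K, y⁻¹ * a * y ∉ A) := by
  classical
  haveI : Nontrivial Q := by
    by_contra h
    rw [not_nontrivial_iff_subsingleton] at h
    exact hmax.1 (Subsingleton.elim _ _)
  obtain ⟨p, K, hp, hK, hK1, hKab, hKp⟩ := exists_normal_elementary (Q := Q)
  obtain ⟨htop, hinf⟩ := complement_of_abelian_normal hmax hcore hK hK1 hKab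
  refine ⟨p, K, hp, hK, hK1, htop, hinf, fun x => ⟨1, Subtype.ext (by simpa using hKp x x.2)⟩, ?_⟩
  rcases eq_or_ne H ⊥ with hH | hH
  · exact Or.inl hH
  right
  haveI : Nontrivial H := (Subgroup.nontrivial_iff_ne_bot H).2 hH
  haveI : Group.IsSolvable H := inferInstance
  obtain ⟨q, A₀, hq, hA₀, hA₀1, hA₀ab, hA₀q⟩ := exists_normal_elementary (Q := H)
  set A := A₀.map H.subtype with hA
  have hAH : A ≤ H := Subgroup.map_subtype_le _
  have hAab : ∀ x ∈ A, ∀ y ∈ A, x * y = y * x := by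
    rintro _ ⟨x, hx, rfl⟩ _ ⟨y, hy, rfl⟩
    exact congrArg Subtype.val (hA₀ab x hx y hy)
  have hAn : ∀ h ∈ H, ∀ a ∈ A, h * a * h⁻¹ ∈ A := by
    rintro h hh _ ⟨a, ha, rfl⟩
    exact ⟨⟨h, hh⟩ * a * ⟨h, hh⟩⁻¹, hA₀.conj_mem a ha _, rfl⟩
  have hA1 : A ≠ ⊥ := fun h => hA₀1 (Subgroup.map_eq_bot_iff_of_injective _ H.subtype_injective |>.1 h)
  have hdisj : ∀ x, x ∈ K → x ∈ H → x = 1 := fun x h1 h2 =>
    Subgroup.mem_bot.1 (hinf ▸ (⟨h1, h2⟩ : x ∈ K ⊓ H))
  -- faithfulness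
  have hfaith : H ⊓ Subgroup.centralizer (K : Set Q) = ⊥ := by
    refine hcore _ (normal_of_supplement hK htop ?_ ?_) inf_le_left
    · intro k hk x hx
      rw [Subgroup.mem_centralizer_iff.1 hx.2 k hk, mul_inv_cancel_right]
      exact hx
    · intro h hh x hx
      refine ⟨mul_mem (mul_mem hh hx.1) (H.inv_mem hh), Subgroup.mem_centralizer_iff.2 fun k hk => ?_⟩
      have hk' : h⁻¹ * k * h ∈ K := by simpa using hK.conj_mem k hk h⁻¹
      calc k * (h * x * h⁻¹) = h * ((h⁻¹ * k * h) * x) * h⁻¹ := by group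
        _ = h * (x * (h⁻¹ * k * h)) * h⁻¹ := by rw [Subgroup.mem_centralizer_iff.1 hx.2 _ hk']
        _ = _ := by group
  have hqp : q ≠ p := by
    rintro rfl
    haveI : Fact q.Prime := ⟨hp⟩
    -- the fixed points of `A` on `K`
    set X := K ⊓ Subgroup.centralizer (A : Set Q) with hX
    have hXn : X.Normal := by
      refine normal_of_supplement hK htop ?_ ?_
      · intro k hk x hx
        rw [hKab k hk x hx.1, mul_inv_cancel_right]
        exact hx
      · intro h hh x hx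
        refine ⟨hK.conj_mem x hx.1 h, Subgroup.mem_centralizer_iff.2 fun a ha => ?_⟩
        have ha' : h⁻¹ * a * h ∈ A := by simpa using hAn _ (inv_mem hh) a ha
        calc a * (h * x * h⁻¹) = h * ((h⁻¹ * a * h) * x) * h⁻¹ := by group
          _ = h * (x * (h⁻¹ * a * h)) * h⁻¹ := by rw [Subgroup.mem_centralizer_iff.1 hx.2 _ ha']
          _ = _ := by group
    let _ : SMul A K := ⟨fun a k => ⟨(a : Q) * k * (a : Q)⁻¹, hK.conj_mem k k.2 a⟩⟩
    let _ : MulAction A K :=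
      { one_smul := fun k => Subtype.ext (by
          show ((1 : A) : Q) * k * ((1 : A) : Q)⁻¹ = k
          simp)
        mul_smul := fun a b k => Subtype.ext (by
          show ((a * b : A) : Q) * k * ((a * b : A) : Q)⁻¹ =
            (a : Q) * ((b : Q) * k * (b : Q)⁻¹) * (a : Q)⁻¹
          push_cast
          group) }
    have hAq : IsPGroup q A := fun a => ⟨1, by
      obtain ⟨a', ha', he⟩ := a.2
      apply Subtype.ext
      rw [pow_one, Subgroup.coe_pow, ← he]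
      exact congrArg Subtype.val (hA₀q a' ha')⟩
    have hdvd : q ∣ Nat.card K := by
      obtain ⟨x, hx, hx1⟩ := (Subgroup.bot_or_exists_ne_one K).resolve_left hK1
      have : orderOf x = q := orderOf_eq_prime (hKp x hx) hx1
      rw [← this, ← Subgroup.orderOf_mk x hx]
      exact orderOf_dvd_natCard _
    have h1fix : (1 : K) ∈ MulAction.fixedPoints A K := fun a => Subtype.ext (by
      show (a : Q) * ((1 : K) : Q) * (a : Q)⁻¹ = _
      simp)
    obtain ⟨b, hb, hb1⟩ :=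
      hAq.exists_fixed_point_of_prime_dvd_card_of_fixed_point K hdvd h1fix
    have hbX : (b : Q) ∈ X := ⟨b.2, Subgroup.mem_centralizer_iff.2 fun a ha =>
      mul_inv_eq_iff_eq_mul.1 (congrArg Subtype.val (hb ⟨a, ha⟩))⟩
    have hX1 : X ≠ ⊥ := fun h => hb1 (Subtype.ext (Subgroup.mem_bot.1 (h ▸ hbX)).symm)
    obtain ⟨hXtop, -⟩ := complement_of_abelian_normal hmax hcore hXn hX1
      fun x hx y hy => hKab x hx.1 y hy.1
    haveI := hXn
    have hKX : K ≤ X := by
      intro k hk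
      obtain ⟨x, hx, h, hh, he⟩ :=
        Subgroup.mem_sup_of_normal_left.1 (hXtop.symm ▸ Subgroup.mem_top k)
      have : h = x⁻¹ * k := by rw [← he]; group
      have h1 : h = 1 := hdisj h (this ▸ mul_mem (inv_mem hx.1) hk) hh
      rw [← he, h1, mul_one]
      exact hx
    apply hA1
    rw [eq_bot_iff, ← hfaith]
    exact le_inf hAH fun a ha => Subgroup.mem_centralizer_iff.2 fun k hk =>
      (Subgroup.mem_centralizer_iff.1 (hKX hk).2 a ha).symm
  haveI := hK
  refine ⟨q, A, hq, hqp, hAH, hA1, fun a => ⟨1, ?_⟩, ?_, ?_, ?_⟩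
  · obtain ⟨a', ha', he⟩ := a.2
    apply Subtype.ext
    rw [pow_one, Subgroup.coe_pow, ← he]
    exact congrArg Subtype.val (hA₀q a' ha')
  · refine normal_of_supplement hK htop (fun k hk x hx => ?_) (fun h hh x hx => ?_)
    · exact mul_mem (mul_mem (le_sup_left (a := K) hk) hx) (inv_mem (le_sup_left (a := K) hk))
    · obtain ⟨k, hk, a, ha, rfl⟩ := Subgroup.mem_sup_of_normal_left.1 hx
      rw [show h * (k * a) * h⁻¹ = h * k * h⁻¹ * (h * a * h⁻¹) by group]
      exact mul_mem (le_sup_left (a := K) (hK.conj_mem k hk h)) (le_sup_right (a := K) (hAn h hh a ha))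
  · refine le_antisymm ?_ (le_inf le_sup_right hAH)
    rintro x ⟨hx, hxH⟩
    obtain ⟨k, hk, a, ha, rfl⟩ := Subgroup.mem_sup_of_normal_left.1 hx
    have hk1 : k = 1 := hdisj k hk (by simpa using mul_mem hxH (H.inv_mem (hAH ha)))
    rwa [hk1, one_mul]
  · intro a ha ha1
    by_contra hno
    push Not at hno
    apply ha1
    rw [← Subgroup.mem_bot, ← hfaith]
    refine ⟨hAH ha, Subgroup.mem_centralizer_iff.2 fun k hk => ?_⟩
    have h1 : k⁻¹ * a * k * a⁻¹ ∈ K := by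
      have : k⁻¹ * (a * k * a⁻¹) ∈ K := mul_mem (inv_mem hk) (hK.conj_mem k hk a)
      simpa [mul_assoc] using this
    have h2 := hdisj _ h1 (mul_mem (hAH (hno k hk)) (H.inv_mem (hAH ha)))
    rw [mul_inv_eq_one] at h2
    rw [mul_assoc, inv_mul_eq_iff_eq_mul] at h2
    exact h2.symm

end Cfsg.Agent.H35.Berger
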