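import Cfsg.Agent.H35.DegreeIndex
import Mathlib.RepresentationTheory.Character
import Mathlib.LinearAlgebra.Dimension.Constructions

/-!
# The multiplicity space of an invariant character below a subgroup
-/

set_option autoImplicit false

open scoped TensorProduct

namespace Cfsg.Agent.H35.Berger

open CharBasic Extend DegreeIndex

universe u

/-- A bijective evaluation splits a character. -/
theorem character_tensor_of_bijective {Γ V U W : Type*} [Monoid Γ] [AddCommGroup V] [Module ℂ V]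
    [FiniteDimensional ℂ V] [AddCommGroup U] [Module ℂ U] [FiniteDimensional ℂ U]
    [AddCommGroup W] [Module ℂ W] [FiniteDimensional ℂ W]
    (α : Representation ℂ Γ V) (β : Representation ℂ Γ U) (γ : Representation ℂ Γ W)
    (E : V ⊗[ℂ] U →ₗ[ℂ] W) (hE : Function.Bijective E)
    (h : ∀ z, E ∘ₗ TensorProduct.map (α z) (β z) = γ z ∘ₗ E) (z : Γ) :
    γ.character z = α.character z * β.character z := by
  let φ : (Representation.tprod α β).Equiv γ :=
    Representation.Equiv.mk (LinearEquiv.ofBijective E hE) fun z => h z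
  have h1 := congrFun (Representation.char_iso φ) z
  rw [Representation.char_tensor] at h1
  exact h1.symm

variable {G : Type u} [Group G] (L H : Subgroup G) [L.Normal] (hLH : L ≤ H) {d m : ℕ}
  (ρ : Representation ℂ L (Fin d → ℂ)) (σ : Representation ℂ H (Fin m → ℂ))

/-- The projection of the normalised group of intertwiners. -/
noncomputable def piY : detOneGroup ρ →* G := (proj L ρ).comp (detOneGroup ρ).subtype

/-- The intertwiner component on the normalised group. -/
noncomputable def opY : Representation ℂ (detOneGroup ρ) (Fin d → ℂ) :=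
  (op L ρ).comp (detOneGroup ρ).subtype

/-- Its restriction over a subgroup. -/
noncomputable def opH : Representation ℂ (H.comap (piY L ρ)) (Fin d → ℂ) :=
  (opY L ρ).comp (H.comap (piY L ρ)).subtype

/-- The projection over a subgroup. -/
noncomputable def piH : H.comap (piY L ρ) →* H where
  toFun z := ⟨piY L ρ z, z.2⟩
  map_one' := Subtype.ext (by simp)
  map_mul' a b := Subtype.ext (by simp)

/-- The multiplicity space. -/
def multU : Submodule ℂ ((Fin d → ℂ) →ₗ[ℂ] (Fin m → ℂ)) where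
  carrier := {f | ∀ n : L, σ ⟨(n : G), hLH n.2⟩ ∘ₗ f = f ∘ₗ ρ n}
  add_mem' := fun {f g} hf hg n => by rw [LinearMap.comp_add, LinearMap.add_comp, hf n, hg n]
  zero_mem' := fun n => by simp
  smul_mem' := fun c f hf n => by rw [LinearMap.comp_smul, LinearMap.smul_comp, hf n]

theorem twistU_mem (z : H.comap (piY L ρ)) {f : (Fin d → ℂ) →ₗ[ℂ] (Fin m → ℂ)}
    (hf : f ∈ multU L H hLH ρ σ) :
    σ (piH L H ρ z) ∘ₗ f ∘ₗ opH L H ρ z⁻¹ ∈ multU L H hLH ρ σ := by
  intro n
  set x : twinGroup L ρ := ((z : detOneGroup ρ) : twinGroup L ρ) with hx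
  have hop : opH L H ρ z⁻¹ = op L ρ x⁻¹ := rfl
  set n' := nconj L (proj L ρ x)⁻¹ n with hn'
  have h1 : σ ⟨(n : G), hLH n.2⟩ * σ (piH L H ρ z) =
      σ (piH L H ρ z) * σ ⟨(n' : G), hLH n'.2⟩ := by
    rw [← map_mul, ← map_mul]
    refine congrArg σ (Subtype.ext ?_)
    show (n : G) * proj L ρ x = proj L ρ x * (n' : G)
    rw [hn', coe_nconj]
    group
  have h2 : op L ρ x⁻¹ * ρ n = ρ n' * op L ρ x⁻¹ := by
    rw [op_twist, map_inv]
  rw [hop]
  apply LinearMap.ext
  intro v
  have e1 := LinearMap.congr_fun h1 (f (op L ρ x⁻¹ v))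
  have e2 := LinearMap.congr_fun h2 v
  have e3 := LinearMap.congr_fun (hf n') (op L ρ x⁻¹ v)
  simp only [Module.End.mul_apply, LinearMap.comp_apply] at e1 e2 e3 ⊢
  rw [e1, e3, e2]

/-- The action on the multiplicity space. -/
noncomputable def tauU : Representation ℂ (H.comap (piY L ρ)) (multU L H hLH ρ σ) where
  toFun z :=
    { toFun := fun f => ⟨σ (piH L H ρ z) ∘ₗ f.1 ∘ₗ opH L H ρ z⁻¹, twistU_mem L H hLH ρ σ z f.2⟩
      map_add' := fun f g => Subtype.ext (by
        simp [LinearMap.add_comp, LinearMap.comp_add])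
      map_smul' := fun c f => Subtype.ext (by
        simp [LinearMap.smul_comp, LinearMap.comp_smul]) }
  map_one' := by
    apply LinearMap.ext
    intro f
    apply Subtype.ext
    show σ (piH L H ρ 1) ∘ₗ f.1 ∘ₗ opH L H ρ (1 : H.comap (piY L ρ))⁻¹ = f.1
    rw [inv_one, map_one, map_one, map_one]
    rfl
  map_mul' := by
    intro x y
    apply LinearMap.ext
    intro f
    apply Subtype.ext
    show σ (piH L H ρ (x * y)) ∘ₗ f.1 ∘ₗ opH L H ρ (x * y)⁻¹ =
      σ (piH L H ρ x) ∘ₗ (σ (piH L H ρ y) ∘ₗ f.1 ∘ₗ opH L H ρ y⁻¹) ∘ₗ opH L H ρ x⁻¹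
    rw [map_mul (piH L H ρ), map_mul σ, mul_inv_rev, map_mul (opH L H ρ)]
    rfl

theorem tauU_apply (z : H.comap (piY L ρ)) (f : multU L H hLH ρ σ) :
    (tauU L H hLH ρ σ z f).1 = σ (piH L H ρ z) ∘ₗ f.1 ∘ₗ opH L H ρ z⁻¹ := rfl

/-- Over `L` the action is by scalars. -/
theorem exists_scalar_tauU [ρ.IsIrreducible] (z : H.comap (piY L ρ))
    (hz : piY L ρ (z : detOneGroup ρ) ∈ L) :
    ∃ c : ℂˣ, opH L H ρ z = (c : ℂ) • ρ ⟨_, hz⟩ ∧
      ∀ f, tauU L H hLH ρ σ z f = ((c⁻¹ : ℂˣ) : ℂ) • f := by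
  set x : twinGroup L ρ := ((z : detOneGroup ρ) : twinGroup L ρ) with hx
  obtain ⟨c, hc⟩ := exists_scalar_of_proj_eq_one L ρ
    (x := x * (baseHom L ρ ⟨_, hz⟩)⁻¹) (by simp [piY, hx])
  rw [mul_inv_eq_iff_eq_mul] at hc
  refine ⟨c, ?_, fun f => ?_⟩
  · show op L ρ x = _
    rw [hc, map_mul, op_scalarHom, op_baseHom, Algebra.algebraMap_eq_smul_one, smul_mul_assoc,
      one_mul]
  · apply Subtype.ext
    rw [tauU_apply]
    show σ (piH L H ρ z) ∘ₗ f.1 ∘ₗ op L ρ x⁻¹ = ((c⁻¹ : ℂˣ) : ℂ) • f.1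
    rw [hc, mul_inv_rev, map_mul, ← map_inv (scalarHom L ρ), op_scalarHom, ← map_inv (baseHom L ρ),
      op_baseHom,
      Algebra.algebraMap_eq_smul_one, mul_smul_comm, mul_one, LinearMap.comp_smul,
      LinearMap.comp_smul, ← LinearMap.comp_assoc,
      show piH L H ρ z = ⟨((⟨_, hz⟩ : L) : G), hLH hz⟩ from rfl, f.2 ⟨_, hz⟩,
      LinearMap.comp_assoc, ← Module.End.mul_eq_comp, ← map_mul, mul_inv_cancel, map_one]
    rfl

theorem multU_finrank [Finite G] [ρ.IsIrreducible] (a : ℕ)
    (hres : ∀ n : L, σ.character ⟨(n : G), hLH n.2⟩ = (a : ℂ) * ρ.character n) :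
    Module.finrank ℂ (multU L H hLH ρ σ) = a := by
  classical
  haveI : Fintype L := Fintype.ofFinite L
  let τ : Representation ℂ L (Fin m → ℂ) := σ.comp (Subgroup.inclusion hLH)
  have hτ : τ.character = (a : ℂ) • ρ.character := funext hres
  have h1 := classInner_character ρ τ
  rw [hτ, classInner_smul_left, classInner_irr_self (isIrrCharacter_character ρ), mul_one,
    Nat.cast_inj] at h1
  rw [h1]
  exact LinearEquiv.finrank_eq
    { toFun := fun f => (⟨f.1, fun n => (f.2 n).symm⟩ : Representation.IntertwiningMap ρ τ)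
      map_add' := fun _ _ => rfl
      map_smul' := fun _ _ => rfl
      invFun := fun f => ⟨f.toLinearMap, fun n => (f.isIntertwining' n).symm⟩
      left_inv := fun _ => rfl
      right_inv := fun _ => rfl }

/-- Evaluation. -/
noncomputable def evalU : (Fin d → ℂ) ⊗[ℂ] multU L H hLH ρ σ →ₗ[ℂ] (Fin m → ℂ) :=
  TensorProduct.lift (LinearMap.flip (multU L H hLH ρ σ).subtype)

theorem evalU_tmul (v : Fin d → ℂ) (f : multU L H hLH ρ σ) :
    evalU L H hLH ρ σ (v ⊗ₜ f) = f.1 v := rfl

theorem evalU_intertwines (z : H.comap (piY L ρ)) :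
    evalU L H hLH ρ σ ∘ₗ TensorProduct.map (opH L H ρ z) (tauU L H hLH ρ σ z) =
      σ (piH L H ρ z) ∘ₗ evalU L H hLH ρ σ := by
  refine TensorProduct.ext' fun v f => ?_
  rw [LinearMap.comp_apply, TensorProduct.map_tmul, evalU_tmul, tauU_apply, LinearMap.comp_apply,
    LinearMap.comp_apply, LinearMap.comp_apply, evalU_tmul, ← Module.End.mul_apply (opH L H ρ z⁻¹),
    ← map_mul, inv_mul_cancel, map_one, Module.End.one_apply]

theorem piY_surjective [Finite G] [ρ.IsIrreducible]
    (hinv : ∀ (g : G) (n : L), ρ.character (nconj L g n) = ρ.character n) :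
    Function.Surjective (piY L ρ) := by
  intro g
  obtain ⟨x, hx⟩ := proj_surjective L ρ hinv g
  obtain ⟨c, hc⟩ := exists_scalar_mul_mem ρ x
  exact ⟨⟨_, hc⟩, by simp [piY, hx]⟩

/-- The character of `H` splits over the intertwiners. -/
theorem character_split [Finite G] [ρ.IsIrreducible] [σ.IsIrreducible]
    (hinv : ∀ (g : G) (n : L), ρ.character (nconj L g n) = ρ.character n) (a : ℕ)
    (hres : ∀ n : L, σ.character ⟨(n : G), hLH n.2⟩ = (a : ℂ) * ρ.character n) (ha : 0 < a)
    (z : H.comap (piY L ρ)) :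
    σ.character (piH L H ρ z) =
      (opH L H ρ).character z *
        Representation.character (V := multU L H hLH ρ σ) (tauU L H hLH ρ σ) z := by
  classical
  have hU := multU_finrank L H hLH ρ σ a hres
  haveI : Module.Free ℂ (multU L H hLH ρ σ) := Module.Free.of_divisionRing ℂ (multU L H hLH ρ σ)
  haveI : Module.Finite ℂ (multU L H hLH ρ σ) := Module.finite_of_finrank_pos (by omega)
  have hd : 0 < d := by simpa using finrank_pos_of_isIrreducible ρ
  have hm : m = a * d := by
    have h := hres 1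
    rw [show (⟨((1 : L) : G), hLH (1 : L).2⟩ : H) = 1 from rfl, Representation.char_one,
      Representation.char_one, Module.finrank_fin_fun, Module.finrank_fin_fun] at h
    exact_mod_cast h
  set E := evalU L H hLH ρ σ with hE
  let S : Subrepresentation σ := ⟨LinearMap.range E, fun h w hw => by
    obtain ⟨x, rfl⟩ := hw
    obtain ⟨y, hy⟩ := piY_surjective L ρ hinv (h : G)
    let z : H.comap (piY L ρ) := ⟨y, show piY L ρ y ∈ H from hy ▸ h.2⟩
    have hz : piH L H ρ z = h := Subtype.ext hy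
    exact ⟨_, (LinearMap.congr_fun (evalU_intertwines L H hLH ρ σ z) x).trans (by rw [hz]; rfl)⟩⟩
  have hsurj : Function.Surjective E := by
    rcases ‹σ.IsIrreducible›.eq_bot_or_eq_top S with h | h
    · exfalso
      haveI : Nontrivial (multU L H hLH ρ σ) :=
        Module.nontrivial_of_finrank_pos (R := ℂ) (by omega)
      obtain ⟨f, hf⟩ := exists_ne (0 : multU L H hLH ρ σ)
      apply hf
      apply Subtype.ext
      apply LinearMap.ext
      intro v
      have h1 : E (v ⊗ₜ f) ∈ S.toSubmodule := ⟨_, rfl⟩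
      rw [show S.toSubmodule = ⊥ from congrArg Subrepresentation.toSubmodule h,
        Submodule.mem_bot] at h1
      exact h1
    · exact LinearMap.range_eq_top.1 (congrArg Subrepresentation.toSubmodule h)
  have hdim : Module.finrank ℂ ((Fin d → ℂ) ⊗[ℂ] multU L H hLH ρ σ) =
      Module.finrank ℂ (Fin m → ℂ) := by
    rw [Module.finrank_tensorProduct, Module.finrank_fin_fun, Module.finrank_fin_fun, hU, hm,
      mul_comm]
  exact character_tensor_of_bijective (U := multU L H hLH ρ σ) (opH L H ρ) (tauU L H hLH ρ σ) (σ.comp (piH L H ρ)) E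
    ⟨(LinearMap.injective_iff_surjective_of_finrank_eq_finrank hdim).2 hsurj, hsurj⟩
    (evalU_intertwines L H hLH ρ σ) z

end Cfsg.Agent.H35.Berger
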