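import Cfsg.Agent.CharInduce.Brauer
import Cfsg.Agent.CharInduce.CoprimeExt
import Cfsg.Agent.H35.MinMax
import Cfsg.Agent.BlockBasic.Local
import Mathlib.GroupTheory.FiniteAbelian.Duality

/-!
# Dade's lemma on invariant characters over a normal subgroup of prime power index
-/

set_option autoImplicit false

open scoped ComplexConjugate

namespace Cfsg.Agent.H35.Dade

open CharBasic CharInduce Extend

universe u

variable {G : Type u} [Group G] {N : Subgroup G} [hN : N.Normal] {E : Subgroup G}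

/-- Conjugation by an element of `E` on `E ⊓ N`. -/
def cj (E N : Subgroup G) [hN : N.Normal] (g : E) : ↥(E ⊓ N) ≃* ↥(E ⊓ N) where
  toFun k := ⟨g * k * (g : G)⁻¹, E.mul_mem (E.mul_mem g.2 k.2.1) (E.inv_mem g.2),
    hN.conj_mem (k : G) k.2.2 g⟩
  invFun k := ⟨(g : G)⁻¹ * k * g, E.mul_mem (E.mul_mem (E.inv_mem g.2) k.2.1) g.2, by
    simpa using hN.conj_mem (k : G) k.2.2 ((g : G)⁻¹)⟩
  left_inv k := Subtype.ext (by simp [mul_assoc])
  right_inv k := Subtype.ext (by simp [mul_assoc])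
  map_mul' a b := Subtype.ext (by simp only [Subgroup.coe_mul]; group)

@[simp] theorem coe_cj (g : E) (k : ↥(E ⊓ N)) : (cj E N g k : G) = g * k * (g : G)⁻¹ := rfl

/-- Restriction to `E ⊓ N`. -/
def resInf (E N : Subgroup G) (ϑ : N → ℂ) : ↥(E ⊓ N) → ℂ := fun x => ϑ ⟨(x : G), x.2.2⟩

theorem resInf_cj {ϑ : N → ℂ}
    (hinv : ∀ (g : G) (n : N), ϑ ⟨g * n * g⁻¹, hN.conj_mem (n : G) n.2 g⟩ = ϑ n)
    (g : E) (k : ↥(E ⊓ N)) : resInf E N ϑ (cj E N g k) = resInf E N ϑ k :=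
  hinv g ⟨(k : G), k.2.2⟩

theorem isCharacter_resInf {ϑ : N → ℂ} (h : Cfsg.IsCharacter N ϑ) :
    Cfsg.IsCharacter ↥(E ⊓ N) (resInf E N ϑ) :=
  IsChar.comp h (Subgroup.inclusion (inf_le_right : E ⊓ N ≤ N))

/-- If all invariant constituents have multiplicity divisible by `p`, so is the weighted norm. -/
theorem dvd_norm_of_no_invariant [Finite G] {p : ℕ} [Fact p.Prime]
    (hE : Cfsg.IsElementary p E) {ϑ : N → ℂ} (hϑ : Cfsg.IsCharacter N ϑ)
    (hinv : ∀ (g : G) (n : N), ϑ ⟨g * n * g⁻¹, hN.conj_mem (n : G) n.2 g⟩ = ϑ n)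
    {ψ : E → ℂ} (hψ : Cfsg.IsCharacter E ψ) [Fintype ↥(E ⊓ N)]
    (hbad : ∀ φ : Cfsg.IrrCharacter ↥(E ⊓ N),
      (∀ (g : E) (k : ↥(E ⊓ N)), (φ : ↥(E ⊓ N) → ℂ) (cj E N g k) = (φ : ↥(E ⊓ N) → ℂ) k) →
      ∀ m : ℕ, Cfsg.classInner (resInf E N ϑ) (φ : ↥(E ⊓ N) → ℂ) = (m : ℂ) → p ∣ m) :
    ∃ a : ℕ, p ∣ a ∧ Cfsg.classInner
      (resInf E N ϑ * fun k : ↥(E ⊓ N) => ψ ⟨(k : G), k.2.1⟩) (resInf E N ϑ) = (a : ℂ) := by
  classical
  set θ := resInf E N ϑ with hθdef
  set η : ↥(E ⊓ N) → ℂ := fun k => ψ ⟨(k : G), k.2.1⟩ with hη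
  have hθ : Cfsg.IsCharacter ↥(E ⊓ N) θ := isCharacter_resInf hϑ
  have hηc : Cfsg.IsCharacter ↥(E ⊓ N) η :=
    IsChar.comp hψ (Subgroup.inclusion (inf_le_left : E ⊓ N ≤ E))
  obtain ⟨a, ha⟩ := classInner_isChar_nat (IsChar.mul hθ hηc) hθ
  refine ⟨a, ?_, ha⟩
  choose α hα using fun φ : Cfsg.IrrCharacter ↥(E ⊓ N) =>
    classInner_isChar_nat hθ (CharBasic.IsIrr.isCharacter φ.2)
  choose β hβ using fun φ : Cfsg.IrrCharacter ↥(E ⊓ N) =>
    classInner_isChar_nat (IsChar.mul (CharBasic.IsIrr.isCharacter φ.2) hηc) hθ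
  have hexp : θ * η = ∑ φ : Cfsg.IrrCharacter ↥(E ⊓ N),
      Cfsg.classInner θ (φ : ↥(E ⊓ N) → ℂ) • ((φ : ↥(E ⊓ N) → ℂ) * η) := by
    conv_lhs => rw [classFunction_expansion (CharBasic.IsChar.isClassFunction hθ)]
    rw [Finset.sum_mul]
    exact Finset.sum_congr rfl fun φ _ => smul_mul_assoc _ _ _
  have hsum : (a : ℂ) = ∑ φ : Cfsg.IrrCharacter ↥(E ⊓ N), ((α φ * β φ : ℕ) : ℂ) := by
    rw [← ha, hexp, classInner_sum_left]
    exact Finset.sum_congr rfl fun φ _ => by rw [classInner_smul_left, hα, hβ, Nat.cast_mul]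
  obtain ⟨M, hM⟩ := BlockBasic.exists_isPModular (Fact.out : p.Prime)
  obtain ⟨Q⟩ : Nonempty (Sylow p E) := inferInstance
  let act : E → Cfsg.IrrCharacter ↥(E ⊓ N) → Cfsg.IrrCharacter ↥(E ⊓ N) := fun g φ =>
    ⟨fun k => (φ : ↥(E ⊓ N) → ℂ) (cj E N g⁻¹ k),
      IsIrr.comp φ.2 (cj E N g⁻¹).toMonoidHom (cj E N g⁻¹).surjective⟩
  let _ : MulAction E (Cfsg.IrrCharacter ↥(E ⊓ N)) :=
    { smul := act
      one_smul := fun φ => Subtype.ext (funext fun k => congrArg (φ : ↥(E ⊓ N) → ℂ)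
        (Subtype.ext (by simp)))
      mul_smul := fun g h φ => Subtype.ext (funext fun k => congrArg (φ : ↥(E ⊓ N) → ℂ)
        (Subtype.ext (by simp [mul_assoc]))) }
  have hαinv : ∀ (g : E) φ, α (g • φ) = α φ := by
    intro g φ
    apply Nat.cast_injective (R := ℂ)
    rw [← hα, ← hα, ← classInner_comp_mulEquiv (cj E N g⁻¹) θ (φ : ↥(E ⊓ N) → ℂ)]
    congr 1
    funext k
    exact (resInf_cj hinv _ _).symm
  have hβinv : ∀ (g : E) φ, β (g • φ) = β φ := by
    intro g φ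
    apply Nat.cast_injective (R := ℂ)
    rw [← hβ, ← hβ, ← classInner_comp_mulEquiv (cj E N g⁻¹) ((φ : ↥(E ⊓ N) → ℂ) * η) θ]
    congr 1
    · funext k
      show _ * _ = (φ : ↥(E ⊓ N) → ℂ) (cj E N g⁻¹ k) * η (cj E N g⁻¹ k)
      congr 1
      show ψ ⟨(k : G), k.2.1⟩ = ψ ⟨_, _⟩
      rw [← CharBasic.IsChar.isClassFunction hψ ⟨(k : G), k.2.1⟩ g⁻¹]
      rfl
    · funext k
      exact (resInf_cj hinv _ _).symm
  have hfix := sum_sub_fixed_mem (p := p) hM (Q := (Q : Subgroup E))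
    (X := Cfsg.IrrCharacter ↥(E ⊓ N)) Q.2
    (fun φ => ((α φ * β φ : ℕ) : ℂ)) (fun φ => BlockBasic.memLocalRing_natCast hM _)
    (fun q φ => by
      show ((α ((q : E) • φ) * β ((q : E) • φ) : ℕ) : ℂ) = _
      rw [hαinv, hβinv])
  rw [← hsum, ← Nat.cast_sum] at hfix
  have hzero : p ∣ ∑ φ ∈ Finset.univ.filter
      (fun φ => φ ∈ MulAction.fixedPoints (Q : Subgroup E) (Cfsg.IrrCharacter ↥(E ⊓ N))),
      α φ * β φ := by
    refine Finset.dvd_sum fun φ hφ => Dvd.dvd.mul_right (hbad φ (fun g k => ?_) _ (hα φ)) _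
    have hstab : MulAction.stabilizer E φ = ⊤ := by
      obtain ⟨x, hx, -, j, hj⟩ := hE
      have h1 : (Q : Subgroup E) ≤ MulAction.stabilizer E φ := fun q hq =>
        (Finset.mem_filter.1 hφ).2 ⟨q, hq⟩
      have h2 : Subgroup.zpowers x ≤ MulAction.stabilizer E φ := by
        rw [Subgroup.zpowers_le, MulAction.mem_stabilizer_iff]
        refine Subtype.ext (funext fun k => congrArg (φ : ↥(E ⊓ N) → ℂ) (Subtype.ext ?_))
        have := Subgroup.mem_center_iff.1 hx ⟨(k : G), k.2.1⟩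
        have h' : (k : G) * (x : G) = (x : G) * (k : G) := congrArg Subtype.val this
        simp [mul_assoc, h']
      have h3 := Subgroup.index_dvd_of_le h1
      have h4 : (MulAction.stabilizer E φ).index ∣ p ^ j := hj ▸ Subgroup.index_dvd_of_le h2
      rw [← Subgroup.index_eq_one]
      exact Nat.eq_one_of_dvd_coprimes
        (((Nat.Prime.coprime_iff_not_dvd Fact.out).2 Q.not_dvd_index).pow_left j) h4 h3
    have hg : (g⁻¹ : E) ∈ MulAction.stabilizer E φ := hstab.symm ▸ Subgroup.mem_top _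
    have h := congrFun (congrArg Subtype.val (MulAction.mem_stabilizer_iff.1 hg)) k
    exact (congrArg (φ : ↥(E ⊓ N) → ℂ) (Subtype.ext (by simp))).trans h
  have := BlockBasic.memLocalIdeal_add hM hfix
    ((BlockBasic.memLocalIdeal_natCast_iff hM _).2 hzero)
  rw [sub_add_cancel] at this
  exact (BlockBasic.memLocalIdeal_natCast_iff hM a).1 this

theorem card_mul_card_inf [Finite G] (E N : Subgroup G) [N.Normal] :
    Nat.card G * Nat.card ↥(E ⊓ N) = Nat.card N * Nat.card E * (E ⊔ N).index := by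
  have h1 := Subgroup.relIndex_mul_index (le_sup_right : N ≤ E ⊔ N)
  rw [Subgroup.relIndex_sup_right] at h1
  have h2 := Subgroup.relIndex_mul_index (inf_le_left : E ⊓ N ≤ E)
  rw [Subgroup.inf_relIndex_left] at h2
  apply Nat.eq_of_mul_eq_mul_right
    (Nat.pos_of_ne_zero (Subgroup.index_ne_zero_of_finite (H := E ⊓ N)))
  rw [mul_assoc, Subgroup.card_mul_index, ← h2]
  calc Nat.card G * Nat.card G = (Nat.card N * N.index) * (Nat.card E * E.index) := by
        rw [Subgroup.card_mul_index, Subgroup.card_mul_index]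
    _ = (Nat.card N * (N.relIndex E * (E ⊔ N).index)) * (Nat.card E * E.index) := by rw [h1]
    _ = _ := by ring

/-- The norm of `ϑ` weighted by an induced character. -/
theorem sum_mul_indFun [Fintype G] [Fintype N] [Fintype ↥(E ⊓ N)] (F : N → ℂ)
    (hF : ∀ (g : G) (n : N), F ⟨g * n * g⁻¹, hN.conj_mem (n : G) n.2 g⟩ = F n) (ψ : E → ℂ) :
    (Nat.card N : ℂ)⁻¹ * ∑ n : N, F n * Cfsg.indFun E ψ n =
      ((E ⊔ N).index : ℂ) *
        ((Nat.card ↥(E ⊓ N) : ℂ)⁻¹ * ∑ k : ↥(E ⊓ N), F ⟨(k : G), k.2.2⟩ * ψ ⟨(k : G), k.2.1⟩) := by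
  classical
  set F' := Cfsg.extendByZero N F with hF'
  have hconj : ∀ x g : G, F' (x⁻¹ * g * x) = F' g := by
    intro x g
    by_cases hg : g ∈ N
    · have hg' : x⁻¹ * g * x ∈ N := by simpa using hN.conj_mem g hg x⁻¹
      rw [hF', extendByZero_of_mem _ hg, extendByZero_of_mem _ hg', ← hF x⁻¹ ⟨g, hg⟩]
      exact congrArg F (Subtype.ext (by simp))
    · rw [hF', extendByZero_of_not_mem _ hg, extendByZero_of_not_mem _ fun h => hg (by
        simpa [mul_assoc] using hN.conj_mem _ h x)]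
  have h1 : ∑ n : N, F n * Cfsg.indFun E ψ n = ∑ g : G, F' g * Cfsg.indFun E ψ g :=
    (sum_extendByZero_mul F _).symm
  have h2 : (Nat.card E : ℂ) * ∑ g : G, F' g * Cfsg.indFun E ψ g =
      (Nat.card G : ℂ) * ∑ k : ↥(E ⊓ N), F ⟨(k : G), k.2.2⟩ * ψ ⟨(k : G), k.2.1⟩ := by
    calc (Nat.card E : ℂ) * ∑ g : G, F' g * Cfsg.indFun E ψ g
        = ∑ g : G, ∑ x : G, F' g * Cfsg.extendByZero E ψ (x⁻¹ * g * x) := by
          rw [Finset.mul_sum]
          refine Finset.sum_congr rfl fun g _ => ?_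
          rw [← Finset.mul_sum, ← card_mul_indFun]
          ring
      _ = ∑ x : G, ∑ g : G, F' (x⁻¹ * g * x) * Cfsg.extendByZero E ψ (x⁻¹ * g * x) := by
          rw [Finset.sum_comm]
          simp only [hconj]
      _ = ∑ x : G, ∑ g : G, F' g * Cfsg.extendByZero E ψ g :=
          Finset.sum_congr rfl fun x _ =>
            sum_conj (fun g => F' g * Cfsg.extendByZero E ψ g) x
      _ = (Nat.card G : ℂ) * ∑ g : G, F' g * Cfsg.extendByZero E ψ g := by
          rw [Finset.sum_const, Finset.card_univ, nsmul_eq_mul, Nat.card_eq_fintype_card]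
      _ = _ := by
          congr 1
          rw [← sum_extendByZero]
          refine Finset.sum_congr rfl fun g _ => ?_
          by_cases hE : g ∈ E
          · by_cases hN' : g ∈ N
            · rw [hF', extendByZero_of_mem _ hN', extendByZero_of_mem _ hE,
                extendByZero_of_mem _ (show g ∈ E ⊓ N from ⟨hE, hN'⟩)]
            · rw [hF', extendByZero_of_not_mem _ hN', zero_mul,
                extendByZero_of_not_mem _ fun h : g ∈ E ⊓ N => hN' h.2]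
          · rw [extendByZero_of_not_mem _ hE, mul_zero,
              extendByZero_of_not_mem _ fun h : g ∈ E ⊓ N => hE h.1]
  have hcard : (Nat.card G : ℂ) * Nat.card ↥(E ⊓ N) =
      Nat.card N * Nat.card E * (E ⊔ N).index := by exact_mod_cast card_mul_card_inf E N
  have := card_ne_zero_complex N
  have := card_ne_zero_complex E
  have := card_ne_zero_complex ↥(E ⊓ N)
  rw [h1]
  field_simp
  apply mul_left_cancel₀ (card_ne_zero_complex E)
  linear_combination (Nat.card ↥(E ⊓ N) : ℂ) * h2 +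
    (∑ k : ↥(E ⊓ N), F ⟨(k : G), k.2.2⟩ * ψ ⟨(k : G), k.2.1⟩) * hcard

/-- S0896. -/
theorem exists_elementary [Fintype G] {p : ℕ} [Fact p.Prime] (hind : ∃ k : ℕ, N.index = p ^ k)
    {ϑ : N → ℂ} (hϑ : Cfsg.IsIrrCharacter N ϑ)
    (hinv : ∀ (g : G) (n : N), ϑ ⟨g * n * g⁻¹, hN.conj_mem (n : G) n.2 g⟩ = ϑ n) :
    ∃ (E : Subgroup G) (φ : ↥(E ⊓ N) → ℂ), Cfsg.IsElementary p E ∧ E ⊔ N = ⊤ ∧
      Cfsg.IsIrrCharacter ↥(E ⊓ N) φ ∧
      (∀ (g : E) (k : ↥(E ⊓ N)), φ (cj E N g k) = φ k) ∧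
      ∃ m : ℕ, ¬ p ∣ m ∧ ∀ [Fintype ↥(E ⊓ N)],
        Cfsg.classInner (resInf E N ϑ) φ = (m : ℂ) := by
  classical
  haveI := Fintype.ofFinite N
  by_contra hno
  set F : N → ℂ := fun n => ϑ n * conj (ϑ n) with hF
  set L : (G → ℂ) → ℂ := fun f => (Nat.card N : ℂ)⁻¹ * ∑ n : N, F n * f n with hL
  have key : ∀ f ∈ indSpan (fun E : Subgroup G => Cfsg.IsElementary p E),
      ∃ z : ℤ, L f = (p : ℂ) * z := by
    intro f hf
    induction hf using AddSubgroup.closure_induction with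
    | mem x hx =>
      obtain ⟨⟨E, ψ⟩, ⟨hE, hψ⟩, rfl⟩ := hx
      haveI := Fintype.ofFinite ↥(E ⊓ N)
      have h := sum_mul_indFun (E := E) F (fun g n => by simp only [hF, hinv g n]) ψ
      show ∃ z : ℤ, (Nat.card N : ℂ)⁻¹ * ∑ n : N, F n * Cfsg.indFun E ψ n = _
      rw [h]
      have hW : (Nat.card ↥(E ⊓ N) : ℂ)⁻¹ *
          ∑ k : ↥(E ⊓ N), F ⟨(k : G), k.2.2⟩ * ψ ⟨(k : G), k.2.1⟩ = Cfsg.classInner
            (resInf E N ϑ * fun k : ↥(E ⊓ N) => ψ ⟨(k : G), k.2.1⟩) (resInf E N ϑ) := by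
        rw [classInner_def]
        congr 1
        exact Finset.sum_congr rfl fun k _ => by simp only [hF, Pi.mul_apply, resInf]; ring
      rw [hW]
      by_cases htop : E ⊔ N = ⊤
      · obtain ⟨a, ⟨b, rfl⟩, ha⟩ := dvd_norm_of_no_invariant hE (CharBasic.IsIrr.isCharacter hϑ) hinv
          hψ fun φ hφ m hm => by_contra fun hpm =>
            hno ⟨E, φ, hE, htop, φ.2, hφ, m, hpm, fun {inst} => by
              rw [← hm]; congr 1; exact Subsingleton.elim _ _⟩
        refine ⟨b, ?_⟩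
        rw [ha, htop, Subgroup.index_top]
        push_cast
        ring
      · obtain ⟨a, ha⟩ := classInner_isChar_nat
          (IsChar.mul (isCharacter_resInf (CharBasic.IsIrr.isCharacter hϑ))
            (IsChar.comp hψ (Subgroup.inclusion (inf_le_left : E ⊓ N ≤ E))))
          (isCharacter_resInf (E := E) (CharBasic.IsIrr.isCharacter hϑ))
        obtain ⟨k, hk⟩ := hind
        obtain ⟨j, -, hj⟩ := (Nat.dvd_prime_pow Fact.out).1
          (hk ▸ Subgroup.index_dvd_of_le (le_sup_right : N ≤ E ⊔ N))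
        rcases j with _ | j
        · exact absurd (Subgroup.index_eq_one.1 (by rw [hj, pow_zero])) htop
        refine ⟨(p : ℤ) ^ j * a, ?_⟩
        rw [hj]
        erw [ha]
        push_cast
        ring
    | zero => exact ⟨0, by simp [hL]⟩
    | add x y _ _ hx hy =>
      obtain ⟨a, ha⟩ := hx
      obtain ⟨b, hb⟩ := hy
      refine ⟨a + b, ?_⟩
      have : L (x + y) = L x + L y := by
        simp only [hL, Pi.add_apply, mul_add, Finset.sum_add_distrib]
      rw [this, ha, hb]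
      push_cast
      ring
    | neg x _ hx =>
      obtain ⟨a, ha⟩ := hx
      refine ⟨-a, ?_⟩
      have : L (-x) = - L x := by simp only [hL, Pi.neg_apply, mul_neg, Finset.sum_neg_distrib]
      rw [this, ha]
      push_cast
      ring
  obtain ⟨m, hm, hmem⟩ := brauer_local (G := G) p
  obtain ⟨z, hz⟩ := key _ hmem
  have h1 : L (fun _ => (m : ℂ)) = m := by
    have h := classInner_irr_self hϑ
    rw [classInner_def] at h
    simp only [hL, hF, ← Finset.sum_mul, ← mul_assoc]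
    rw [h, one_mul]
  rw [h1] at hz
  exact hm ⟨z, by exact_mod_cast hz⟩

end Cfsg.Agent.H35.Dade
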