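import Cfsg.Agent.H35.Dade
import Cfsg.Agent.CharInduce.CoprimeExt
import Mathlib.GroupTheory.FiniteAbelian.Duality
import Mathlib.RingTheory.RootsOfUnity.AlgebraicallyClosed
import Mathlib.GroupTheory.NoncommCoprod

/-!
# Extending invariant characters when Sylow linear characters extend
-/

set_option autoImplicit false

open scoped ComplexConjugate

namespace Cfsg.Agent.H35.Dade

open CharBasic CharInduce Extend

universe u

variable {G : Type u} [Group G] [Finite G] {N : Subgroup G} [hN : N.Normal] {E : Subgroup G}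

/-- An element of order prime to `p` lies in a normal subgroup of `p`-power index. -/
theorem mem_of_coprime {p : ℕ} (hind : ∃ k : ℕ, N.index = p ^ k) {g : G}
    (hg : (orderOf g).Coprime p) : g ∈ N := by
  obtain ⟨k, hk⟩ := hind
  rw [← QuotientGroup.eq_one_iff, ← orderOf_eq_one_iff]
  refine Nat.eq_one_of_dvd_coprimes (hg.pow_right k) (orderOf_map_dvd (QuotientGroup.mk' N) g) ?_
  rw [← hk, Subgroup.index_eq_card]
  exact orderOf_dvd_natCard _

/-- A linear character of `E ⊓ N` extends to the elementary group `E`. -/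
theorem exists_linear_extension {p : ℕ} [Fact p.Prime] (hind : ∃ k : ℕ, N.index = p ^ k)
    (P : Sylow p G) (hcent : ∀ x ∈ (P : Subgroup G) ⊓ N, ∀ y ∈ (P : Subgroup G), x * y = y * x)
    (hlin : ∀ lam : ↥((P : Subgroup G) ⊓ N) → ℂ, Cfsg.IsCharacter ↥((P : Subgroup G) ⊓ N) lam →
      lam 1 = 1 → ∃ μ : ↥(P : Subgroup G) → ℂ, Cfsg.IsCharacter ↥(P : Subgroup G) μ ∧ μ 1 = 1 ∧
        ∀ x : ↥((P : Subgroup G) ⊓ N), μ ⟨(x : G), x.2.1⟩ = lam x)
    (hE : Cfsg.IsElementary p E) {φ : ↥(E ⊓ N) → ℂ}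
    (hφ : Cfsg.IsIrrCharacter ↥(E ⊓ N) φ) :
    ∃ μ : E →* ℂˣ, ∀ k : ↥(E ⊓ N), (μ ⟨(k : G), k.2.1⟩ : ℂ) = φ k := by
  classical
  obtain ⟨x, hx, hcop, j, hj⟩ := hE
  obtain ⟨Q⟩ : Nonempty (Sylow p E) := inferInstance
  set Q' : Subgroup G := (Q : Subgroup E).map E.subtype with hQ'
  obtain ⟨T, hT⟩ := (Q.2.map E.subtype : IsPGroup p Q').exists_le_sylow
  obtain ⟨g, hg⟩ := MulAction.exists_smul_eq G T P
  have hconjP : ∀ q ∈ (Q : Subgroup E), g * (q : G) * g⁻¹ ∈ (P : Subgroup G) := by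
    intro q hq
    rw [← hg, Sylow.coe_subgroup_smul]
    exact Subgroup.smul_mem_pointwise_smul (q : G) (MulAut.conj g) _
      (hT (Subgroup.mem_map_of_mem E.subtype hq))
  have hxcomm : ∀ c ∈ Subgroup.zpowers x, ∀ e : E, c * e = e * c := fun c hc e =>
    (Subgroup.mem_center_iff.1 ((Subgroup.zpowers_le.2 hx) hc) e).symm
  haveI hXn : (Subgroup.zpowers x).Normal := ⟨fun c hc e => by
    rw [← hxcomm c hc e, mul_inv_cancel_right]; exact hc⟩
  have hXN : ∀ c ∈ Subgroup.zpowers x, (c : G) ∈ N := by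
    intro c hc
    have hx' : (x : G) ∈ N := mem_of_coprime hind (by rwa [Subgroup.orderOf_coe])
    obtain ⟨i, rfl⟩ := Subgroup.mem_zpowers_iff.1 hc
    exact zpow_mem hx' i
  let f : Subgroup.zpowers x × (Q : Subgroup E) →* E :=
    (Subgroup.zpowers x).subtype.noncommCoprod (Q : Subgroup E).subtype
      (fun c q => hxcomm c c.2 q)
  have hdisj : Disjoint (Subgroup.zpowers x) (Q : Subgroup E) := by
    rw [Subgroup.disjoint_def]
    intro y hyX hyQ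
    obtain ⟨k, hk⟩ := IsPGroup.iff_orderOf.1 Q.2 ⟨y, hyQ⟩
    rw [← Subgroup.orderOf_coe] at hk
    rw [← orderOf_eq_one_iff]
    refine Nat.eq_one_of_dvd_coprimes (hcop.pow_right k) ?_ (hk ▸ dvd_rfl)
    obtain ⟨i, rfl⟩ := Subgroup.mem_zpowers_iff.1 hyX
    exact orderOf_dvd_of_pow_eq_one (by
      rw [← zpow_natCast, ← zpow_mul, mul_comm, zpow_mul, zpow_natCast, pow_orderOf_eq_one, one_zpow])
  have hfinj : Function.Injective f := by
    rw [← MonoidHom.ker_eq_bot_iff, Subgroup.eq_bot_iff_forall]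
    rintro ⟨⟨c, hc⟩, ⟨q, hq⟩⟩ hm
    have h : c * q = 1 := hm
    have hc1 : c ∈ (Q : Subgroup E) := by
      rw [eq_inv_of_mul_eq_one_left h]; exact Subgroup.inv_mem _ hq
    have hc0 : c = 1 := Subgroup.disjoint_def.1 hdisj hc hc1
    subst hc0
    rw [one_mul] at h
    subst h
    rfl
  have hfsurj : Function.Surjective f := by
    have htop : Subgroup.zpowers x ⊔ (Q : Subgroup E) = ⊤ := by
      rw [← Subgroup.index_eq_one]
      exact Nat.eq_one_of_dvd_coprimes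
        (((Nat.Prime.coprime_iff_not_dvd Fact.out).2 Q.not_dvd_index).pow_left j)
        (hj ▸ Subgroup.index_dvd_of_le le_sup_left) (Subgroup.index_dvd_of_le le_sup_right)
    intro e
    obtain ⟨c, hc, q, hq, rfl⟩ :=
      Subgroup.mem_sup_of_normal_left.1 (htop.symm ▸ Subgroup.mem_top e)
    exact ⟨(⟨c, hc⟩, ⟨q, hq⟩), rfl⟩
  have hcommQ : ∀ q₁ ∈ (Q : Subgroup E), ∀ q₂ ∈ (Q : Subgroup E), (q₁ : G) ∈ N →
      q₁ * q₂ = q₂ * q₁ := by
    intro q₁ h₁ q₂ h₂ hN₁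
    have h := hcent _ ⟨hconjP q₁ h₁, hN.conj_mem _ hN₁ g⟩ _ (hconjP q₂ h₂)
    apply Subtype.ext
    show (q₁ : G) * q₂ = (q₂ : G) * q₁
    apply mul_left_cancel (a := g)
    apply mul_right_cancel (b := g⁻¹)
    calc g * ((q₁ : G) * q₂) * g⁻¹ = g * q₁ * g⁻¹ * (g * q₂ * g⁻¹) := by group
      _ = g * q₂ * g⁻¹ * (g * q₁ * g⁻¹) := h
      _ = _ := by group
  have hab : ∀ a b : ↥(E ⊓ N), a * b = b * a := by
    intro a b
    obtain ⟨⟨⟨c, hc⟩, ⟨q, hq⟩⟩, ha⟩ := hfsurj ⟨(a : G), a.2.1⟩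
    obtain ⟨⟨⟨d, hd⟩, ⟨r, hr⟩⟩, hb⟩ := hfsurj ⟨(b : G), b.2.1⟩
    replace ha : c * q = ⟨(a : G), a.2.1⟩ := ha
    replace hb : d * r = ⟨(b : G), b.2.1⟩ := hb
    have hqN : (q : G) ∈ N := by
      have h1 : (q : G) = (c : G)⁻¹ * a := by
        rw [eq_inv_mul_iff_mul_eq]; exact congrArg Subtype.val ha
      rw [h1]
      exact N.mul_mem (N.inv_mem (hXN c hc)) a.2.2
    apply Subtype.ext
    show (a : G) * b = b * a
    have e : (c * q) * (d * r) = (d * r) * (c * q) := by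
      calc c * q * (d * r) = c * (q * d) * r := by group
        _ = c * (d * q) * r := by rw [hxcomm d hd q]
        _ = c * d * (q * r) := by group
        _ = d * c * (r * q) := by rw [hxcomm c hc d, hcommQ q hq r hr hqN]
        _ = d * (c * r) * q := by group
        _ = d * (r * c) * q := by rw [hxcomm c hc r]
        _ = _ := by group
    rw [ha, hb] at e
    exact congrArg Subtype.val e
  obtain ⟨l, hl⟩ := IsChar.exists_hom_of_degree_one (CharBasic.IsIrr.isCharacter hφ)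
    (IsIrr.degree_one_of_comm hab hφ)
  -- linear character of `P ⊓ N`
  letI : CommGroup ↥((P : Subgroup G) ⊓ N) :=
    { (inferInstance : Group ↥((P : Subgroup G) ⊓ N)) with
      mul_comm := fun a b => Subtype.ext (hcent a a.2 b b.2.1) }
  let B : Subgroup ↥((P : Subgroup G) ⊓ N) :=
    (Q'.map (MulAut.conj g).toMonoidHom).subgroupOf ((P : Subgroup G) ⊓ N)
  have hBmem : ∀ b : B, g⁻¹ * ((b : ↥((P : Subgroup G) ⊓ N)) : G) * g ∈ E ⊓ N := by
    intro b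
    obtain ⟨q, hq, he⟩ := Subgroup.mem_map.1 (Subgroup.mem_subgroupOf.1 b.2)
    obtain ⟨q', hq', rfl⟩ := Subgroup.mem_map.1 hq
    refine ⟨?_, by simpa using hN.conj_mem _ (b : ↥((P : Subgroup G) ⊓ N)).2.2 g⁻¹⟩
    rw [← he]
    show g⁻¹ * (g * (q' : G) * g⁻¹) * g ∈ E
    simp [mul_assoc]
  let toK : B →* ↥(E ⊓ N) :=
    MonoidHom.mk' (fun b => ⟨_, hBmem b⟩) fun a b => Subtype.ext (by
      show g⁻¹ * (((a * b : B) : ↥((P : Subgroup G) ⊓ N)) : G) * g = _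
      simp only [Subgroup.coe_mul]
      group)
  haveI : NeZero (Monoid.exponent ↥((P : Subgroup G) ⊓ N)) :=
    ⟨Monoid.exponent_ne_zero_of_finite⟩
  obtain ⟨lA, hlA⟩ := MonoidHom.domRestrict_surjective (M := ℂ) B (l.comp toK)
  obtain ⟨μP, hμP, hμP1, hμPres⟩ := hlin (fun a => (lA a : ℂ)) (isCharacter_hom lA) (by simp)
  obtain ⟨lP, hlP⟩ := IsChar.exists_hom_of_degree_one hμP hμP1
  let ν : (Q : Subgroup E) →* ℂˣ :=
    lP.comp (MonoidHom.mk' (fun q => ⟨g * ((q : E) : G) * g⁻¹, hconjP q q.2⟩) fun a b =>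
      Subtype.ext (by simp only [Subgroup.coe_mul]; group))
  let lX : Subgroup.zpowers x →* ℂˣ :=
    l.comp (MonoidHom.mk' (fun c => ⟨((c : E) : G), (c : E).2, hXN c c.2⟩) fun a b =>
      Subtype.ext (by simp only [Subgroup.coe_mul]))
  refine ⟨(lX.coprod ν).comp (MulEquiv.ofBijective f ⟨hfinj, hfsurj⟩).symm.toMonoidHom,
    fun k => ?_⟩
  obtain ⟨⟨⟨c, hc⟩, ⟨q, hq⟩⟩, hcq⟩ := hfsurj ⟨(k : G), k.2.1⟩
  rw [MonoidHom.comp_apply, show (MulEquiv.ofBijective f ⟨hfinj, hfsurj⟩).symm.toMonoidHom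
    ⟨(k : G), k.2.1⟩ = (⟨c, hc⟩, ⟨q, hq⟩) by
      rw [MulEquiv.coe_toMonoidHom, MulEquiv.symm_apply_eq]; exact hcq.symm]
  replace hcq : c * q = ⟨(k : G), k.2.1⟩ := hcq
  have hqN : (q : G) ∈ N := by
    have h1 : (q : G) = (c : G)⁻¹ * k := by
      rw [eq_inv_mul_iff_mul_eq]; exact congrArg Subtype.val hcq
    rw [h1]
    exact N.mul_mem (N.inv_mem (hXN c hc)) k.2.2
  let kq : ↥(E ⊓ N) := ⟨(q : G), q.2, hqN⟩
  let kc : ↥(E ⊓ N) := ⟨(c : G), c.2, hXN c hc⟩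
  have hk : k = kc * kq := Subtype.ext (congrArg Subtype.val hcq).symm
  let aq : ↥((P : Subgroup G) ⊓ N) := ⟨g * (q : G) * g⁻¹, hconjP q hq, hN.conj_mem _ hqN g⟩
  have haqB : aq ∈ B := Subgroup.mem_subgroupOf.2
    ⟨(q : G), Subgroup.mem_map_of_mem E.subtype hq, rfl⟩
  have h1 : lA aq = l kq := by
    have := DFunLike.congr_fun hlA ⟨aq, haqB⟩
    refine this.trans ?_
    show l (toK ⟨aq, haqB⟩) = l kq
    exact congrArg l (Subtype.ext (by
      show g⁻¹ * (g * (q : G) * g⁻¹) * g = q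
      group))
  have h2 : (lP ⟨(aq : G), aq.2.1⟩ : ℂ) = lA aq := (hlP _).symm.trans (hμPres aq)
  show ((l kc * ν ⟨q, hq⟩ : ℂˣ) : ℂ) = φ k
  rw [hl k, hk, map_mul, Units.val_mul, Units.val_mul]
  congr 1
  show (lP ⟨(aq : G), aq.2.1⟩ : ℂ) = _
  rw [h2, h1]

variable {d : ℕ}

/-- The twisted action of `E ⊓ N`. -/
def twistRep (ρ : Representation ℂ N (Fin d → ℂ)) (μ : E →* ℂˣ) :
    Representation ℂ ↥(E ⊓ N) (Fin d → ℂ) where
  toFun k := (((μ ⟨(k : G), k.2.1⟩)⁻¹ : ℂˣ) : ℂ) • ρ ⟨(k : G), k.2.2⟩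
  map_one' := by
    rw [show (⟨((1 : ↥(E ⊓ N)) : G), (1 : ↥(E ⊓ N)).2.1⟩ : E) = 1 from rfl,
      show (⟨((1 : ↥(E ⊓ N)) : G), (1 : ↥(E ⊓ N)).2.2⟩ : N) = 1 from rfl, map_one, map_one,
      inv_one, Units.val_one, one_smul]
  map_mul' a b := by
    rw [show (⟨((a * b : ↥(E ⊓ N)) : G), (a * b).2.1⟩ : E) = ⟨a, a.2.1⟩ * ⟨b, b.2.1⟩ from rfl,
      show (⟨((a * b : ↥(E ⊓ N)) : G), (a * b).2.2⟩ : N) = ⟨a, a.2.2⟩ * ⟨b, b.2.2⟩ from rfl,
      map_mul, map_mul, mul_inv, Units.val_mul, smul_mul_smul_comm]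

omit [Finite G] hN in
theorem mem_invariants_twist (ρ : Representation ℂ N (Fin d → ℂ)) (μ : E →* ℂˣ) (v : Fin d → ℂ) :
    v ∈ (twistRep ρ μ).invariants ↔
      ∀ k : ↥(E ⊓ N), ρ ⟨(k : G), k.2.2⟩ v = (μ ⟨(k : G), k.2.1⟩ : ℂ) • v := by
  refine (Representation.mem_invariants _ v).trans (forall_congr' fun k => ?_)
  show (((μ ⟨(k : G), k.2.1⟩)⁻¹ : ℂˣ) : ℂ) • ρ ⟨(k : G), k.2.2⟩ v = v ↔ _
  rw [Units.val_inv_eq_inv_val, inv_smul_eq_iff₀ (Units.ne_zero _)]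

/-- A retraction on the part of the intertwiner group over `E`. -/
theorem exists_retraction_over (ρ : Representation ℂ N (Fin d → ℂ)) (μ : E →* ℂˣ)
    (hμinv : ∀ (g : E) (k : ↥(E ⊓ N)),
      μ ⟨((cj E N g k : ↥(E ⊓ N)) : G), (cj E N g k).2.1⟩ = μ ⟨(k : G), k.2.1⟩) :
    ∃ ψ : ↥(E.comap (proj N ρ)) →* ℂˣ,
      (∀ (n : N) (h : baseHom N ρ n ∈ E.comap (proj N ρ)), ψ ⟨baseHom N ρ n, h⟩ = 1) ∧
      ∀ (c : ℂˣ) (h : scalarHom N ρ c ∈ E.comap (proj N ρ)),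
        ψ ⟨scalarHom N ρ c, h⟩ = c ^ Module.finrank ℂ (twistRep ρ μ).invariants := by
  classical
  set W := (twistRep ρ μ).invariants with hW
  set m := Module.finrank ℂ W
  have hmaps : ∀ x : ↥(E.comap (proj N ρ)), ∀ v ∈ W, op N ρ (x : twinGroup N ρ) v ∈ W := by
    intro x v hv
    rw [hW, mem_invariants_twist] at hv ⊢
    intro k
    set g : E := ⟨proj N ρ (x : twinGroup N ρ), x.2⟩
    set k' := cj E N g⁻¹ k with hk'
    have hk : cj E N g k' = k := Subtype.ext (by simp [hk', mul_assoc])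
    have h1 := LinearMap.congr_fun (op_twist N ρ (x : twinGroup N ρ) ⟨(k' : G), k'.2.2⟩) v
    have h2 : nconj N (proj N ρ (x : twinGroup N ρ)) ⟨(k' : G), k'.2.2⟩ = ⟨(k : G), k.2.2⟩ :=
      Subtype.ext (by
        rw [coe_nconj]
        exact congrArg (Subtype.val : ↥(E ⊓ N) → G) hk)
    rw [h2] at h1
    simp only [Module.End.mul_apply] at h1
    rw [← h1, hv k', map_smul]
    congr 2
    rw [← hμinv g k']
    exact congrArg μ (Subtype.ext (congrArg (Subtype.val : ↥(E ⊓ N) → G) hk))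
  let R : ↥(E.comap (proj N ρ)) →* Module.End ℂ W :=
    { toFun := fun x => (op N ρ (x : twinGroup N ρ)).restrict (hmaps x)
      map_one' := LinearMap.ext fun v => Subtype.ext (by simp [LinearMap.restrict_apply])
      map_mul' := fun x y => LinearMap.ext fun v => Subtype.ext (by
        simp [LinearMap.restrict_apply, map_mul]) }
  let D : ↥(E.comap (proj N ρ)) →* ℂˣ := MonoidHom.toHomUnits (LinearMap.det.comp R)
  let M : ↥(E.comap (proj N ρ)) →* ℂˣ :=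
    μ.comp (MonoidHom.mk' (fun x => ⟨proj N ρ (x : twinGroup N ρ), x.2⟩) fun a b =>
      Subtype.ext (by simp))
  refine ⟨D * (M ^ m)⁻¹, fun n h => ?_, fun c h => ?_⟩
  · rw [MonoidHom.mul_apply, MonoidHom.inv_apply, mul_inv_eq_one]
    apply Units.ext
    show LinearMap.det (R ⟨baseHom N ρ n, h⟩) = ((μ ⟨(n : G), h⟩ ^ m : ℂˣ) : ℂ)
    rw [Units.val_pow_eq_pow_val,
      show R ⟨baseHom N ρ n, h⟩ = (μ ⟨(n : G), h⟩ : ℂ) • LinearMap.id from
        LinearMap.ext fun v => Subtype.ext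
          ((mem_invariants_twist ρ μ v).1 v.2 ⟨(n : G), h, n.2⟩),
      LinearMap.det_smul, LinearMap.det_id, mul_one]
  · rw [MonoidHom.mul_apply, MonoidHom.inv_apply]
    have hM : (M ^ m) ⟨scalarHom N ρ c, h⟩ = 1 := by
      show (μ ⟨proj N ρ (scalarHom N ρ c), h⟩) ^ m = 1
      rw [show (⟨proj N ρ (scalarHom N ρ c), h⟩ : E) = 1 from Subtype.ext (proj_scalarHom N ρ c),
        map_one, one_pow]
    rw [hM, inv_one, mul_one]
    apply Units.ext
    show LinearMap.det (R ⟨scalarHom N ρ c, h⟩) = _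
    rw [Units.val_pow_eq_pow_val,
      show R ⟨scalarHom N ρ c, h⟩ = (c : ℂ) • LinearMap.id from
        LinearMap.ext fun v => Subtype.ext (by simp [R, LinearMap.restrict_apply]),
      LinearMap.det_smul, LinearMap.det_id, mul_one]

/-- S0897. -/
theorem exists_extension_of_sylow_linear {p : ℕ} [Fact p.Prime]
    (hind : ∃ k : ℕ, N.index = p ^ k) (P : Sylow p G)
    (hcent : ∀ x ∈ (P : Subgroup G) ⊓ N, ∀ y ∈ (P : Subgroup G), x * y = y * x)
    (hlin : ∀ lam : ↥((P : Subgroup G) ⊓ N) → ℂ, Cfsg.IsCharacter ↥((P : Subgroup G) ⊓ N) lam →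
      lam 1 = 1 → ∃ μ : ↥(P : Subgroup G) → ℂ, Cfsg.IsCharacter ↥(P : Subgroup G) μ ∧ μ 1 = 1 ∧
        ∀ x : ↥((P : Subgroup G) ⊓ N), μ ⟨(x : G), x.2.1⟩ = lam x)
    {ϑ : N → ℂ} (hϑ : Cfsg.IsIrrCharacter N ϑ)
    (hinv : ∀ (g : G) (n : N), ϑ ⟨g * n * g⁻¹, hN.conj_mem (n : G) n.2 g⟩ = ϑ n) :
    ∃ χ : G → ℂ, Cfsg.IsIrrCharacter G χ ∧ ∀ n : N, χ n = ϑ n := by
  classical
  cases nonempty_fintype G
  obtain ⟨E, φ, hE, htop, hφ, hφinv, m, hm, hmul⟩ := exists_elementary hind hϑ hinv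
  haveI := Fintype.ofFinite ↥(E ⊓ N)
  obtain ⟨μ, hμ⟩ := exists_linear_extension hind P hcent hlin hE hφ
  obtain ⟨d, ρ, hρ, hρe⟩ := hϑ
  have hμinv : ∀ (g : E) (k : ↥(E ⊓ N)),
      μ ⟨((cj E N g k : ↥(E ⊓ N)) : G), (cj E N g k).2.1⟩ = μ ⟨(k : G), k.2.1⟩ := fun g k =>
    Units.ext (by rw [hμ, hμ, hφinv])
  have hfr : Module.finrank ℂ (twistRep ρ μ).invariants = m := by
    haveI : Invertible (Nat.card ↥(E ⊓ N) : ℂ) :=
      invertibleOfNonzero (card_ne_zero_complex _)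
    have h := Representation.card_inv_mul_sum_char_eq_finrank (twistRep ρ μ)
    apply Nat.cast_injective (R := ℂ)
    rw [← h, ← hmul, classInner_def]
    congr 1
    refine Finset.sum_congr rfl fun k _ => ?_
    show LinearMap.trace ℂ _ ((((μ ⟨(k : G), k.2.1⟩)⁻¹ : ℂˣ) : ℂ) • ρ ⟨(k : G), k.2.2⟩) = _
    rw [map_smul, smul_eq_mul, mul_comm, ← hμ k, Units.val_inv_eq_inv_val,
      Complex.inv_eq_conj (norm_hom μ _), resInf, ← hρe]
    rfl
  obtain ⟨ψ, hψN, hψc⟩ := exists_retraction_over ρ μ hμinv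
  rw [hfr] at hψc
  have hdec : ∀ x : twinGroup N ρ, ∃ n : N, x * baseHom N ρ n ∈ E.comap (proj N ρ) := by
    intro x
    obtain ⟨e, he, n, hn, h⟩ :=
      Subgroup.mem_sup_of_normal_right.1 (htop.symm ▸ Subgroup.mem_top (proj N ρ x))
    refine ⟨⟨n, hn⟩⁻¹, ?_⟩
    show proj N ρ (x * baseHom N ρ ⟨n, hn⟩⁻¹) ∈ E
    rw [map_mul, proj_baseHom, ← h]
    simpa using he
  choose c hc using hdec
  have hwd : ∀ (x : twinGroup N ρ) (n : N) (h : x * baseHom N ρ n ∈ E.comap (proj N ρ)),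
      ψ ⟨x * baseHom N ρ (c x), hc x⟩ = ψ ⟨x * baseHom N ρ n, h⟩ := by
    intro x n h
    have e : (⟨x * baseHom N ρ n, h⟩ : ↥(E.comap (proj N ρ)))⁻¹ *
        ⟨x * baseHom N ρ (c x), hc x⟩ = ⟨baseHom N ρ (n⁻¹ * c x), by
          have := mul_mem (inv_mem h) (hc x)
          simpa [mul_assoc] using this⟩ := Subtype.ext (by simp [mul_assoc])
    have := congrArg ψ e
    rw [map_mul, map_inv, hψN, inv_mul_eq_one] at this
    exact this.symm
  let Ψ : twinGroup N ρ →* ℂˣ :=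
    MonoidHom.mk' (fun x => ψ ⟨x * baseHom N ρ (c x), hc x⟩) fun x y => by
      set n : N := nconj N (proj N ρ y)⁻¹ (c x) * c y
      have e : x * y * baseHom N ρ n =
          (x * baseHom N ρ (c x)) * (y * baseHom N ρ (c y)) := by
        have h1 := conj_baseHom N ρ y⁻¹ (c x)
        rw [map_inv, inv_inv] at h1
        rw [map_mul, ← h1]
        group
      have hmem : x * y * baseHom N ρ n ∈ E.comap (proj N ρ) := e ▸ mul_mem (hc x) (hc y)
      show ψ _ = ψ _ * ψ _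
      rw [hwd (x * y) n hmem, ← map_mul]
      exact congrArg ψ (Subtype.ext e)
  obtain ⟨χ, hχ, hres⟩ := exists_extension_of_exponent ρ (nconj_invariant hinv hρe) Ψ m
    (fun n => by
      show ψ _ = 1
      rw [hwd _ n⁻¹ (by show proj N ρ (baseHom N ρ n * baseHom N ρ n⁻¹) ∈ E; simp [E.one_mem])]
      have : (⟨baseHom N ρ n * baseHom N ρ n⁻¹, by
          show proj N ρ (baseHom N ρ n * baseHom N ρ n⁻¹) ∈ E; simp [E.one_mem]⟩ :
          ↥(E.comap (proj N ρ))) = 1 := Subtype.ext (by simp)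
      rw [this, map_one])
    (fun a => by
      show ψ _ = a ^ m
      have ha : scalarHom N ρ a ∈ E.comap (proj N ρ) := by
        show proj N ρ (scalarHom N ρ a) ∈ E
        rw [proj_scalarHom]; exact E.one_mem
      rw [hwd _ 1 (by rwa [map_one, mul_one]), ← hψc a ha]
      exact congrArg ψ (Subtype.ext (by simp)))
    (by
      obtain ⟨k, hk⟩ := hind
      rw [hk]
      exact (((Fact.out : p.Prime).coprime_iff_not_dvd).2 hm).symm.pow_right k)
  exact ⟨χ, hχ, fun n => (hres n).trans (congrFun hρe n)⟩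

end Cfsg.Agent.H35.Dade
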