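import Cfsg.Agent.H35.BlockInduction
import Cfsg.Agent.H35.ClassDefect

/-!
# Brauer's first main theorem
-/

set_option autoImplicit false

open scoped ComplexConjugate
open MonoidAlgebra

namespace Cfsg.Agent.H35

open CharBasic BlockBasic

universe u

variable {p : ℕ} {M : Ideal AlgInt} {G : Type u} [Group G] {D : Subgroup G}

local notation "N" => Subgroup.normalizer (D : Set G)

theorem coe_centralizer_le_normalizer :
    Subgroup.centralizer (D : Set G) ≤ Subgroup.normalizer (D : Set G) := by
  intro x hx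
  rw [Subgroup.mem_normalizer_iff]
  intro q
  constructor
  · intro hq
    rwa [← Subgroup.mem_centralizer_iff.1 hx q hq, mul_inv_cancel_right]
  · intro hq
    have h2 := Subgroup.mem_centralizer_iff.1 hx _ hq
    have : x * q * x⁻¹ = q := by
      apply mul_left_cancel (a := x)
      rw [← h2]
      group
    rwa [this] at hq

theorem conj_mem_centralizer_of_normalizer {n c : G} (hn : n ∈ N)
    (hc : c ∈ Subgroup.centralizer (D : Set G)) :
    n * c * n⁻¹ ∈ Subgroup.centralizer (D : Set G) := by
  rw [Subgroup.mem_centralizer_iff] at hc ⊢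
  intro q hq
  have hq' : n⁻¹ * q * n ∈ D := by
    have := (Subgroup.mem_normalizer_iff.1 (inv_mem hn) q).1 hq
    simpa using this
  calc q * (n * c * n⁻¹) = n * (n⁻¹ * q * n * c) * n⁻¹ := by group
    _ = n * (c * (n⁻¹ * q * n)) * n⁻¹ := by rw [hc _ hq']
    _ = _ := by group

/-- A class of the normalizer with defect group `D` is the truncation of a class of the group. -/
theorem trunc_classSum_eq [Finite G] [Fact p.Prime] {c : N}
    (hc : (c : G) ∈ Subgroup.centralizer (D : Set G))
    (hS : ∃ S : Sylow p (Subgroup.centralizer ({(c : G)} : Set G)), sylImage S = D) :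
    trunc D N (classSum (c : G)) = classSum c := by
  classical
  apply coeff_injective
  ext h
  by_cases hh : (h : G) ∈ Subgroup.centralizer (D : Set G)
  · rw [coeff_trunc_of_mem D N _ hh, classSum, classSum, coeff_ofFun, coeff_ofFun]
    by_cases hch : IsConj (c : G) (h : G)
    · obtain ⟨n, hn, he⟩ := exists_normalizer_conj hS (exists_sylow_of_isConj hS hch hh) hch
      have : IsConj c h := isConj_iff.2 ⟨⟨n, hn⟩, Subtype.ext (by push_cast; exact he)⟩
      rw [if_pos hch, if_pos this]
    · have : ¬ IsConj c h := fun e => hch (by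
        obtain ⟨n, hn⟩ := isConj_iff.1 e
        exact isConj_iff.2 ⟨(n : G), by rw [← hn]; push_cast; rfl⟩)
      rw [if_neg hch, if_neg this]
  · have : ¬ IsConj c h := fun e => hh (by
      obtain ⟨n, hn⟩ := isConj_iff.1 e
      rw [← hn]
      push_cast
      exact conj_mem_centralizer_of_normalizer n.2 hc)
    rw [coeff_trunc_of_not_mem D N _ hh, classSum, coeff_ofFun, if_neg this]

/-- A class of `N` whose Sylow group of the centralizer is `D` is such a class of `G`. -/
theorem exists_sylow_of_sylow_normalizer [Finite G] [Fact p.Prime] {c : N}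
    (hS : ∃ S : Sylow p (Subgroup.centralizer ({c} : Set N)), sylImage S = D.subgroupOf N) :
    (c : G) ∈ Subgroup.centralizer (D : Set G) ∧
      ∃ S : Sylow p (Subgroup.centralizer ({(c : G)} : Set G)), sylImage S = D := by
  obtain ⟨S, hS⟩ := hS
  have hcD : (c : G) ∈ Subgroup.centralizer (D : Set G) := by
    rw [Subgroup.mem_centralizer_iff]
    intro q hq
    exact congrArg Subtype.val (Subgroup.mem_centralizer_singleton_iff.1
      (sylImage_le S (hS.symm.le (show (⟨q, Subgroup.le_normalizer hq⟩ : N) ∈ D.subgroupOf N from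
        Subgroup.mem_subgroupOf.2 hq))))
  refine ⟨hcD, exists_sylow_of_normalizer (exists_sylow_map_eq (fun q hq =>
    ⟨Subgroup.mem_centralizer_singleton_iff.2 (Subgroup.mem_centralizer_iff.1 hcD q hq),
      Subgroup.le_normalizer hq⟩) ?_)⟩
  have h1 : Nat.card (D.subgroupOf N) = Nat.card D :=
    Nat.card_congr (Subgroup.subgroupOfEquivOfLe Subgroup.le_normalizer).toEquiv
  have h2 : Nat.card (Subgroup.centralizer ({c} : Set N)) =
      Nat.card ↥(Subgroup.centralizer ({(c : G)} : Set G) ⊓ N) :=
    Nat.card_congr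
      { toFun := fun x => ⟨((x : N) : G), Subgroup.mem_centralizer_singleton_iff.2
          (congrArg Subtype.val (Subgroup.mem_centralizer_singleton_iff.1 x.2)), (x : N).2⟩
        invFun := fun x => ⟨⟨(x : G), x.2.2⟩, Subgroup.mem_centralizer_singleton_iff.2
          (Subtype.ext (Subgroup.mem_centralizer_singleton_iff.1 x.2.1))⟩
        left_inv := fun _ => rfl
        right_inv := fun _ => rfl }
  rw [← h1, ← hS, card_sylImage, h2]

/-- Central characters of an inducing block and of the induced block agree on classes with defect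
group `D`. -/
theorem centralChar_congr_of_sylow [Finite G] [Fact p.Prime] (hM : IsPModular p M)
    (hDp : IsPGroup p D) {b : Set (IrrCharacter N)} {B : Set (IrrCharacter G)}
    (hind : IsInducedBlock M N b B) {ξ : IrrCharacter N} (hξ : ξ ∈ b) {χ : IrrCharacter G}
    (hχ : χ ∈ B) {c : N}
    (hS : ∃ S : Sylow p (Subgroup.centralizer ({c} : Set N)), sylImage S = D.subgroupOf N) :
    MemLocalIdeal M (centralChar (ξ : N → ℂ) c - centralChar (χ : G → ℂ) (c : G)) := by
  cases nonempty_fintype G
  haveI := Fintype.ofFinite N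
  obtain ⟨hcD, hS'⟩ := exists_sylow_of_sylow_normalizer hS
  have h := (isInducedBlock_iff_brauer hM hDp Subgroup.le_normalizer le_rfl hind.1 hind.2.1).1 hind
    ξ hξ χ hχ (c : G)
  rwa [← omega_trunc_classSum, trunc_classSum_eq hcD hS',
    omega_classSum (IsIrr.isClassFunction ξ.2)] at h

theorem isDefectGroup_of_subset [Finite G] [Fact p.Prime] (hM : IsPModular p M)
    {B : Set (IrrCharacter G)} {E : Subgroup G} (hE : IsDefectGroup p M B E) {c : G}
    (hle : E ≤ D.map (MulAut.conj c).toMonoidHom) (hge : Nat.card D ≤ Nat.card E) :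
    IsDefectGroup p M B D := by
  have heq : E = D.map (MulAut.conj c).toMonoidHom :=
    Subgroup.eq_of_le_of_card_ge hle
      (by rwa [Subgroup.card_map_of_injective (MulAut.conj c).injective])
  have := isDefectGroup_conj hE c⁻¹
  rw [heq, Subgroup.map_map] at this
  convert this using 1
  ext x
  simp [Subgroup.mem_map, mul_assoc]

/-- First main theorem, part (i). -/
theorem firstMain_induces [Finite G] [Fact p.Prime] (hM : IsPModular p M) (hDp : IsPGroup p D)
    {b : Set (IrrCharacter N)} (hb : IsPBlock M b)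
    (hbD : IsDefectGroup p M b (D.subgroupOf N)) :
    ∃ B : Set (IrrCharacter G), IsPBlock M B ∧ IsDefectGroup p M B D ∧
      IsInducedBlock M N b B := by
  obtain ⟨B, hind⟩ := inducedBlockDefined_of_normal hM hDp Subgroup.le_normalizer
    coe_centralizer_le_normalizer le_rfl hb
  refine ⟨B, hind.2.1, ?_, hind⟩
  obtain ⟨c, hc, S, hS⟩ := id hbD
  obtain ⟨ξ, hξ⟩ := isPBlock_nonempty hM hb
  obtain ⟨χ, hχ⟩ := isPBlock_nonempty hM hind.2.1
  obtain ⟨hcD, S', hS'⟩ := exists_sylow_of_sylow_normalizer ⟨S, hS.symm⟩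
  have hu : ¬ MemLocalIdeal M (centralChar (χ : G → ℂ) (c : G)) := fun h =>
    hc.2.2 ξ hξ (by
      simpa using memLocalIdeal_add hM
        (centralChar_congr_of_sylow hM hDp hind hξ hχ ⟨S, hS.symm⟩) h)
  obtain ⟨g, hg⟩ := exists_isDefectClass hM hind.2.1
  obtain ⟨x, hx⟩ := exists_sylImage_le hM hind.2.1 hχ hu hg.2.1 default S'
  rw [hS'] at hx
  obtain ⟨E, hE, hle⟩ := defectGroup_le_induced hM N hind hbD
  rw [Subgroup.map_subgroupOf_eq_of_le Subgroup.le_normalizer] at hle
  have hE' : IsDefectGroup p M B (sylImage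
      (default : Sylow p (Subgroup.centralizer ({g} : Set G)))) := ⟨g, hg, default, rfl⟩
  refine isDefectGroup_of_subset hM hE' hx ?_
  rw [card_defectGroup hM hind.2.1 hE', ← card_defectGroup hM hind.2.1 hE]
  exact Subgroup.card_le_of_le hle

/-- First main theorem, existence in part (ii). -/
theorem firstMain_exists [Finite G] [Fact p.Prime] (hM : IsPModular p M) (hDp : IsPGroup p D)
    {B : Set (IrrCharacter G)} (hB : IsPBlock M B) (hBD : IsDefectGroup p M B D) :
    ∃ b : Set (IrrCharacter N), IsPBlock M b ∧ IsDefectGroup p M b (D.subgroupOf N) ∧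
      IsInducedBlock M N b B := by
  classical
  cases nonempty_fintype G
  haveI := Fintype.ofFinite N
  obtain ⟨g, hg, S, hS⟩ := id hBD
  have hgD : g ∈ Subgroup.centralizer (D : Set G) := Subgroup.mem_centralizer_iff.2 fun q hq =>
    Subgroup.mem_centralizer_singleton_iff.1 (sylImage_le S (hS.le hq))
  set w := trunc D N (blockElem B) with hw
  have hidem : ∀ h, MemLocalIdeal M ((w * w).coeff h - w.coeff h) := by
    intro h
    have := memLocalIdeal_neg (trunc_mul hM hDp (coe_centralizer_le_normalizer (D := D))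
      (isCentralElt_blockElem B) (isIntElt_blockElem hM hB) (isCentralElt_blockElem B)
      (isIntElt_blockElem hM hB) h)
    rw [blockElem_idem, neg_sub] at this
    exact this
  obtain ⟨ξ, hξ⟩ : ∃ ξ : IrrCharacter N, ¬ MemLocalIdeal M (omega (ξ : N → ℂ) w) := by
    by_contra h
    push Not at h
    have := coeff_mem_of_omega_mem hM
      (isCentralElt_trunc le_rfl (isCentralElt_blockElem B))
      (isIntElt_trunc hM D N (isIntElt_blockElem hM hB)) hidem h
      ⟨g, coe_centralizer_le_normalizer hgD⟩
    rw [coeff_trunc_of_mem D N _ hgD, coeff_blockElem] at this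
    exact hg.2.1 this
  obtain ⟨χ, hχ⟩ := exists_irr_trunc hM hDp coe_centralizer_le_normalizer le_rfl ξ
  have hχB : χ ∈ B := by
    by_contra hn
    apply hξ
    have := hχ _ (isCentralElt_blockElem B) (isIntElt_blockElem hM hB)
    rwa [omega_blockElem, if_neg hn, sub_zero] at this
  have hb : IsPBlock M (blockOf M (ξ : N → ℂ)) := isPBlock_blockOf M ξ
  obtain ⟨B', hB'⟩ := inducedBlockDefined_of_normal hM hDp Subgroup.le_normalizer
    coe_centralizer_le_normalizer le_rfl hb
  have hBB : B' = B := by
    obtain ⟨χ', hχ'⟩ := isPBlock_nonempty hM hB'.2.1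
    have hχ'B : χ' ∈ B := by
      rw [isPBlock_eq_blockOf hM hB hχB]
      intro k
      have h1 := (isInducedBlock_iff_brauer hM hDp Subgroup.le_normalizer le_rfl hb hB'.2.1).1 hB'
        ξ (self_mem_blockOf hM ξ) χ' hχ' k
      have h2 := hχ _ (isCentralElt_classSum k) (isIntElt_classSum hM k)
      rw [omega_trunc_classSum, omega_classSum (IsIrr.isClassFunction χ.2)] at h2
      simpa using memLocalIdeal_sub hM h1 h2
    exact isPBlock_eq_of_mem hM hB'.2.1 hB hχ' hχ'B
  subst hBB
  refine ⟨_, hb, ?_, hB'⟩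
  obtain ⟨y, hy⟩ := exists_isDefectClass hM hb
  obtain ⟨R, hR⟩ : ∃ R, IsDefectGroup p M (blockOf M (ξ : N → ℂ)) R :=
    ⟨_, y, hy, default, rfl⟩
  haveI : (D.subgroupOf N).Normal := Subgroup.normal_in_normalizer
  have h1 := le_defectGroup_of_normal hM hb hR (D.subgroupOf N)
    (hDp.comap_of_injective _ (Subgroup.subtype_injective _))
  obtain ⟨E, hE, hle⟩ := defectGroup_le_induced hM N hB' hR
  have hRD : R = D.subgroupOf N := by
    refine (Subgroup.eq_of_le_of_card_ge h1 ?_).symm
    have h2 := Subgroup.card_le_of_le hle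
    rw [Subgroup.card_map_of_injective (Subgroup.subtype_injective _),
      card_defectGroup hM hB'.2.1 hE, ← card_defectGroup hM hB'.2.1 hBD] at h2
    rwa [Nat.card_congr (Subgroup.subgroupOfEquivOfLe Subgroup.le_normalizer).toEquiv]
  exact hRD ▸ hR

/-- First main theorem, uniqueness in part (ii). -/
theorem firstMain_unique [Finite G] [Fact p.Prime] (hM : IsPModular p M) (hDp : IsPGroup p D)
    {B : Set (IrrCharacter G)} {b₁ b₂ : Set (IrrCharacter N)}
    (h₁D : IsDefectGroup p M b₁ (D.subgroupOf N)) (h₁ : IsInducedBlock M N b₁ B)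
    (h₂ : IsInducedBlock M N b₂ B) : b₁ = b₂ := by
  classical
  cases nonempty_fintype G
  haveI := Fintype.ofFinite N
  haveI : Finite (ConjClasses N) := Finite.of_surjective _ ConjClasses.mk_surjective
  haveI : Fintype (ConjClasses N) := Fintype.ofFinite _
  obtain ⟨ξ₁, hξ₁⟩ := isPBlock_nonempty hM h₁.1
  obtain ⟨ξ₂, hξ₂⟩ := isPBlock_nonempty hM h₂.1
  obtain ⟨χ, hχ⟩ := isPBlock_nonempty hM h₁.2.1
  refine isPBlock_eq_of_mem hM h₁.1 h₂.1 (?_ : ξ₂ ∈ b₁) hξ₂
  by_contra hne
  obtain ⟨g₁, hg₁, S₁, hS₁⟩ := id h₁D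
  haveI : (D.subgroupOf N).Normal := Subgroup.normal_in_normalizer
  have hD'p : IsPGroup p (D.subgroupOf N) :=
    hDp.comap_of_injective _ (Subgroup.subtype_injective _)
  have hsum : MemLocalIdeal M
      (omega (ξ₁ : N → ℂ) (blockElem b₁) - omega (ξ₂ : N → ℂ) (blockElem b₁)) := by
    rw [omega_eq_sum_classes (IsIrr.isClassFunction ξ₁.2) (isCentralElt_blockElem b₁),
      omega_eq_sum_classes (IsIrr.isClassFunction ξ₂.2) (isCentralElt_blockElem b₁),
      ← Finset.sum_sub_distrib]
    refine memLocalIdeal_sum hM _ _ fun C _ => ?_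
    rw [← mul_sub]
    by_cases hx : ∃ x, IsConj (C.out : N) x ∧
        x ∈ Subgroup.centralizer ((D.subgroupOf N : Subgroup N) : Set N)
    · by_cases ha : MemLocalIdeal M ((blockElem b₁).coeff C.out)
      · rw [mul_comm]
        exact memLocalIdeal_mul hM ((locRing hM).sub_mem (memLocalRing_centralChar hM ξ₁.2 _)
          (memLocalRing_centralChar hM ξ₂.2 _)) ha
      · refine memLocalIdeal_mul hM (isIntElt_blockElem hM h₁.1 _) ?_
        have hS : ∃ S : Sylow p (Subgroup.centralizer ({(C.out : N)} : Set N)),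
            sylImage S = D.subgroupOf N := by
          rw [coeff_blockElem] at ha
          let S : Sylow p (Subgroup.centralizer ({(C.out : N)} : Set N)) := default
          obtain ⟨c, hc⟩ := exists_sylImage_le hM h₁.1 hξ₁ (hg₁.2.2 ξ₁ hξ₁) ha S S₁
          rw [show sylImage S₁ = D.subgroupOf N from hS₁.symm,
            show (D.subgroupOf N).map (MulAut.conj c).toMonoidHom = D.subgroupOf N from
              le_antisymm (by rintro _ ⟨q, hq, rfl⟩; exact Subgroup.Normal.conj_mem ‹_› q hq c)
                (fun q hq => ⟨c⁻¹ * q * c, by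
                  simpa using Subgroup.Normal.conj_mem ‹(D.subgroupOf N).Normal› q hq c⁻¹, by
                  simp [mul_assoc]⟩)] at hc
          obtain ⟨x, hcx, hxD⟩ := hx
          have hCD : (C.out : N) ∈
              Subgroup.centralizer ((D.subgroupOf N : Subgroup N) : Set N) := by
            obtain ⟨d, hd⟩ := isConj_iff.1 hcx.symm
            rw [← hd]
            haveI : (Subgroup.centralizer ((D.subgroupOf N : Subgroup N) : Set N)).Normal :=
              inferInstance
            exact Subgroup.Normal.conj_mem inferInstance x hxD d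
          refine ⟨S, le_antisymm hc fun q hq => ?_⟩
          have hqC : q ∈ Subgroup.centralizer ({(C.out : N)} : Set N) :=
            Subgroup.mem_centralizer_singleton_iff.2 (Subgroup.mem_centralizer_iff.1 hCD q hq)
          exact ⟨⟨q, hqC⟩, normal_le_sylow (hD'p.comap_of_injective _
            (Subgroup.subtype_injective _)) S (show (⟨q, hqC⟩ : Subgroup.centralizer _) ∈
              (D.subgroupOf N).subgroupOf _ from Subgroup.mem_subgroupOf.2 hq), rfl⟩
        simpa using memLocalIdeal_sub hM (centralChar_congr_of_sylow hM hDp h₁ hξ₁ hχ hS)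
          (centralChar_congr_of_sylow hM hDp h₂ hξ₂ hχ hS)
    · push Not at hx
      refine memLocalIdeal_mul hM (isIntElt_blockElem hM h₁.1 _) (memLocalIdeal_sub hM ?_ ?_) <;>
        exact centralChar_mem_of_no_centralizing hM _ hD'p hx _
  rw [omega_blockElem, omega_blockElem, if_pos hξ₁, if_neg hne, sub_zero] at hsum
  exact not_memLocalIdeal_one hM hsum

end Cfsg.Agent.H35
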