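import Mathlib.GroupTheory.PGroup
import Mathlib.GroupTheory.Subgroup.Centralizer
import Mathlib.Algebra.Group.Conj
import Mathlib.Tactic

set_option autoImplicit false

namespace Cfsg.Agent.H35

/-- Conjugation action of a subgroup on a conjugation-invariant set of pairs with product fixed. -/
theorem card_pairs_modEq {G : Type*} [Group G] [Finite G] (p : ℕ) [Fact p.Prime] (P : Subgroup G)
    (hP : IsPGroup p P) (A B : G → Prop) (hA : ∀ x g : G, A x → A (g * x * g⁻¹))
    (hB : ∀ x g : G, B x → B (g * x * g⁻¹)) (c : G)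
    (hc : c ∈ Subgroup.centralizer (P : Set G)) :
    Nat.card {xy : G × G // A xy.1 ∧ B xy.2 ∧ xy.1 * xy.2 = c} ≡
      Nat.card {xy : G × G // A xy.1 ∧ B xy.2 ∧ xy.1 * xy.2 = c ∧
        xy.1 ∈ Subgroup.centralizer (P : Set G) ∧ xy.2 ∈ Subgroup.centralizer (P : Set G)} [MOD p] := by
  classical
  let T := {xy : G × G // A xy.1 ∧ B xy.2 ∧ xy.1 * xy.2 = c}
  let _ : SMul P T :=
    ⟨fun u t => ⟨((u : G) * t.1.1 * (u : G)⁻¹, (u : G) * t.1.2 * (u : G)⁻¹),
      hA _ _ t.2.1, hB _ _ t.2.2.1, by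
        have h := Subgroup.mem_centralizer_iff.mp hc (u : G) u.2
        calc (u : G) * t.1.1 * (u : G)⁻¹ * ((u : G) * t.1.2 * (u : G)⁻¹)
            = (u : G) * (t.1.1 * t.1.2) * (u : G)⁻¹ := by group
          _ = c := by rw [t.2.2.2, h]; group⟩⟩
  let _ : MulAction P T :=
    { one_smul := fun t => by
        apply Subtype.ext
        apply Prod.ext
        · show ((1 : P) : G) * t.1.1 * ((1 : P) : G)⁻¹ = t.1.1
          simp
        · show ((1 : P) : G) * t.1.2 * ((1 : P) : G)⁻¹ = t.1.2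
          simp
      mul_smul := fun u v t => by
        apply Subtype.ext
        apply Prod.ext
        · show ((u * v : P) : G) * t.1.1 * ((u * v : P) : G)⁻¹ =
            (u : G) * ((v : G) * t.1.1 * (v : G)⁻¹) * (u : G)⁻¹
          push_cast
          group
        · show ((u * v : P) : G) * t.1.2 * ((u * v : P) : G)⁻¹ =
            (u : G) * ((v : G) * t.1.2 * (v : G)⁻¹) * (u : G)⁻¹
          push_cast
          group }
  have h := hP.card_modEq_card_fixedPoints T
  refine h.trans ?_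
  refine congrArg (· % p) ?_
  apply Nat.card_congr
  refine
    { toFun := fun t => ⟨t.1.1, t.1.2.1, t.1.2.2.1, t.1.2.2.2, ?_, ?_⟩
      invFun := fun s => ⟨⟨s.1, s.2.1, s.2.2.1, s.2.2.2.1⟩, ?_⟩
      left_inv := fun t => rfl
      right_inv := fun s => rfl }
  · rw [Subgroup.mem_centralizer_iff]
    intro u hu
    have h1 : (u : G) * t.1.1.1 * u⁻¹ = t.1.1.1 :=
      congrArg (fun z : T => z.1.1) (t.2 ⟨u, hu⟩)
    exact mul_inv_eq_iff_eq_mul.mp h1
  · rw [Subgroup.mem_centralizer_iff]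
    intro u hu
    have h1 : (u : G) * t.1.1.2 * u⁻¹ = t.1.1.2 :=
      congrArg (fun z : T => z.1.2) (t.2 ⟨u, hu⟩)
    exact mul_inv_eq_iff_eq_mul.mp h1
  · intro u
    apply Subtype.ext
    apply Prod.ext
    · show (u : G) * s.1.1 * (u : G)⁻¹ = s.1.1
      rw [Subgroup.mem_centralizer_iff.mp s.2.2.2.2.1 (u : G) u.2]
      group
    · show (u : G) * s.1.2 * (u : G)⁻¹ = s.1.2
      rw [Subgroup.mem_centralizer_iff.mp s.2.2.2.2.2 (u : G) u.2]
      group

theorem isConj_conj {G : Type*} [Group G] {g x : G} (h : IsConj g x) (u : G) :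
    IsConj g (u * x * u⁻¹) :=
  h.trans (isConj_iff.mpr ⟨u, rfl⟩)

theorem card_conj_pairs_modEq {G : Type*} [Group G] [Finite G] (p : ℕ) [Fact p.Prime] (P : Subgroup G)
    (hP : IsPGroup p P) (c : G) (hc : c ∈ Subgroup.centralizer (P : Set G)) (g h : G) :
    Nat.card {xy : G × G // IsConj g xy.1 ∧ IsConj h xy.2 ∧ xy.1 * xy.2 = c} ≡
      Nat.card {xy : G × G // IsConj g xy.1 ∧ IsConj h xy.2 ∧ xy.1 * xy.2 = c ∧
        xy.1 ∈ Subgroup.centralizer (P : Set G) ∧ xy.2 ∈ Subgroup.centralizer (P : Set G)} [MOD p] :=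
  card_pairs_modEq p P hP (IsConj g) (IsConj h) (fun _ u hx => isConj_conj hx u)
    (fun _ u hx => isConj_conj hx u) c hc

end Cfsg.Agent.H35
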