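import Cfsg.Agent.H35.PiIndicator
import Cfsg.Agent.CharInduce.Ops
import Mathlib.GroupTheory.Complement

/-!
# A normal complement for a Hall subgroup with controlled fusion
-/

set_option autoImplicit false

open scoped ComplexConjugate

namespace Cfsg.Agent.H35.HallComplement

open CharBasic CharInduce PiIndicator

universe u

variable {G : Type u} [Group G] {H : Subgroup G}

/-- Data: `H` controls its fusion and receives the elementary subgroups of order dividing `|H|`. -/
structure Setting (H : Subgroup G) : Prop where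
  hall : Nat.Coprime (Nat.card H) H.index
  fus : ∀ x ∈ H, ∀ y ∈ H, IsConj x y → ∃ h ∈ H, h * x * h⁻¹ = y
  elem : ∀ (E : Subgroup G) (p : ℕ), p.Prime → Cfsg.IsElementary p E → Nat.card E ∣ Nat.card H →
    ∃ g : G, E.map (MulAut.conj g).toMonoidHom ≤ H

theorem exists_conj_of_pow [Finite G] (S : Setting H) {v : G} (hv : orderOf v ∣ Nat.card H) :
    ∃ h : H, IsConj v (h : G) := by
  obtain ⟨p, hpG, hp⟩ := Nat.exists_infinite_primes (Nat.card G + 1)
  have hel : Cfsg.IsElementary p (Subgroup.zpowers v) := by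
    refine ⟨⟨v, Subgroup.mem_zpowers v⟩, Subgroup.mem_center_iff.2 fun a => ?_, ?_, 0, ?_⟩
    · apply Subtype.ext
      obtain ⟨i, hi⟩ := Subgroup.mem_zpowers_iff.1 a.2
      show (a : G) * v = v * a
      rw [← hi]
      exact ((Commute.refl v).zpow_left i).eq
    · apply Nat.Coprime.symm
      rw [hp.coprime_iff_not_dvd, Subgroup.orderOf_mk]
      intro h
      have h1 := Nat.le_of_dvd (orderOf_pos v) h
      have h2 : orderOf v ≤ Nat.card G := Nat.le_of_dvd Nat.card_pos (orderOf_dvd_natCard v)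
      omega
    · rw [pow_zero, Subgroup.index_eq_one, Subgroup.eq_top_iff']
      intro a
      obtain ⟨i, hi⟩ := Subgroup.mem_zpowers_iff.1 a.2
      exact Subgroup.mem_zpowers_iff.2 ⟨i, Subtype.ext (by simpa using hi)⟩
  obtain ⟨g, hg⟩ := S.elem _ p hp hel (by rwa [Nat.card_zpowers])
  exact ⟨⟨g * v * g⁻¹, hg ⟨v, Subgroup.mem_zpowers v, rfl⟩⟩, isConj_iff.2 ⟨g, rfl⟩⟩

theorem class_eq (S : Setting H) {φ : H → ℂ} (hφ : Cfsg.IsClassFunction H φ) {a b : H}
    (h : IsConj (a : G) (b : G)) : φ a = φ b := by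
  obtain ⟨c, hc, he⟩ := S.fus a a.2 b b.2 h
  rw [← hφ a ⟨c, hc⟩]
  exact congrArg φ (Subtype.ext he)

/-- Existence of the normal complement. -/
theorem exists_complement [Finite G] (S : Setting H) :
    ∃ K : Subgroup G, K.Normal ∧ K ⊔ H = ⊤ ∧ K ⊓ H = ⊥ := by
  classical
  cases nonempty_fintype G
  haveI : Fintype H := Fintype.ofFinite H
  set n := Nat.card H with hn
  set m := H.index with hm
  have hcard : Nat.card G = m * n := by rw [hm, hn, Subgroup.index_mul_card]
  have hcop : Nat.Coprime m n := S.hall.symm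
  obtain ⟨bv, hbv0, hbv1⟩ := Nat.chineseRemainder hcop 0 1
  obtain ⟨bu, hbu1, hbu0⟩ := Nat.chineseRemainder hcop 1 0
  have hv : m ∣ bv := Nat.modEq_zero_iff_dvd.1 hbv0
  have hu : n ∣ bu := Nat.modEq_zero_iff_dvd.1 hbu0
  have hmod : bu + bv ≡ 1 [MOD m * n] :=
    (Nat.modEq_and_modEq_iff_modEq_mul hcop).1
      ⟨by simpa using hbu1.add hbv0, by simpa using hbu0.add hbv1⟩
  have hsum : ∀ e : G, e ^ (bu + bv) = e := fun e => by
    conv_rhs => rw [← pow_one e]
    rw [pow_eq_pow_iff_modEq]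
    exact hmod.of_dvd (hcard ▸ orderOf_dvd_natCard e)
  have hone : ∀ e : G, e ^ (m * n) = 1 := fun e => hcard ▸ pow_card_eq_one'
  have hvn : ∀ x : G, (x ^ bv) ^ n = 1 := by
    intro x
    obtain ⟨c, hc⟩ := hv
    rw [← pow_mul, hc, show m * c * n = m * n * c by ring, pow_mul, hone, one_pow]
  have hfixH : ∀ h : H, (h : G) ^ bv = (h : G) := by
    intro h
    have h1 : (h : G) ^ bu = 1 := by
      obtain ⟨c, hc⟩ := hu
      have : (h : G) ^ n = 1 := by
        rw [← Subgroup.coe_pow, hn, pow_card_eq_one', OneMemClass.coe_one]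
      rw [hc, pow_mul, this, one_pow]
    have := hsum (h : G)
    rwa [pow_add, h1, one_mul] at this
  choose hπ hπc using fun x : G =>
    exists_conj_of_pow S (v := x ^ bv) (orderOf_dvd_of_pow_eq_one (hvn x))
  let ext : (H → ℂ) → G → ℂ := fun φ x => φ (hπ x)
  have hval : ∀ (φ : H → ℂ), Cfsg.IsClassFunction H φ → ∀ (x : G) (h : H),
      IsConj (x ^ bv) (h : G) → ext φ x = φ h :=
    fun φ hφ x h hx => class_eq S hφ ((hπc x).symm.trans hx)
  have hextH : ∀ (φ : H → ℂ), Cfsg.IsClassFunction H φ → ∀ h : H, ext φ h = φ h :=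
    fun φ hφ h => hval φ hφ _ h (by rw [hfixH])
  have hcf : ∀ (φ : H → ℂ), Cfsg.IsClassFunction H φ → Cfsg.IsClassFunction G (ext φ) := by
    intro φ hφ x c
    refine class_eq S hφ ((hπc _).symm.trans (IsConj.trans ?_ (hπc x)))
    rw [conj_pow]
    exact (isConj_iff.2 ⟨c, rfl⟩ : IsConj (x ^ bv) _).symm
  have hgen : ∀ φ : H → ℂ, Cfsg.IsCharacter H φ → Cfsg.IsGeneralizedCharacter G (ext φ) := by
    intro φ hφ
    have hφc := CharBasic.IsChar.isClassFunction hφ
    refine isGeneralized_of_elem (hcf φ hφc) fun E ⟨p, hp, hE⟩ => ?_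
    haveI : Fact p.Prime := ⟨hp⟩
    have hEdvd : Nat.card E ∣ m * n := hcard ▸ Subgroup.card_subgroup_dvd_card E
    obtain ⟨φu, φv, hφu, hφv⟩ := exists_part_homs hE hEdvd hcop hu hv
      (fun e => Subtype.ext (by simpa using hsum e))
    set V := φv.range.map E.subtype with hV
    have hVcard : Nat.card V ∣ n := by
      rw [hV, Subgroup.card_map_of_injective E.subtype_injective]
      refine (card_coprime_of_pow hcop.symm fun a => Subtype.ext ?_).dvd_of_dvd_mul_left
        ((Subgroup.card_subgroup_dvd_card _).trans hEdvd)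
      obtain ⟨e, he⟩ := a.2
      show (a : E) ^ n = 1
      rw [← he, hφv]
      exact Subtype.ext (by simpa using hvn (e : G))
    obtain ⟨g, hg⟩ := S.elem V p hp
      (isElementary_map (isElementary_subgroup hE φv.range)) hVcard
    let f : E →* H :=
      MonoidHom.mk' (fun e => ⟨g * (φv e : G) * g⁻¹,
        hg ⟨(φv e : G), ⟨φv e, ⟨e, rfl⟩, rfl⟩, rfl⟩⟩) fun a b => Subtype.ext (by
          simp only [map_mul, Subgroup.coe_mul]; group)
    refine IsGen.of_char ?_
    have he : (fun e : E => ext φ e) = fun e : E => φ (f e) := funext fun e =>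
      hval φ hφc _ (f e) (isConj_iff.2 ⟨g, by
        show g * (e : G) ^ bv * g⁻¹ = g * (φv e : G) * g⁻¹
        rw [hφv, Subgroup.coe_pow]⟩)
    rw [he]
    exact IsChar.comp hφ f
  -- the averaging functional
  let L : (H → ℂ) → ℂ := fun φ => (Nat.card G : ℂ)⁻¹ * ∑ x : G, ext φ x
  have hLint : ∀ φ : H → ℂ, Cfsg.IsCharacter H φ → IsIntegral ℤ (L φ) := by
    intro φ hφ
    obtain ⟨a, b, ha, hb, he⟩ := hgen φ hφ
    obtain ⟨i, hi⟩ := classInner_isChar_nat ha IsChar.one
    obtain ⟨j, hj⟩ := classInner_isChar_nat hb IsChar.one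
    have h : L φ = (i : ℂ) - (j : ℂ) := by
      rw [← hi, ← hj, ← classInner_sub_left, ← he, classInner_def]
      simp [L]
    rw [h]
    exact (isIntegral_algebraMap (R := ℤ) (x := (i : ℤ))).sub
      (isIntegral_algebraMap (R := ℤ) (x := (j : ℤ)))
  let N : H → ℕ := fun h => (Finset.univ.filter fun x : G => IsConj (hπ x) h).card
  let c : H → ℕ := fun h => (Finset.univ.filter fun k : H => IsConj k h).card
  have hc0 : ∀ h, c h ≠ 0 := fun h =>
    Finset.card_ne_zero.2 ⟨h, Finset.mem_filter.2 ⟨Finset.mem_univ _, IsConj.refl h⟩⟩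
  have hconjH : ∀ a b : H, IsConj (a : G) (b : G) → IsConj a b := by
    intro a b h
    obtain ⟨k, hk, he⟩ := S.fus a a.2 b b.2 h
    exact isConj_iff.2 ⟨⟨k, hk⟩, Subtype.ext he⟩
  have hN0 : ∀ h, N h ≠ 0 := fun h => by
    refine Finset.card_ne_zero.2 ⟨(h : G), Finset.mem_filter.2 ⟨Finset.mem_univ _, ?_⟩⟩
    refine hconjH _ _ ?_
    have := hπc (h : G)
    rw [hfixH] at this
    exact this.symm
  -- the multiplicities
  let q : H → ℂ := fun h => (n : ℂ) * N h / ((Nat.card G : ℂ) * c h)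
  have hG0 : (Nat.card G : ℂ) ≠ 0 := card_ne_zero_complex G
  have hn0 : (n : ℂ) ≠ 0 := by rw [hn]; exact card_ne_zero_complex H
  have hqint : ∀ h, IsIntegral ℤ (q h) := by
    intro h
    set δ : H → ℂ := fun k => if IsConj k h then 1 else 0 with hδ
    have hδc : Cfsg.IsClassFunction H δ := by
      intro a b
      have : IsConj (b * a * b⁻¹) h ↔ IsConj a h :=
        ⟨fun e => (isConj_iff.2 ⟨b, rfl⟩ : IsConj a _).trans e,
          fun e => (isConj_iff.2 ⟨b, rfl⟩ : IsConj a (b * a * b⁻¹)).symm.trans e⟩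
      simp only [hδ, this]
    have h1 : L δ = (N h : ℂ) / Nat.card G := by
      show (Nat.card G : ℂ)⁻¹ * ∑ x : G, δ (hπ x) = _
      simp only [hδ, N]
      rw [Finset.natCast_card_filter]
      field_simp
    have h2 : L δ = ∑ ψ : Cfsg.IrrCharacter H, Cfsg.classInner δ (ψ : H → ℂ) * L (ψ : H → ℂ) := by
      show (Nat.card G : ℂ)⁻¹ * ∑ x : G, δ (hπ x) = _
      conv_lhs => arg 2; arg 2; ext x; rw [classFunction_expansion hδc]
      simp only [Finset.sum_apply, Pi.smul_apply, smul_eq_mul, Finset.mul_sum, L, ext]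
      rw [Finset.sum_comm]
      exact Finset.sum_congr rfl fun ψ _ => Finset.sum_congr rfl fun x _ => by ring
    have h3 : ∀ ψ : Cfsg.IrrCharacter H,
        Cfsg.classInner δ (ψ : H → ℂ) = (c h : ℂ) / n * conj ((ψ : H → ℂ) h) := by
      intro ψ
      rw [classInner_def, ← hn]
      have : ∀ k, δ k * conj ((ψ : H → ℂ) k) =
          (if IsConj k h then (1 : ℂ) else 0) * conj ((ψ : H → ℂ) h) := by
        intro k
        simp only [hδ]
        split_ifs with hk
        · obtain ⟨b, hb⟩ := isConj_iff.1 hk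
          rw [← hb, CharBasic.IsIrr.isClassFunction ψ.2]
        · simp
      rw [Finset.sum_congr rfl fun k _ => this k, ← Finset.sum_mul, ← Finset.natCast_card_filter]
      simp only [c]
      field_simp
    have hq : q h = ∑ ψ : Cfsg.IrrCharacter H, conj ((ψ : H → ℂ) h) * L (ψ : H → ℂ) := by
      have hc : (c h : ℂ) ≠ 0 := Nat.cast_ne_zero.2 (hc0 h)
      rw [h1, Finset.sum_congr rfl fun ψ _ => by rw [h3 ψ, mul_assoc], ← Finset.mul_sum] at h2
      apply mul_left_cancel₀ (div_ne_zero hc hn0)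
      rw [← h2]
      simp only [q]
      field_simp
    rw [hq]
    refine IsIntegral.sum _ fun ψ _ => IsIntegral.mul ?_ (hLint _ (CharBasic.IsIrr.isCharacter ψ.2))
    exact (BlockBasic.isIntegral_apply ψ h).map
      ((Complex.conjAe.toAlgHom).restrictScalars ℤ)
  have hqnat : ∀ h, ∃ k : ℕ, 1 ≤ k ∧ q h = (k : ℂ) := by
    intro h
    have hd : (Nat.card G * c h : ℤ) ≠ 0 := by
      have := hc0 h
      have := (Nat.card_pos (α := G))
      positivity
    have hi : IsIntegral ℤ (((n * N h : ℤ) : ℂ) / ((Nat.card G * c h : ℤ) : ℂ)) := by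
      push_cast
      exact hqint h
    have hdvd := BlockBasic.dvd_of_isIntegral_div hd hi
    obtain ⟨k, hk⟩ : Nat.card G * c h ∣ n * N h := Int.natCast_dvd_natCast.1 (by exact_mod_cast hdvd)
    refine ⟨k, Nat.one_le_iff_ne_zero.2 fun h0 => ?_, ?_⟩
    · rw [h0, mul_zero, mul_eq_zero] at hk
      rcases hk with hk | hk
      · exact (Nat.card_pos (α := H)).ne' hk
      · exact hN0 h hk
    · simp only [q]
      rw [div_eq_iff (mul_ne_zero hG0 (Nat.cast_ne_zero.2 (hc0 h))), ← Nat.cast_mul, hk]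
      push_cast
      ring
  choose k hk1 hkq using hqnat
  have hLsum : ∀ φ : H → ℂ, Cfsg.IsClassFunction H φ →
      L φ = (n : ℂ)⁻¹ * ∑ h : H, φ h * (k h : ℂ) := by
    intro φ hφ
    have h1 : ∀ x : G, φ (hπ x) = ∑ h : H, if IsConj (hπ x) h then φ h / c h else 0 := by
      intro x
      have hcx : ∀ h, IsConj (hπ x) h → φ h / c h = φ (hπ x) / c (hπ x) := by
        intro h hh
        obtain ⟨b, hb⟩ := isConj_iff.1 hh
        have hce : c h = c (hπ x) := by
          simp only [c]
          congr 1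
          ext y
          simp only [Finset.mem_filter, Finset.mem_univ, true_and]
          exact ⟨fun e => e.trans hh.symm, fun e => e.trans hh⟩
        rw [hce, ← hb, hφ]
      rw [← Finset.sum_filter, Finset.sum_congr rfl fun h hh => hcx h (Finset.mem_filter.1 hh).2,
        Finset.sum_const, nsmul_eq_mul]
      have : (Finset.univ.filter fun h => IsConj (hπ x) h).card = c (hπ x) := by
        simp only [c]
        congr 1
        ext y
        simp only [Finset.mem_filter, Finset.mem_univ, true_and]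
        exact ⟨fun e => e.symm, fun e => e.symm⟩
      rw [this, mul_div_cancel₀ _ (Nat.cast_ne_zero.2 (hc0 _))]
    show (Nat.card G : ℂ)⁻¹ * ∑ x : G, φ (hπ x) = _
    rw [Finset.sum_congr rfl fun x _ => h1 x, Finset.sum_comm, Finset.mul_sum, Finset.mul_sum]
    refine Finset.sum_congr rfl fun h _ => ?_
    rw [← Finset.sum_filter, Finset.sum_const, nsmul_eq_mul, ← hkq h]
    simp only [q, N]
    field_simp
  have hk : ∀ h, k h = 1 := by
    have h := hLsum (fun _ => 1) (fun a b => rfl)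
    have h1 : L (fun _ => (1 : ℂ)) = 1 := by
      show (Nat.card G : ℂ)⁻¹ * ∑ _x : G, (1 : ℂ) = 1
      rw [Finset.sum_const, Finset.card_univ, nsmul_eq_mul, mul_one,
        ← Nat.card_eq_fintype_card, inv_mul_cancel₀ hG0]
    rw [h1, eq_inv_mul_iff_mul_eq₀ hn0, mul_one] at h
    simp only [one_mul] at h
    have h' : ∑ h : H, k h = ∑ _h : H, 1 := by
      rw [Finset.sum_const, Finset.card_univ, smul_eq_mul, mul_one, ← Nat.card_eq_fintype_card, ← hn]
      exact_mod_cast h.symm
    exact fun h => ((Finset.sum_eq_sum_iff_of_le fun i _ => hk1 i).1 h'.symm h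
      (Finset.mem_univ h)).symm
  have hLavg : ∀ φ : H → ℂ, Cfsg.IsClassFunction H φ → L φ = (n : ℂ)⁻¹ * ∑ h : H, φ h := by
    intro φ hφ
    rw [hLsum φ hφ]
    simp [hk]
  have hirr : ∀ ψ : Cfsg.IrrCharacter H, Cfsg.IsIrrCharacter G (ext (ψ : H → ℂ)) := by
    intro ψ
    have hψc := CharBasic.IsIrr.isClassFunction ψ.2
    have h1 : Cfsg.classInner (ext (ψ : H → ℂ)) (ext (ψ : H → ℂ)) = 1 := by
      have h := classInner_irr_self ψ.2
      rw [classInner_def] at h ⊢
      rw [← hn] at h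
      rw [← h]
      exact hLavg (fun a => (ψ : H → ℂ) a * conj ((ψ : H → ℂ) a)) (fun a b => by simp only [hψc a b])
    rcases IsGen.eq_irr_or_neg (hgen _ (CharBasic.IsIrr.isCharacter ψ.2)) h1 with ⟨χ, h⟩
    rcases h with h | h
    · rw [h]; exact χ.2
    · exfalso
      have e := congrFun h 1
      rw [Pi.neg_apply, show ext (ψ : H → ℂ) 1 = (ψ : H → ℂ) 1 from hextH _ hψc 1,
        BlockBasic.apply_one_eq_charDegree, BlockBasic.apply_one_eq_charDegree] at e
      have hp := BlockBasic.charDegree_pos ψ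
      have : ((Cfsg.charDegree (ψ : H → ℂ) + Cfsg.charDegree (χ : G → ℂ) : ℕ) : ℂ) = 0 := by
        rw [Nat.cast_add, e, neg_add_cancel]
      rw [Nat.cast_eq_zero] at this
      omega
  -- the complement
  choose d ρ hρ hρe using hirr
  let K : Subgroup G := ⨅ ψ, MonoidHom.ker (ρ ψ)
  have hK : ∀ x, x ∈ K ↔ IsConj (hπ x) 1 := by
    intro x
    simp only [K, Subgroup.mem_iInf, MonoidHom.mem_ker, Module.End.one_eq_id]
    have h1 : ∀ ψ : Cfsg.IrrCharacter H, ρ ψ x = LinearMap.id ↔ (ψ : H → ℂ) (hπ x) = (ψ : H → ℂ) 1 := by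
      intro ψ
      rw [← character_eq_finrank_iff (ρ ψ) x, ← Representation.char_one (ρ ψ), hρe]
      rw [show ext (ψ : H → ℂ) 1 = (ψ : H → ℂ) 1 from
        hextH _ (CharBasic.IsIrr.isClassFunction ψ.2) 1]
    simp only [h1]
    constructor
    · intro h
      by_contra hne
      have h2 := second_orthogonality_count (hπ x) (1 : H)
      rw [Finset.sum_congr rfl fun χ _ => by rw [h χ], second_orthogonality_count (1 : H) 1] at h2
      haveI : IsEmpty {y : H // y * 1 * y⁻¹ = hπ x} :=
        ⟨fun y => hne (isConj_iff.2 ⟨y.1, y.2⟩).symm⟩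
      rw [Nat.card_of_isEmpty (α := {y : H // y * 1 * y⁻¹ = hπ x}), Nat.cast_zero,
        Nat.cast_eq_zero] at h2
      haveI : Nonempty {y : H // y * 1 * y⁻¹ = 1} := ⟨⟨1, by simp⟩⟩
      exact Nat.card_pos.ne' h2
    · intro h ψ
      rw [isConj_one_left.1 h]
  have hKcard : Nat.card K * Nat.card H = Nat.card G := by
    have e : (Finset.univ.filter fun x : G => IsConj (hπ x) 1).card = Nat.card K := by
      rw [Nat.card_eq_fintype_card, Fintype.card_subtype]
      congr 1
      ext x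
      simp [hK]
    have hc1 : c 1 = 1 := by
      simp only [c]
      rw [Finset.card_eq_one]
      exact ⟨1, by ext y; simp [isConj_one_left]⟩
    have h1 := hkq 1
    simp only [q, hk, Nat.cast_one, N, e, hc1, mul_one] at h1
    rw [div_eq_one_iff_eq hG0] at h1
    rw [mul_comm, ← hn]
    exact_mod_cast h1
  have hdisj : K ⊓ H = ⊥ := by
    rw [Subgroup.eq_bot_iff_forall]
    rintro x ⟨hxK, hxH⟩
    have h1 := isConj_one_left.1 ((hK x).1 hxK)
    have h2 := hπc x
    rw [h1, show x ^ bv = x from hfixH ⟨x, hxH⟩] at h2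
    exact isConj_one_left.1 h2
  refine ⟨K, Subgroup.normal_iInf_normal fun ψ => MonoidHom.normal_ker _, ?_, hdisj⟩
  exact (Subgroup.isComplement'_of_card_mul_and_disjoint hKcard
    (disjoint_iff.2 hdisj)).sup_eq_top

end Cfsg.Agent.H35.HallComplement
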