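import Cfsg.Agent.H35.BlockInduction
import Cfsg.Agent.CharInduce.Induce

/-!
# Induced central characters and induced blocks
-/

set_option autoImplicit false

open scoped ComplexConjugate
open MonoidAlgebra

namespace Cfsg.Agent.H35

open CharBasic BlockBasic

universe u

variable {p : ℕ} {M : Ideal AlgInt} {G : Type u} [Group G] [Fintype G]

/-- The induced central character is the central character of the induced function. -/
theorem inducedCentralChar_eq (H : Subgroup G) (ξ : H → ℂ) (g : G) :
    inducedCentralChar H ξ g = centralChar (indFun H ξ) g := by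
  classical
  haveI : Fintype H := Fintype.ofFinite H
  set C := Subgroup.centralizer ({g} : Set G) with hC
  have hsum : (Nat.card H : ℂ) * indFun H ξ g =
      (Nat.card C : ℂ) * ∑ h : H, if IsConj g (h : G) then ξ h else 0 := by
    rw [CharInduce.card_mul_indFun, Finset.mul_sum]
    have h1 : ∑ x : G, extendByZero H ξ (x⁻¹ * g * x) =
        ∑ y : G, extendByZero H ξ y *
          ((Finset.univ.filter fun x : G => x⁻¹ * g * x = y).card : ℂ) := by
      rw [← Finset.sum_fiberwise Finset.univ (fun x : G => x⁻¹ * g * x)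
        (fun x => extendByZero H ξ (x⁻¹ * g * x))]
      refine Finset.sum_congr rfl fun y _ => ?_
      rw [Finset.sum_congr rfl (g := fun _ => extendByZero H ξ y)
        (fun x hx => by rw [(Finset.mem_filter.1 hx).2]), Finset.sum_const, nsmul_eq_mul, mul_comm]
    rw [h1, CharInduce.sum_extendByZero_mul]
    refine Finset.sum_congr rfl fun h _ => ?_
    have h2 : (Finset.univ.filter fun x : G => x⁻¹ * g * x = (h : G)).card =
        Nat.card {x : G // x * g * x⁻¹ = (h : G)} := by
      rw [← Fintype.card_subtype, ← Nat.card_eq_fintype_card]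
      exact Nat.card_congr ((Equiv.inv G).subtypeEquiv fun x => by simp)
    rw [h2]
    split_ifs with hh
    · rw [card_conjTransporter hh, mul_comm]
    · haveI : IsEmpty {x : G // x * g * x⁻¹ = (h : G)} :=
        ⟨fun x => hh (isConj_iff.2 ⟨x.1, x.2⟩)⟩
      simp
  rw [inducedCentralChar, centralChar, finsum_mem_def, finsum_eq_sum_of_fintype,
    CharInduce.indFun_one]
  have hH : (Nat.card H : ℂ) ≠ 0 := Nat.cast_ne_zero.2 Nat.card_pos.ne'
  have hI : (H.index : ℂ) ≠ 0 := Nat.cast_ne_zero.2 Subgroup.index_ne_zero_of_finite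
  have e1 : (Nat.card H : ℂ) * (H.index : ℂ) = (Nat.card C : ℂ) * (C.index : ℂ) := by
    rw [← Nat.cast_mul, ← Nat.cast_mul, Subgroup.card_mul_index, Subgroup.card_mul_index]
  have key : (C.index : ℂ) * indFun H ξ g =
      (H.index : ℂ) * ∑ h : H, if IsConj g (h : G) then ξ h else 0 := by
    apply mul_left_cancel₀ hH
    rw [← mul_assoc, ← mul_assoc, e1, mul_comm (Nat.card H : ℂ) (C.index : ℂ), mul_assoc, hsum]
    ring
  rw [key, mul_div_mul_left _ _ hI, Finset.sum_div]
  refine Finset.sum_congr rfl fun h _ => ?_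
  by_cases hh : IsConj g (h : G)
  · rw [if_pos hh, Set.indicator_of_mem (show h ∈ {h : H | IsConj g (h : G)} from hh)]
  · rw [if_neg hh, Set.indicator_of_notMem (show h ∉ {h : H | IsConj g (h : G)} from hh), zero_div]

/-- The truncation to the trivial subgroup computes the induced central character. -/
theorem omega_trunc_bot_eq_sum [Fintype (ConjClasses G)] (H : Subgroup G) [Fintype H] (ξ : H → ℂ)
    {z : MonoidAlgebra ℂ G} (hz : IsCentralElt z) :
    omega ξ (trunc ⊥ H z) = ∑ C : ConjClasses G, z.coeff C.out * inducedCentralChar H ξ C.out := by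
  classical
  rw [omega, chiLin, Finset.sum_div,
    ← Finset.sum_fiberwise Finset.univ (fun h : H => ConjClasses.mk (h : G))]
  refine Finset.sum_congr rfl fun C _ => ?_
  rw [inducedCentralChar, finsum_mem_def, finsum_eq_sum_of_fintype, Finset.mul_sum,
    Finset.sum_filter]
  refine Finset.sum_congr rfl fun h _ => ?_
  have hiff : ConjClasses.mk (h : G) = C ↔ IsConj C.out (h : G) := by
    conv_lhs => rw [← Quotient.out_eq C]
    exact ConjClasses.mk_eq_mk_iff_isConj.trans ⟨fun e => e.symm, fun e => e.symm⟩
  by_cases hh : IsConj C.out (h : G)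
  · rw [if_pos (hiff.2 hh), Set.indicator_of_mem (show h ∈ {h : H | IsConj C.out (h : G)} from hh),
      coeff_trunc_of_mem ⊥ H z (mem_centralizer_bot _)]
    obtain ⟨c, hc⟩ := isConj_iff.1 hh
    rw [← hc, show z.coeff (c * C.out * c⁻¹) = z.coeff C.out from hz C.out c, mul_div_assoc]
  · rw [if_neg fun e => hh (hiff.1 e),
      Set.indicator_of_notMem (show h ∉ {h : H | IsConj C.out (h : G)} from hh), mul_zero]

/-- An induced block controls all integral central elements. -/
theorem omega_trunc_bot_congr (hM : IsPModular p M) {H : Subgroup G} [Fintype H]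
    {b : Set (IrrCharacter H)} {B : Set (IrrCharacter G)} (hind : IsInducedBlock M H b B)
    {ξ : IrrCharacter H} (hξ : ξ ∈ b) {χ : IrrCharacter G} (hχ : χ ∈ B)
    {z : MonoidAlgebra ℂ G} (hz : IsCentralElt z) (hzi : IsIntElt M z) :
    MemLocalIdeal M (omega (ξ : H → ℂ) (trunc ⊥ H z) - omega (χ : G → ℂ) z) := by
  classical
  haveI : Finite (ConjClasses G) := Finite.of_surjective _ ConjClasses.mk_surjective
  haveI : Fintype (ConjClasses G) := Fintype.ofFinite _
  rw [omega_trunc_bot_eq_sum H _ hz, omega_eq_sum_classes (IsIrr.isClassFunction χ.2) hz,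
    ← Finset.sum_sub_distrib]
  refine memLocalIdeal_sum hM _ _ fun C _ => ?_
  rw [← mul_sub]
  exact memLocalIdeal_mul hM (hzi _) (hind.2.2 ξ hξ χ hχ _)

/-- S0933: a block whose character induces irreducibly induces the block of the induced one. -/
theorem isInducedBlock_of_indFun [Fact p.Prime] (hM : IsPModular p M) (H : Subgroup G)
    (ξ : IrrCharacter H) (hind : IsIrrCharacter G (indFun H (ξ : H → ℂ))) :
    IsInducedBlock M H (blockOf M (ξ : H → ℂ)) (blockOf M (indFun H (ξ : H → ℂ))) := by
  haveI : Fintype H := Fintype.ofFinite H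
  refine ⟨isPBlock_blockOf M ξ, isPBlock_blockOf M ⟨_, hind⟩, fun ξ' hξ' χ' hχ' g => ?_⟩
  have h1 := hχ' g
  have h2 := omega_congr hM (IsIrr.isClassFunction ξ.2) (IsIrr.isClassFunction ξ'.2) hξ'
    (isCentralElt_trunc (le_normalizer_bot H) (isCentralElt_classSum g))
    (isIntElt_trunc hM ⊥ H (isIntElt_classSum hM g))
  rw [omega_trunc_classSum, omega_trunc_classSum, ← inducedCentralChar_eq_brauer,
    ← inducedCentralChar_eq_brauer, inducedCentralChar_eq] at h2
  simpa using memLocalIdeal_sub hM h1 h2

/-- S0934: some character of the induced block lies over a given character of the block. -/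
theorem exists_constituent_of_induced (hM : IsPModular p M) {H : Subgroup G} [Fintype H]
    {b : Set (IrrCharacter H)} {B : Set (IrrCharacter G)} (hind : IsInducedBlock M H b B)
    {ξ : IrrCharacter H} (hξ : ξ ∈ b) :
    ∃ χ ∈ B, classInner (fun h : H => (χ : G → ℂ) h) (ξ : H → ℂ) ≠ 0 := by
  classical
  by_contra hne
  push Not at hne
  obtain ⟨χ₀, hχ₀⟩ := isPBlock_nonempty hM hind.2.1
  have hcong := omega_trunc_bot_congr hM hind hξ hχ₀ (isCentralElt_blockElem B)
    (isIntElt_blockElem hM hind.2.1)
  rw [omega_blockElem, if_pos hχ₀] at hcong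
  have hzero : omega (ξ : H → ℂ) (trunc ⊥ H (blockElem B)) = 0 := by
    rw [omega, chiLin]
    simp only [coeff_trunc_of_mem ⊥ H _ (mem_centralizer_bot _), coeff_blockElem, blockCoeff,
      finsum_mem_eq_sum_ite]
    rw [div_eq_zero_iff]
    left
    simp only [Finset.mul_sum, Finset.sum_mul]
    rw [Finset.sum_comm]
    refine Finset.sum_eq_zero fun χ _ => ?_
    by_cases hχ : χ ∈ B
    · simp only [if_pos hχ]
      have h0 := congrArg conj (hne χ hχ)
      rw [map_zero, classInner_def, map_mul, map_sum, map_inv₀, Complex.conj_natCast,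
        mul_eq_zero, inv_eq_zero] at h0
      have h0' := h0.resolve_left (Nat.cast_ne_zero.2 Nat.card_pos.ne')
      simp only [map_mul, Complex.conj_conj] at h0'
      calc _ = (Nat.card G : ℂ)⁻¹ * (χ : G → ℂ) 1 *
            ∑ h : H, conj ((χ : G → ℂ) h) * (ξ : H → ℂ) h := by
            rw [Finset.mul_sum]; exact Finset.sum_congr rfl fun h _ => by ring
        _ = 0 := by rw [h0', mul_zero]
    · simp [if_neg hχ]
  rw [hzero, zero_sub] at hcong
  exact not_memLocalIdeal_one hM (by simpa using memLocalIdeal_neg hcong)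

end Cfsg.Agent.H35
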