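import Cfsg.Agent.CharBasic.Complete
import Cfsg.Agent.BlockBasic.Local
import Cfsg.Agent.H35.FixedCount
import Mathlib.RingTheory.IntegralClosure.IsIntegralClosure.Basic
import Mathlib.GroupTheory.Sylow

/-!
# Knörr's theorem: a character vanishing on all elements of order `p` has defect zero
-/

set_option autoImplicit false

open scoped ComplexConjugate

namespace Cfsg.Agent.H35

open CharBasic

variable {G : Type*} [Group G] [Fintype G]
variable {V : Type*} [AddCommGroup V] [Module ℂ V] [FiniteDimensional ℂ V]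

/-- Integer combinations of group elements act integrally. -/
theorem isIntegral_repSum (ρ : Representation ℂ G V) (c : G → ℤ) :
    IsIntegral ℤ (CharBasic.repSum (fun g => (c g : ℂ)) ρ) := by
  classical
  have : Module.Finite ℤ (MonoidAlgebra ℤ G) :=
    Module.Finite.equiv ((Finsupp.linearEquivFunOnFinite ℤ ℤ G).symm.trans
      (MonoidAlgebra.coeffLinearEquiv ℤ).symm)
  let φ : MonoidAlgebra ℤ G →ₐ[ℤ] Module.End ℂ V := MonoidAlgebra.lift ℤ (Module.End ℂ V) G ρ
  have hx : IsIntegral ℤ (∑ g : G, MonoidAlgebra.single g (c g)) := IsIntegral.of_finite ℤ _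
  have := hx.map φ
  have heq : φ (∑ g : G, MonoidAlgebra.single g (c g)) =
      CharBasic.repSum (fun g => (c g : ℂ)) ρ := by
    simp [φ, map_sum, CharBasic.repSum, MonoidAlgebra.lift_single, Int.cast_smul_eq_zsmul]
  rwa [heq] at this

/-- The scalar by which an integral class function acts in an irreducible representation. -/
theorem exists_omega (ρ : Representation ℂ G V) [ρ.IsIrreducible] {c : G → ℤ}
    (hc : ∀ g h : G, c (h * g * h⁻¹) = c g) :
    ∃ l : ℂ, CharBasic.repSum (fun g => (c g : ℂ)) ρ = l • LinearMap.id ∧ IsIntegral ℤ l ∧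
      l * (Module.finrank ℂ V : ℂ) = ∑ g : G, (c g : ℂ) * ρ.character g := by
  have hC : Cfsg.IsClassFunction G (fun g => (c g : ℂ)) := fun g h => by simp [hc g h]
  obtain ⟨l, hl⟩ := schur_scalar ρ _ (repSum_comm hC ρ)
  refine ⟨l, hl, ?_, ?_⟩
  · have h := isIntegral_repSum ρ c
    rw [hl] at h
    have : Nontrivial V := nontrivial_of_isIrreducible ρ
    have h' : IsIntegral ℤ (algebraMap ℂ (Module.End ℂ V) l) := by
      have e : algebraMap ℂ (Module.End ℂ V) l = l • LinearMap.id := by
        rw [Algebra.algebraMap_eq_smul_one]; rfl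
      rwa [e]
    exact (isIntegral_algebraMap_iff (algebraMap ℂ (Module.End ℂ V)).injective).mp h'
  · have := trace_repSum (fun g => (c g : ℂ)) ρ
    rw [hl, map_smul, LinearMap.trace_id, smul_eq_mul] at this
    exact this

theorem repSum_mul (ρ : Representation ℂ G V) (a b : G → ℂ) :
    CharBasic.repSum a ρ * CharBasic.repSum b ρ =
      CharBasic.repSum (fun z => ∑ x : G, a x * b (x⁻¹ * z)) ρ := by
  have hR : CharBasic.repSum (fun z => ∑ x : G, a x * b (x⁻¹ * z)) ρ =
      ∑ x : G, ∑ y : G, (a x * b y) • ρ (x * y) := by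
    simp only [CharBasic.repSum, Finset.sum_smul]
    rw [Finset.sum_comm]
    refine Finset.sum_congr rfl fun x _ => ?_
    exact (Fintype.sum_equiv (Equiv.mulLeft x) _ _ fun y => by simp).symm
  rw [hR, CharBasic.repSum, CharBasic.repSum, Finset.sum_mul]
  refine Finset.sum_congr rfl fun x _ => ?_
  rw [Finset.mul_sum]
  refine Finset.sum_congr rfl fun y _ => ?_
  rw [smul_mul_smul_comm, map_mul]

/-- Number of factorisations of `z` into two solutions of `u ^ p = 1`. -/
noncomputable def pairCount (p : ℕ) (z : G) : ℕ :=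
  Nat.card {xy : G × G // xy.1 ^ p = 1 ∧ xy.2 ^ p = 1 ∧ xy.1 * xy.2 = z}

theorem pairCount_conj (p : ℕ) (z g : G) : pairCount p (g * z * g⁻¹) = pairCount p z := by
  apply Nat.card_congr
  refine ((MulAut.conj g).toEquiv.prodCongr (MulAut.conj g).toEquiv).symm.subtypeEquiv fun xy => ?_
  simp only [Equiv.prodCongr_symm, Equiv.prodCongr_apply, Prod.map_fst, Prod.map_snd]
  constructor
  · rintro ⟨h1, h2, h3⟩
    have e : ∀ t : G, (MulAut.conj g).toEquiv.symm t = (MulAut.conj g).symm t := fun _ => rfl
    simp only [e]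
    refine ⟨by rw [← map_pow, h1, map_one], by rw [← map_pow, h2, map_one], ?_⟩
    rw [← map_mul, h3]
    simp [MulAut.conj_symm_apply, mul_assoc]
  · rintro ⟨h1, h2, h3⟩
    have e : ∀ t : G, (MulAut.conj g).toEquiv.symm t = (MulAut.conj g).symm t := fun _ => rfl
    simp only [e] at h1 h2 h3
    rw [← map_pow, MulEquiv.map_eq_one_iff] at h1 h2
    refine ⟨h1, h2, ?_⟩
    rw [← map_mul] at h3
    have h4 := congrArg (MulAut.conj g) h3
    simp only [MulEquiv.apply_symm_apply, MulAut.conj_apply] at h4
    exact h4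

theorem dvd_pairCount (p : ℕ) [hp : Fact p.Prime] (z : G)
    (hz : p ∣ Nat.card (Subgroup.centralizer ({z} : Set G))) : p ∣ pairCount p z := by
  obtain ⟨w, hw⟩ := exists_prime_orderOf_dvd_card' p hz
  have hw' : orderOf (w : G) = p := by rw [Subgroup.orderOf_coe, hw]
  have hwz : (w : G) * z = z * w := Subgroup.mem_centralizer_singleton_iff.mp w.2
  set Q := Subgroup.zpowers (w : G)
  have hQ : IsPGroup p Q := by
    refine IsPGroup.of_card (n := 1) ?_
    rw [Nat.card_zpowers, hw', pow_one]
  have hzQ : z ∈ Subgroup.centralizer (Q : Set G) := by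
    rw [Subgroup.mem_centralizer_iff]
    intro q hq
    obtain ⟨i, rfl⟩ := Subgroup.mem_zpowers_iff.mp hq
    exact (Commute.zpow_left hwz i).eq
  have key := card_pairs_modEq p Q hQ (fun x : G => x ^ p = 1) (fun x : G => x ^ p = 1)
    (fun x g (hx : x ^ p = 1) => by rw [conj_pow, hx]; group)
    (fun x g (hx : x ^ p = 1) => by rw [conj_pow, hx]; group) z hzQ
  let X := {xy : G × G // xy.1 ^ p = 1 ∧ xy.2 ^ p = 1 ∧ xy.1 * xy.2 = z ∧
    xy.1 ∈ Subgroup.centralizer (Q : Set G) ∧ xy.2 ∈ Subgroup.centralizer (Q : Set G)}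
  have hcomm : ∀ {x : G}, x ∈ Subgroup.centralizer (Q : Set G) → ∀ q : Q, Commute (q : G) x :=
    fun hx q => Subgroup.mem_centralizer_iff.mp hx q q.2
  have hQp : ∀ q : Q, (q : G) ^ p = 1 := by
    intro q
    obtain ⟨i, hi⟩ := Subgroup.mem_zpowers_iff.mp q.2
    rw [← hi, ← zpow_natCast, ← zpow_mul, mul_comm, zpow_mul, zpow_natCast]
    have : (w : G) ^ p = 1 := by
      have := pow_orderOf_eq_one (w : G)
      rwa [hw'] at this
    rw [this, one_zpow]
  have hQC : ∀ q : Q, (q : G) ∈ Subgroup.centralizer (Q : Set G) := by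
    intro q
    rw [Subgroup.mem_centralizer_iff]
    intro r hr
    obtain ⟨i, rfl⟩ := Subgroup.mem_zpowers_iff.mp hr
    obtain ⟨j, hj⟩ := Subgroup.mem_zpowers_iff.mp q.2
    rw [← hj]
    exact (Commute.zpow_zpow (Commute.refl (w : G)) i j).eq
  let _ : SMul Q X := ⟨fun q x => ⟨((q : G) * x.1.1, (q : G)⁻¹ * x.1.2), by
    obtain ⟨⟨a, b⟩, ha, hb, hab, haC, hbC⟩ := x
    refine ⟨?_, ?_, ?_, Subgroup.mul_mem _ (hQC q) haC,
      Subgroup.mul_mem _ (Subgroup.inv_mem _ (hQC q)) hbC⟩
    · show ((q : G) * a) ^ p = 1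
      rw [(hcomm haC q).mul_pow, hQp, ha, one_mul]
    · show ((q : G)⁻¹ * b) ^ p = 1
      rw [(hcomm hbC q).inv_left.mul_pow, inv_pow, hQp, hb, inv_one, one_mul]
    · show (q : G) * a * ((q : G)⁻¹ * b) = z
      rw [(hcomm haC q).eq]
      simpa [mul_assoc] using hab⟩⟩
  let _ : MulAction Q X :=
    { one_smul := fun x => by
        apply Subtype.ext
        show (((1 : Q) : G) * x.1.1, ((1 : Q) : G)⁻¹ * x.1.2) = x.1
        simp
      mul_smul := fun q r x => by
        apply Subtype.ext
        show (((q * r : Q) : G) * x.1.1, ((q * r : Q) : G)⁻¹ * x.1.2) =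
          ((q : G) * ((r : G) * x.1.1), (q : G)⁻¹ * ((r : G)⁻¹ * x.1.2))
        have hc : (q : G) * r = r * q := (hcomm (hQC r) q).eq
        push_cast
        refine Prod.ext (mul_assoc _ _ _) ?_
        show ((q : G) * r)⁻¹ * x.1.2 = (q : G)⁻¹ * ((r : G)⁻¹ * x.1.2)
        rw [← mul_assoc, ← mul_inv_rev, hc] }
  have hfix : MulAction.fixedPoints Q X = ∅ := by
    ext x
    simp only [MulAction.mem_fixedPoints, Set.mem_empty_iff_false, iff_false]
    intro h
    have h1 : (w : G) * x.1.1 = x.1.1 :=
      congrArg (fun y : X => y.1.1) (h ⟨w, Subgroup.mem_zpowers _⟩)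
    have : (w : G) = 1 := mul_eq_right.mp h1
    rw [this, orderOf_one] at hw'
    exact hp.out.one_lt.ne hw'
  have h0 := hQ.card_modEq_card_fixedPoints X
  rw [hfix] at h0
  simp only [Nat.card_of_isEmpty] at h0
  exact Nat.modEq_zero_iff_dvd.mp (key.trans h0)

/-- A class function supported on elements whose centralizer has order prime to `p` sums to a
multiple of the full `p`-part of the group order. -/
theorem sum_eq_pow_mul (p : ℕ) [hp : Fact p.Prime] (F : G → ℂ)
    (hcl : ∀ g h : G, F (h * g * h⁻¹) = F g) (hint : ∀ g, IsIntegral ℤ (F g))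
    (hsupp : ∀ g, p ∣ Nat.card (Subgroup.centralizer ({g} : Set G)) → F g = 0) :
    ∃ I : ℂ, IsIntegral ℤ I ∧ ∑ g : G, F g = (p : ℂ) ^ (Nat.card G).factorization p * I := by
  classical
  obtain ⟨P⟩ : Nonempty (Sylow p G) := inferInstance
  let _ : SMul P G := ⟨fun u g => (u : G) * g * (u : G)⁻¹⟩
  let _ : MulAction P G :=
    { one_smul := fun g => by show ((1 : P) : G) * g * ((1 : P) : G)⁻¹ = g; simp
      mul_smul := fun u v g => by
        show ((u * v : P) : G) * g * ((u * v : P) : G)⁻¹ =
          (u : G) * ((v : G) * g * (v : G)⁻¹) * (u : G)⁻¹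
        push_cast
        group }
  let Ω := Quotient (MulAction.orbitRel P G)
  have : Fintype Ω := Fintype.ofFinite Ω
  refine ⟨∑ o : Ω, F o.out, IsIntegral.sum _ fun o _ => hint _, ?_⟩
  rw [← Finset.sum_fiberwise (g := fun g : G => (Quotient.mk'' g : Ω)), Finset.mul_sum]
  refine Finset.sum_congr rfl fun o _ => ?_
  set T := Finset.univ.filter fun g : G => (Quotient.mk'' g : Ω) = o
  have hT : ∀ g ∈ T, F g = F o.out := by
    intro g hg
    have hg' : (Quotient.mk'' g : Ω) = o := (Finset.mem_filter.mp hg).2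
    have : (MulAction.orbitRel P G).r g o.out := by
      apply Quotient.exact'
      rw [hg']
      exact (Quotient.out_eq' o).symm
    obtain ⟨u, hu⟩ := MulAction.orbitRel_apply.mp this
    rw [← hu]
    exact hcl _ _
  rw [Finset.sum_congr rfl hT, Finset.sum_const, nsmul_eq_mul]
  by_cases h0 : F o.out = 0
  · simp [h0]
  congr 1
  have hstab : MulAction.stabilizer P o.out = ⊥ := by
    rw [eq_bot_iff]
    intro u hu
    have hu' : (u : G) ∈ Subgroup.centralizer ({o.out} : Set G) := by
      rw [Subgroup.mem_centralizer_singleton_iff]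
      exact mul_inv_eq_iff_eq_mul.mp hu
    obtain ⟨k, hk⟩ := IsPGroup.iff_orderOf.mp P.isPGroup' u
    rw [Subgroup.mem_bot, ← orderOf_eq_one_iff, hk]
    by_contra hne
    have hk0 : k ≠ 0 := fun h => hne (by rw [h, pow_zero])
    refine h0 (hsupp _ ?_)
    have h1 : orderOf (⟨(u : G), hu'⟩ : Subgroup.centralizer ({o.out} : Set G)) = p ^ k := by
      rw [← Subgroup.orderOf_coe]
      show orderOf ((u : G)) = p ^ k
      rw [Subgroup.orderOf_coe, hk]
    have h2 := orderOf_dvd_natCard (⟨(u : G), hu'⟩ : Subgroup.centralizer ({o.out} : Set G))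
    rw [h1] at h2
    exact (dvd_pow_self p hk0).trans h2
  have hTcard : T.card = Nat.card (MulAction.orbit P o.out) := by
    rw [← Nat.card_eq_finsetCard]
    refine Nat.card_congr (Equiv.subtypeEquivRight fun g => ?_)
    simp only [T, Finset.mem_filter, Finset.mem_univ, true_and]
    constructor
    · intro h
      have : (MulAction.orbitRel P G).r g o.out :=
        Quotient.exact' (h.trans (Quotient.out_eq' o).symm)
      exact MulAction.orbitRel_apply.mp this
    · intro h
      rw [← Quotient.out_eq' o]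
      exact Quotient.sound' (MulAction.orbitRel_apply.mpr h)
  have hcard : T.card = p ^ (Nat.card G).factorization p := by
    rw [hTcard, Nat.card_congr (MulAction.orbitEquivQuotientStabilizer P o.out), hstab,
      ← Subgroup.index_eq_card, Subgroup.index_bot]
    exact P.card_eq_multiplicity
  rw [hcard, Nat.cast_pow]

/-- The degree of an irreducible representation divides the group order. -/
theorem finrank_dvd_card (ρ : Representation ℂ G V) [ρ.IsIrreducible] :
    Module.finrank ℂ V ∣ Nat.card G := by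
  classical
  have hn := finrank_pos_of_isIrreducible ρ
  have : Fintype (ConjClasses G) := @Fintype.ofFinite _ (Finite.of_surjective _ ConjClasses.mk_surjective)
  have hn0 : (Module.finrank ℂ V : ℂ) ≠ 0 := by exact_mod_cast hn.ne'
  have hint : ∀ C : ConjClasses G, ∃ l : ℂ, IsIntegral ℤ l ∧
      l * (Module.finrank ℂ V : ℂ) = ∑ g ∈ Finset.univ.filter (fun g => ConjClasses.mk g = C),
        ρ.character g := by
    intro C
    obtain ⟨l, -, hl, hl'⟩ := exists_omega ρ
      (c := fun g => if ConjClasses.mk g = C then 1 else 0)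
      (fun g h => by
        have : ConjClasses.mk (h * g * h⁻¹) = ConjClasses.mk g :=
          ConjClasses.mk_eq_mk_iff_isConj.mpr (isConj_iff.mpr ⟨h, rfl⟩).symm
        simp only [this])
    refine ⟨l, hl, hl'.trans ?_⟩
    rw [Finset.sum_filter]
    refine Finset.sum_congr rfl fun g _ => ?_
    split_ifs <;> simp
  choose l hl hl' using hint
  have horth : ∑ g : G, ρ.character g * conj (ρ.character g) = (Nat.card G : ℂ) := by
    have h1 := classInner_irr_self (isIrrCharacter_character ρ)
    rw [classInner_def] at h1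
    have hG : (Nat.card G : ℂ) ≠ 0 := by exact_mod_cast Nat.card_pos.ne'
    field_simp at h1
    exact h1
  rw [← Finset.sum_fiberwise (g := fun g : G => ConjClasses.mk g)] at horth
  have key : ∀ C : ConjClasses G, ∑ g ∈ Finset.univ.filter (fun g => ConjClasses.mk g = C),
      ρ.character g * conj (ρ.character g) =
      (Module.finrank ℂ V : ℂ) * (l C * conj (ρ.character C.out)) := by
    intro C
    rw [← mul_assoc, mul_comm (Module.finrank ℂ V : ℂ), hl' C, Finset.sum_mul]
    refine Finset.sum_congr rfl fun g hg => ?_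
    congr 2
    obtain ⟨c, hc⟩ := isConj_iff.mp (ConjClasses.mk_eq_mk_iff_isConj.mp
      ((Finset.mem_filter.mp hg).2.trans (Quotient.out_eq C).symm))
    rw [← hc, Representation.char_conj]
  rw [Finset.sum_congr rfl (fun C _ => key C), ← Finset.mul_sum] at horth
  have hi : IsIntegral ℤ (((Nat.card G : ℤ) : ℂ) / ((Module.finrank ℂ V : ℤ) : ℂ)) := by
    push_cast
    rw [← horth, mul_div_cancel_left₀ _ hn0]
    refine IsIntegral.sum _ fun C _ => (hl C).mul ?_
    rw [← character_inv]
    exact isIntegral_character ρ _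
  exact Int.natCast_dvd_natCast.mp
    (BlockBasic.dvd_of_isIntegral_div (by exact_mod_cast hn.ne') hi)

theorem knorr (p : ℕ) [hp : Fact p.Prime] (χ : Cfsg.IrrCharacter G)
    (hvan : ∀ g : G, orderOf g = p → (χ : G → ℂ) g = 0) :
    (Cfsg.charDegree (χ : G → ℂ)).factorization p = (Nat.card G).factorization p := by
  classical
  obtain ⟨χ, n, ρ, hρ, rfl⟩ := χ
  have hn : 0 < n := by
    have := finrank_pos_of_isIrreducible ρ
    simpa using this
  have hdeg : Cfsg.charDegree ρ.character = n := by
    simp [Cfsg.charDegree]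
  rw [hdeg]
  set a : G → ℤ := fun g => if g ^ p = 1 then 1 else 0
  set A : G → ℤ := fun z => if p ∣ Nat.card (Subgroup.centralizer ({z} : Set G))
    then ((pairCount p z / p : ℕ) : ℤ) else 0
  set B : G → ℤ := fun z => if p ∣ Nat.card (Subgroup.centralizer ({z} : Set G))
    then 0 else (pairCount p z : ℤ)
  have hcent : ∀ g h : G, Nat.card (Subgroup.centralizer ({h * g * h⁻¹} : Set G)) =
      Nat.card (Subgroup.centralizer ({g} : Set G)) := by
    intro g h
    refine Nat.card_congr ((MulAut.conj h).symm.toEquiv.subtypeEquiv fun x => ?_)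
    simp only [Subgroup.mem_centralizer_singleton_iff]
    show _ ↔ (MulAut.conj h).symm x * g = g * (MulAut.conj h).symm x
    rw [← (MulAut.conj h).injective.eq_iff (a := (MulAut.conj h).symm x * g), map_mul, map_mul,
      MulEquiv.apply_symm_apply, MulAut.conj_apply]
  have hacl : ∀ g h : G, a (h * g * h⁻¹) = a g := fun g h => by simp [a, conj_pow]
  have hAcl : ∀ g h : G, A (h * g * h⁻¹) = A g := fun g h => by
    simp only [A, hcent, pairCount_conj]
  have hBcl : ∀ g h : G, B (h * g * h⁻¹) = B g := fun g h => by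
    simp only [B, hcent, pairCount_conj]
  obtain ⟨la, hla, -, hla'⟩ := exists_omega ρ hacl
  obtain ⟨lA, hlA, hlAi, -⟩ := exists_omega ρ hAcl
  obtain ⟨lB, hlB, hlBi, hlB'⟩ := exists_omega ρ hBcl
  simp only [Module.finrank_fin_fun] at hla' hlB'
  have hn0 : (n : ℂ) ≠ 0 := by exact_mod_cast hn.ne'
  have hla1 : la = 1 := by
    rw [Finset.sum_eq_single (1 : G)] at hla'
    · simp [a] at hla'
      exact mul_right_cancel₀ hn0 (hla'.trans (one_mul _).symm)
    · intro g _ hg
      simp only [a]
      split_ifs with h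
      · have h0 : ρ.character g = 0 := hvan g (orderOf_eq_prime h hg)
        rw [h0]
        simp
      · simp
    · simp
  have hconv : ∀ z : G, ∑ x : G, (a x : ℂ) * (a (x⁻¹ * z) : ℂ) = (pairCount p z : ℂ) := by
    intro z
    have : pairCount p z =
        (Finset.univ.filter fun x : G => x ^ p = 1 ∧ (x⁻¹ * z) ^ p = 1).card := by
      rw [← Nat.card_eq_finsetCard]
      refine Nat.card_congr
        { toFun := fun xy => ⟨xy.1.1, by
            obtain ⟨⟨x, y⟩, hx, hy, rfl⟩ := xy
            simp [hx, hy]⟩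
          invFun := fun x => ⟨(x.1, x.1⁻¹ * z), by
            have := x.2
            simp only [Finset.mem_filter, Finset.mem_univ, true_and] at this
            exact ⟨this.1, this.2, mul_inv_cancel_left _ _⟩⟩
          left_inv := fun xy => by
            obtain ⟨⟨x, y⟩, hx, hy, rfl⟩ := xy
            simp
          right_inv := fun x => rfl }
    rw [this, Finset.card_filter, Nat.cast_sum]
    refine Finset.sum_congr rfl fun x _ => ?_
    by_cases h1 : x ^ p = 1 <;> by_cases h2 : (x⁻¹ * z) ^ p = 1 <;> simp [a, h1, h2]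
  have hsplit : ∀ z : G, (pairCount p z : ℂ) = (p : ℂ) * (A z : ℂ) + (B z : ℂ) := by
    intro z
    simp only [A, B]
    split_ifs with h
    · obtain ⟨k, hk⟩ := dvd_pairCount p z h
      rw [hk, Nat.mul_div_cancel_left _ hp.out.pos]
      push_cast
      ring
    · simp
  have hsq := repSum_mul ρ (fun g => (a g : ℂ)) (fun g => (a g : ℂ))
  rw [funext hconv, funext hsplit] at hsq
  have hlin : CharBasic.repSum (fun z => (p : ℂ) * (A z : ℂ) + (B z : ℂ)) ρ =
      (p : ℂ) • CharBasic.repSum (fun z => (A z : ℂ)) ρ +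
        CharBasic.repSum (fun z => (B z : ℂ)) ρ := by
    simp [CharBasic.repSum, add_smul, Finset.sum_add_distrib, Finset.smul_sum, smul_smul]
  rw [hlin, hla, hlA, hlB, hla1, one_smul, smul_smul, ← add_smul] at hsq
  have hone : (1 : ℂ) = p * lA + lB := by
    have h1 := congrArg (LinearMap.trace ℂ (Fin n → ℂ)) hsq
    have e : (LinearMap.id : Module.End ℂ (Fin n → ℂ)) * LinearMap.id = LinearMap.id := rfl
    rw [e, map_smul, LinearMap.trace_id, Module.finrank_fin_fun, smul_eq_mul] at h1
    field_simp at h1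
    exact h1
  obtain ⟨I, hI, hBI⟩ := sum_eq_pow_mul p (fun g => (B g : ℂ) * ρ.character g)
    (fun g h => by
      show (B (h * g * h⁻¹) : ℂ) * ρ.character (h * g * h⁻¹) = _
      rw [hBcl, Representation.char_conj])
    (fun g => IsIntegral.mul (by simpa using isIntegral_algebraMap (R := ℤ) (A := ℂ) (x := B g))
      (isIntegral_character ρ g))
    (fun g h => by
      show (B g : ℂ) * ρ.character g = 0
      have : B g = 0 := if_pos h
      rw [this, Int.cast_zero, zero_mul])
  rw [hBI] at hlB'
  set e := (Nat.card G).factorization p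
  obtain ⟨k, m, hm, hnm⟩ := Nat.exists_eq_pow_mul_and_not_dvd hn.ne' p hp.out.ne_one
  rw [hnm, Nat.factorization_mul (pow_ne_zero _ hp.out.ne_zero) (fun h => hm (by rw [h]; exact dvd_zero p)),
    Nat.Prime.factorization_pow hp.out]
  simp only [Finsupp.coe_add, Pi.add_apply, Finsupp.single_eq_same,
    Nat.factorization_eq_zero_of_not_dvd hm, add_zero]
  rcases lt_trichotomy k e with hlt | heq | hgt
  · exfalso
    obtain ⟨d, hd⟩ : ∃ d, e = k + 1 + d := ⟨e - (k + 1), by omega⟩
    have hmB : (m : ℂ) * lB = (p : ℂ) ^ (1 + d) * I := by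
      have hpk : (p : ℂ) ^ k ≠ 0 := pow_ne_zero _ (by exact_mod_cast hp.out.ne_zero)
      apply mul_left_cancel₀ hpk
      rw [hnm, hd] at hlB'
      push_cast at hlB'
      rw [pow_add, pow_add, pow_one] at hlB'
      rw [pow_add, pow_one]
      linear_combination hlB'
    have hint : IsIntegral ℤ (((m : ℤ) : ℂ) / ((p : ℤ) : ℂ)) := by
      have hp0 : (p : ℂ) ≠ 0 := by exact_mod_cast hp.out.ne_zero
      have hval : ((m : ℤ) : ℂ) / ((p : ℤ) : ℂ) = (m : ℂ) * lA + (p : ℂ) ^ d * I := by
        push_cast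
        field_simp
        rw [pow_add, pow_one] at hmB
        linear_combination (m : ℂ) * hone + hmB
      rw [hval]
      exact ((isIntegral_algebraMap (x := (m : ℤ))).mul hlAi).add
        (((isIntegral_algebraMap (x := (p : ℤ))).pow d).mul hI)
    exact hm (Int.natCast_dvd_natCast.mp
      (BlockBasic.dvd_of_isIntegral_div (by exact_mod_cast hp.out.ne_zero) hint))
  · exact heq
  · exfalso
    have hdvd : p ^ k ∣ Nat.card G := by
      have h1 : p ^ k ∣ n := ⟨m, hnm⟩
      refine h1.trans ?_
      simpa using finrank_dvd_card ρ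
    have := (Nat.Prime.pow_dvd_iff_le_factorization hp.out Nat.card_pos.ne').mp hdvd
    omega

end Cfsg.Agent.H35
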