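import Cfsg.Agent.CharInduce.Brauer
import Cfsg.Agent.S0876
import Mathlib.Data.Nat.ChineseRemainder
import Mathlib.GroupTheory.Transfer

/-!
# The indicator of a section for a splitting of the group order
-/

set_option autoImplicit false

open scoped ComplexConjugate

namespace Cfsg.Agent.H35.PiIndicator

open CharBasic CharInduce

universe u

variable {G : Type u} [Group G]

/-- In an elementary group both coprime parts are given by power maps that are homomorphisms. -/
theorem exists_part_homs {E : Type u} [Group E] [Finite E] {p : ℕ} [Fact p.Prime]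
    (hE : Cfsg.IsElementary p E) {m n bu bv : ℕ} (hcard : Nat.card E ∣ m * n)
    (hcop : Nat.Coprime m n) (hu : n ∣ bu) (hv : m ∣ bv)
    (hsum : ∀ e : E, e ^ (bu + bv) = e) :
    ∃ φu φv : E →* E, (∀ e, φu e = e ^ bu) ∧ ∀ e, φv e = e ^ bv := by
  obtain ⟨x, hx, -, k, hk⟩ := hE
  have hdvd : (Subgroup.center E).index ∣ p ^ k :=
    hk ▸ Subgroup.index_dvd_of_le (Subgroup.zpowers_le.2 hx)
  have hcard' : p ^ k ∣ m * n := (hk ▸ Subgroup.index_dvd_card _).trans hcard
  have hpow : ∀ {b : ℕ}, p ^ k ∣ b → ∀ e f : E, (e * f) ^ b = e ^ b * f ^ b ∧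
      e ^ b ∈ Subgroup.center E := by
    intro b hb e f
    obtain ⟨c, rfl⟩ := hdvd.trans hb
    have h1 : (e * f) ^ (Subgroup.center E).index =
        e ^ (Subgroup.center E).index * f ^ (Subgroup.center E).index :=
      congrArg Subtype.val ((MonoidHom.transferCenterPow E).map_mul e f)
    have h2 := (Subgroup.center E).pow_index_mem e
    refine ⟨?_, ?_⟩
    · rw [pow_mul, pow_mul, pow_mul, h1,
        (show Commute (e ^ (Subgroup.center E).index) (f ^ (Subgroup.center E).index) from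
          (Subgroup.mem_center_iff.1 h2 _).symm).mul_pow]
    · rw [pow_mul]; exact Subgroup.pow_mem _ h2 c
  have hmk : ∀ {b b' : ℕ}, p ^ k ∣ b → (∀ e : E, e ^ b' = e * (e ^ b)⁻¹) → ∀ e f : E,
      (e * f) ^ b' = e ^ b' * f ^ b' := by
    intro b b' hb he e f
    rw [he, he, he, (hpow hb e f).1, mul_inv_rev]
    have hc1 := Subgroup.mem_center_iff.1 (Subgroup.inv_mem _ (hpow hb e f).2)
    have hc2 := Subgroup.mem_center_iff.1 (Subgroup.inv_mem _ (hpow hb f e).2)
    calc e * f * ((f ^ b)⁻¹ * (e ^ b)⁻¹) = e * (f * (f ^ b)⁻¹ * (e ^ b)⁻¹) := by group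
      _ = e * ((e ^ b)⁻¹ * (f * (f ^ b)⁻¹)) := by rw [hc1]
      _ = _ := by group
  have hcopk : p ^ k ∣ m ∨ p ^ k ∣ n := by
    by_cases hpm : p ∣ m
    · exact Or.inl ((Nat.Coprime.pow_left k (((Fact.out : p.Prime).coprime_iff_not_dvd).2
        fun hpn => (Fact.out : p.Prime).ne_one
          (Nat.eq_one_of_dvd_coprimes hcop hpm hpn))).dvd_of_dvd_mul_right hcard')
    · exact Or.inr ((Nat.Coprime.pow_left k
        (((Fact.out : p.Prime).coprime_iff_not_dvd).2 hpm)).dvd_of_dvd_mul_left hcard')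
  have hbu : ∀ e : E, e ^ bu = e * (e ^ bv)⁻¹ := fun e => by
    rw [eq_mul_inv_iff_mul_eq, ← pow_add, hsum]
  have hbv : ∀ e : E, e ^ bv = e * (e ^ bu)⁻¹ := fun e => by
    rw [eq_mul_inv_iff_mul_eq, ← pow_add, add_comm, hsum]
  rcases hcopk with h | h
  · exact ⟨MonoidHom.mk' (fun e => e ^ bu) (hmk (h.trans hv) hbu),
      MonoidHom.mk' (fun e => e ^ bv) (fun e f => (hpow (h.trans hv) e f).1),
      fun _ => rfl, fun _ => rfl⟩
  · exact ⟨MonoidHom.mk' (fun e => e ^ bu) (fun e f => (hpow (h.trans hu) e f).1),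
      MonoidHom.mk' (fun e => e ^ bv) (hmk (h.trans hu) hbv),
      fun _ => rfl, fun _ => rfl⟩

theorem card_coprime_of_pow {H : Type u} [Group H] [Finite H] {a b : ℕ} (hab : a.Coprime b)
    (h : ∀ x : H, x ^ a = 1) : (Nat.card H).Coprime b := by
  apply Nat.coprime_of_dvd
  intro q hq hqH hqb
  haveI : Fact q.Prime := ⟨hq⟩
  obtain ⟨x, hx⟩ := exists_prime_orderOf_dvd_card' q hqH
  exact hq.ne_one (Nat.eq_one_of_dvd_coprimes hab (hx ▸ orderOf_dvd_of_pow_eq_one (h x)) hqb)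

/-- The integrality needed over an elementary subgroup. -/
theorem isIntegral_sum_elementary [Fintype G] {E : Subgroup G} [Fintype E] {p : ℕ} [Fact p.Prime]
    (hE : Cfsg.IsElementary p E) {m n bu bv : ℕ} (hcard : Nat.card G = m * n)
    (hcop : Nat.Coprime m n) (hu : n ∣ bu) (hv : m ∣ bv)
    (hsum : ∀ e : G, e ^ (bu + bv) = e) (g : G) [DecidablePred fun y : G => IsConj y g]
    {α : E → ℂ} (hα : Cfsg.IsCharacter E α) :
    IsIntegral ℤ ((Nat.card E : ℂ)⁻¹ *
      ∑ e : E, α e * if IsConj ((e : G) ^ bv) g then (n : ℂ) else 0) := by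
  classical
  have hEdvd : Nat.card E ∣ m * n := hcard ▸ Subgroup.card_subgroup_dvd_card E
  obtain ⟨φu, φv, hφu, hφv⟩ := exists_part_homs hE hEdvd hcop hu hv
    (fun e => Subtype.ext (by simpa using hsum e))
  have hone : ∀ e : E, e ^ (m * n) = 1 := fun e =>
    orderOf_dvd_iff_pow_eq_one.1 ((orderOf_dvd_natCard e).trans hEdvd)
  have hu1 : ∀ a : φu.range, (a : E) ^ m = 1 := by
    rintro ⟨_, e, rfl⟩
    obtain ⟨c, rfl⟩ := hu
    show φu e ^ m = 1
    rw [hφu, ← pow_mul, show n * c * m = m * n * c by ring, pow_mul, hone, one_pow]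
  have hv1 : ∀ a : φv.range, (a : E) ^ n = 1 := by
    rintro ⟨_, e, rfl⟩
    obtain ⟨c, rfl⟩ := hv
    show φv e ^ n = 1
    rw [hφv, ← pow_mul, show m * c * n = m * n * c by ring, pow_mul, hone, one_pow]
  have hfix : ∀ {a : E}, a ^ m = 1 → a ^ bv = 1 ∧ a ^ bu = a := by
    intro a ha
    obtain ⟨c, hc⟩ := hv
    have h1 : a ^ bv = 1 := by rw [hc, pow_mul, ha, one_pow]
    refine ⟨h1, ?_⟩
    have := Subtype.ext_iff.2 (show ((a ^ (bu + bv) : E) : G) = (a : G) by simpa using hsum a)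
    rwa [pow_add, h1, mul_one] at this
  have hfix' : ∀ {a : E}, a ^ n = 1 → a ^ bu = 1 ∧ a ^ bv = a := by
    intro a ha
    obtain ⟨c, hc⟩ := hu
    have h1 : a ^ bu = 1 := by rw [hc, pow_mul, ha, one_pow]
    refine ⟨h1, ?_⟩
    have := Subtype.ext_iff.2 (show ((a ^ (bu + bv) : E) : G) = (a : G) by simpa using hsum a)
    rwa [pow_add, h1, one_mul] at this
  let e' : φu.range × φv.range ≃ E :=
    { toFun := fun x => (x.1 : E) * (x.2 : E)
      invFun := fun e => (⟨φu e, e, rfl⟩, ⟨φv e, e, rfl⟩)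
      left_inv := fun x => by
        refine Prod.ext (Subtype.ext ?_) (Subtype.ext ?_)
        · show φu ((x.1 : E) * (x.2 : E)) = (x.1 : E)
          rw [map_mul, hφu, hφu, (hfix (hu1 x.1)).2, (hfix' (hv1 x.2)).1, mul_one]
        · show φv ((x.1 : E) * (x.2 : E)) = (x.2 : E)
          rw [map_mul, hφv, hφv, (hfix (hu1 x.1)).1, (hfix' (hv1 x.2)).2, one_mul]
      right_inv := fun e => by
        show φu e * φv e = e
        rw [hφu, hφv, ← pow_add]
        exact Subtype.ext (by simpa using hsum e) }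
  have hcards : Nat.card φu.range * Nat.card φv.range = Nat.card E := by
    rw [← Nat.card_prod]; exact Nat.card_congr e'
  have hvn : Nat.card φv.range ∣ n :=
    (card_coprime_of_pow hcop.symm fun a => Subtype.ext (hv1 a)).dvd_of_dvd_mul_left
      ((Subgroup.card_subgroup_dvd_card _).trans hEdvd)
  have hcomm : ∀ (a : φu.range) (b : φv.range), Commute (b : E) (a : E) := by
    rintro ⟨_, e₁, rfl⟩ ⟨_, e₂, rfl⟩
    show φv e₂ * φu e₁ = φu e₁ * φv e₂
    have h := e'.left_inv (⟨φu e₁, e₁, rfl⟩, ⟨φv e₂, e₂, rfl⟩)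
    have hu' : φu (φv e₂ * φu e₁) = φu e₁ := by
      rw [map_mul, hφu (φv e₂), (hfix' (hv1 ⟨φv e₂, e₂, rfl⟩)).1, one_mul, hφu (φu e₁),
        (hfix (hu1 ⟨φu e₁, e₁, rfl⟩)).2]
    have hv' : φv (φv e₂ * φu e₁) = φv e₂ := by
      rw [map_mul, hφv (φv e₂), (hfix' (hv1 ⟨φv e₂, e₂, rfl⟩)).2, hφv (φu e₁),
        (hfix (hu1 ⟨φu e₁, e₁, rfl⟩)).1, mul_one]
    conv_lhs => rw [← e'.right_inv (φv e₂ * φu e₁)]
    show φu (φv e₂ * φu e₁) * φv (φv e₂ * φu e₁) = _
    rw [hu', hv']
  obtain ⟨d, ρ, hρ⟩ := hα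
  have hterm : ∀ b : φv.range,
      IsIntegral ℤ ((Nat.card φu.range : ℂ)⁻¹ * ∑ a : φu.range, α ((a : E) * (b : E))) := by
    intro b
    have h := S0876.isIntegral_avg ρ φu.range (b : E) (fun a ha => hcomm ⟨a, ha⟩ b)
    rw [hρ] at h
    convert h using 3 with a
    rw [(hcomm a b).eq]
  obtain ⟨c, hc⟩ := hvn
  have hc' : (n : ℂ) = (Nat.card φv.range : ℂ) * (c : ℂ) := by exact_mod_cast hc
  have key : (Nat.card E : ℂ)⁻¹ * ∑ e : E, α e * (if IsConj ((e : G) ^ bv) g then (n : ℂ) else 0) =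
      (c : ℂ) * ∑ b : φv.range, if IsConj (((b : E) : G)) g then
        (Nat.card φu.range : ℂ)⁻¹ * ∑ a : φu.range, α ((a : E) * (b : E)) else 0 := by
    rw [← e'.sum_comp, Fintype.sum_prod_type, Finset.sum_comm, Finset.mul_sum, Finset.mul_sum]
    refine Finset.sum_congr rfl fun b _ => ?_
    have hpow : ∀ a : φu.range, ((e' (a, b) : E) : G) ^ bv = ((b : E) : G) := by
      intro a
      have : ((a : E) * (b : E)) ^ bv = (b : E) := by
        rw [← hφv, map_mul, hφv, hφv, (hfix (hu1 a)).1, (hfix' (hv1 b)).2, one_mul]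
      exact congrArg Subtype.val this
    simp only [hpow]
    split_ifs with hb
    · rw [← Finset.sum_mul, ← hcards, Nat.cast_mul, hc', mul_inv]
      have := card_ne_zero_complex φv.range
      field_simp
      rw [mul_comm]
      rfl
    · simp
  rw [key]
  refine ((isIntegral_algebraMap (R := ℤ) (x := (c : ℤ)))).mul (IsIntegral.sum _ fun b _ => ?_)
  split_ifs
  · exact hterm b
  · exact isIntegral_zero

/-- S0875. -/
theorem exists_integral_coeff [Fintype G] {m n : ℕ} (hcard : Nat.card G = m * n)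
    (hcop : Nat.Coprime m n) {g : G} {ϑ : G → ℂ}
    (hϑ1 : ∀ x : G, (∃ v : G, IsConj v g ∧ (∃ u : G, x = u * v ∧ Commute u v ∧
      Nat.Coprime (orderOf u) n ∧ Nat.Coprime (orderOf v) m)) → ϑ x = n)
    (hϑ0 : ∀ x : G, (¬ ∃ v : G, IsConj v g ∧ (∃ u : G, x = u * v ∧ Commute u v ∧
      Nat.Coprime (orderOf u) n ∧ Nat.Coprime (orderOf v) m)) → ϑ x = 0) :
    ∃ c : Cfsg.IrrCharacter G → ℂ, (∀ χ, c χ ∈ Cfsg.AlgInt) ∧
      ϑ = ∑ᶠ χ : Cfsg.IrrCharacter G, c χ • (χ : G → ℂ) := by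
  classical
  obtain ⟨bv, hbv0, hbv1⟩ := Nat.chineseRemainder hcop 0 1
  obtain ⟨bu, hbu1, hbu0⟩ := Nat.chineseRemainder hcop 1 0
  have hv : m ∣ bv := Nat.modEq_zero_iff_dvd.1 hbv0
  have hu : n ∣ bu := Nat.modEq_zero_iff_dvd.1 hbu0
  have hmod : bu + bv ≡ 1 [MOD m * n] :=
    (Nat.modEq_and_modEq_iff_modEq_mul hcop).1
      ⟨by simpa using hbu1.add hbv0, by simpa using hbu0.add hbv1⟩
  have hsum : ∀ e : G, e ^ (bu + bv) = e := fun e => by
    conv_rhs => rw [← pow_one e]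
    rw [pow_eq_pow_iff_modEq]
    exact hmod.of_dvd (hcard ▸ orderOf_dvd_natCard e)
  have hone : ∀ e : G, e ^ (m * n) = 1 := fun e => hcard ▸ pow_card_eq_one'
  have hval : ∀ x : G, ϑ x = if IsConj (x ^ bv) g then (n : ℂ) else 0 := by
    intro x
    split_ifs with hx
    · refine hϑ1 x ⟨x ^ bv, hx, x ^ bu, ?_, Commute.pow_pow_self x bu bv, ?_, ?_⟩
      · rw [← pow_add, hsum]
      · refine Nat.Coprime.coprime_dvd_left (orderOf_dvd_of_pow_eq_one ?_) hcop
        obtain ⟨c, rfl⟩ := hu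
        rw [← pow_mul, show n * c * m = m * n * c by ring, pow_mul, hone, one_pow]
      · refine Nat.Coprime.coprime_dvd_left (orderOf_dvd_of_pow_eq_one ?_) hcop.symm
        obtain ⟨c, rfl⟩ := hv
        rw [← pow_mul, show m * c * n = m * n * c by ring, pow_mul, hone, one_pow]
    · refine hϑ0 x ?_
      rintro ⟨v, hvg, u, rfl, hc, hou, hov⟩
      apply hx
      have h1 : orderOf u ∣ m := hou.dvd_of_dvd_mul_right (hcard ▸ orderOf_dvd_natCard u)
      have h2 : orderOf v ∣ n := hov.dvd_of_dvd_mul_left (hcard ▸ orderOf_dvd_natCard v)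
      have e1 : u ^ bv = 1 := orderOf_dvd_iff_pow_eq_one.1 (h1.trans hv)
      have e2 : v ^ bu = 1 := orderOf_dvd_iff_pow_eq_one.1 (h2.trans hu)
      have e3 : v ^ bv = v := by
        have := hsum v
        rwa [pow_add, e2, one_mul] at this
      rwa [hc.mul_pow, e1, e3, one_mul]
  have hcf : Cfsg.IsClassFunction G ϑ := by
    intro x h
    rw [hval, hval]
    have : IsConj ((h * x * h⁻¹) ^ bv) g ↔ IsConj (x ^ bv) g := by
      rw [conj_pow]
      have e : IsConj (x ^ bv) (h * x ^ bv * h⁻¹) := isConj_iff.2 ⟨h, rfl⟩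
      exact ⟨fun hh => e.trans hh, fun hh => e.symm.trans hh⟩
    simp only [this]
  refine ⟨fun χ => Cfsg.classInner ϑ (χ : G → ℂ), fun χ => ?_, ?_⟩
  · show IsIntegral ℤ (Cfsg.classInner ϑ (χ : G → ℂ))
    have key : ∀ f ∈ indSpan (fun E : Subgroup G => IsElem E),
        IsIntegral ℤ (Cfsg.classInner (f * ϑ) (χ : G → ℂ)) := by
      intro f hf
      induction hf using AddSubgroup.closure_induction with
      | mem x hx =>
        obtain ⟨⟨E, φ⟩, ⟨⟨p, hp, hE⟩, hφ⟩, rfl⟩ := hx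
        haveI : Fact p.Prime := ⟨hp⟩
        haveI := Fintype.ofFinite E
        show IsIntegral ℤ (Cfsg.classInner (Cfsg.indFun E φ * ϑ) (χ : G → ℂ))
        rw [← indFun_mul_res E φ ϑ hcf,
          classInner_indFun_left E _ _ (CharBasic.IsIrr.isClassFunction χ.2), classInner_def]
        have hα : Cfsg.IsCharacter E (fun e : E => φ e * conj ((χ : G → ℂ) e)) :=
          IsChar.mul hφ (IsChar.conj (IsChar.res (CharBasic.IsIrr.isCharacter χ.2) E))
        have h := isIntegral_sum_elementary hE hcard hcop hu hv hsum g hα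
        convert h using 2
        refine Finset.sum_congr rfl fun e _ => ?_
        simp only [Pi.mul_apply, hval]
        ring
      | zero => rw [zero_mul, classInner_zero_left]; exact isIntegral_zero
      | add x y _ _ hx hy => rw [add_mul, classInner_add_left]; exact hx.add hy
      | neg x _ hx => rw [neg_mul, classInner_neg_left]; exact hx.neg
    have h := key _ (one_mem_indSpan G)
    rwa [show (fun _ : G => (1 : ℂ)) * ϑ = ϑ from one_mul ϑ] at h
  · rw [finsum_eq_sum_of_fintype]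
    exact classFunction_expansion hcf

end Cfsg.Agent.H35.PiIndicator
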