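import Mathlib.GroupTheory.SpecificGroups.Alternating
import Mathlib.GroupTheory.QuotientGroup.Basic
import Mathlib.Analysis.Real.Sqrt
import Mathlib.LinearAlgebra.Pi

/-!
# A double cover of the alternating group

Products of two normalised differences of anticommuting reflections act on the regular module
`(Fin n → Bool) → ℝ` of the Clifford algebra of rank `n`.
-/

set_option autoImplicit false

namespace Cfsg.Agent.H35.Spin

open Equiv
open scoped commutatorElement

variable {n : ℕ}

/-- The regular module. -/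
abbrev Mod (n : ℕ) : Type := (Fin n → Bool) → ℝ

/-- Changing one coordinate. -/
def tgl (i : Fin n) (S : Fin n → Bool) : Fin n → Bool := Function.update S i (!S i)

theorem tgl_same (i : Fin n) (S : Fin n → Bool) : tgl i S i = !S i := Function.update_self ..

theorem tgl_ne {i j : Fin n} (h : j ≠ i) (S : Fin n → Bool) : tgl i S j = S j :=
  Function.update_of_ne h ..

theorem tgl_tgl (i : Fin n) (S : Fin n → Bool) : tgl i (tgl i S) = S := by
  funext j
  rcases eq_or_ne j i with rfl | h
  · rw [tgl_same, tgl_same, Bool.not_not]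
  · rw [tgl_ne h, tgl_ne h]

theorem tgl_comm (i j : Fin n) (S : Fin n → Bool) : tgl i (tgl j S) = tgl j (tgl i S) := by
  rcases eq_or_ne i j with rfl | h
  · rfl
  funext k
  rcases eq_or_ne k i with rfl | hi
  · rw [tgl_same, tgl_ne h, tgl_ne h, tgl_same]
  · rcases eq_or_ne k j with rfl | hj
    · rw [tgl_ne hi, tgl_same, tgl_same, tgl_ne hi]
    · rw [tgl_ne hi, tgl_ne hj, tgl_ne hj, tgl_ne hi]

/-- The sign of a bit. -/
def sg (b : Bool) : ℝ := bif b then -1 else 1

theorem sg_not (b : Bool) : sg (!b) = -sg b := by cases b <;> norm_num [sg]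

theorem sg_mul_self (b : Bool) : sg b * sg b = 1 := by cases b <;> norm_num [sg]

/-- The sign of a state on a set of coordinates. -/
def sprod (A : Finset (Fin n)) (S : Fin n → Bool) : ℝ := ∏ j ∈ A, sg (S j)

theorem sprod_mul_self (A : Finset (Fin n)) (S : Fin n → Bool) : sprod A S * sprod A S = 1 := by
  rw [sprod, ← Finset.prod_mul_distrib]
  exact Finset.prod_eq_one fun j _ => sg_mul_self _

theorem sprod_tgl (A : Finset (Fin n)) (S : Fin n → Bool) (i : Fin n) :
    sprod A (tgl i S) = if i ∈ A then -sprod A S else sprod A S := by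
  split_ifs with h
  · rw [sprod, sprod, ← Finset.mul_prod_erase A _ h, ← Finset.mul_prod_erase A _ h, tgl_same,
      sg_not, neg_mul]
    congr 2
    exact Finset.prod_congr rfl fun j hj => by rw [tgl_ne (Finset.ne_of_mem_erase hj)]
  · exact Finset.prod_congr rfl fun j hj => by
      rw [tgl_ne (show j ≠ i from fun e => h (e ▸ hj))]

/-- The left generators. -/
def L (i : Fin n) : Module.End ℝ (Mod n) where
  toFun f S := sprod (Finset.Iio i) S * f (tgl i S)
  map_add' f g := funext fun S => mul_add _ _ _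
  map_smul' c f := funext fun S => by
    show _ * (c * f (tgl i S)) = c * (_ * f (tgl i S))
    ring

/-- The right generators. -/
def R (i : Fin n) : Module.End ℝ (Mod n) where
  toFun f S := sprod (Finset.Ioi i) S * f (tgl i S)
  map_add' f g := funext fun S => mul_add _ _ _
  map_smul' c f := funext fun S => by
    show _ * (c * f (tgl i S)) = c * (_ * f (tgl i S))
    ring

/-- The parity operator. -/
def P : Module.End ℝ (Mod n) where
  toFun f S := sprod Finset.univ S * f S
  map_add' f g := funext fun S => mul_add _ _ _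
  map_smul' c f := funext fun S => by
    show _ * (c * f S) = c * (_ * f S)
    ring

theorem L_apply (i : Fin n) (f : Mod n) (S : Fin n → Bool) :
    L i f S = sprod (Finset.Iio i) S * f (tgl i S) := rfl

theorem R_apply (i : Fin n) (f : Mod n) (S : Fin n → Bool) :
    R i f S = sprod (Finset.Ioi i) S * f (tgl i S) := rfl

theorem P_apply (f : Mod n) (S : Fin n → Bool) : P f S = sprod Finset.univ S * f S := rfl

theorem L_sq (i : Fin n) : L i * L i = 1 := by
  refine LinearMap.ext fun f => funext fun S => ?_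
  rw [Module.End.mul_apply, L_apply, L_apply, sprod_tgl, if_neg (by simp), tgl_tgl, ← mul_assoc,
    sprod_mul_self, one_mul, Module.End.one_apply]

theorem L_anti {i j : Fin n} (h : i ≠ j) : L i * L j = -(L j * L i) := by
  refine LinearMap.ext fun f => funext fun S => ?_
  show L i (L j f) S = -(L j (L i f) S)
  rw [L_apply, L_apply, L_apply, L_apply, tgl_comm i j, sprod_tgl, sprod_tgl]
  rcases lt_or_gt_of_ne h with h' | h'
  · rw [if_pos (Finset.mem_Iio.2 h'), if_neg (by simp [h'.le])]
    ring
  · rw [if_neg (by simp [h'.le]), if_pos (Finset.mem_Iio.2 h')]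
    ring

theorem end_mul_neg (u v : Module.End ℝ (Mod n)) : u * -v = -(u * v) := mul_neg u v

theorem end_neg_mul (u v : Module.End ℝ (Mod n)) : -u * v = -(u * v) := neg_mul u v

theorem end_neg_neg (u : Module.End ℝ (Mod n)) : - -u = u := neg_neg u

theorem end_smul_neg (r : ℝ) (v : Module.End ℝ (Mod n)) : r • -v = -(r • v) := smul_neg r v

theorem L_R_comm (i j : Fin n) : L i * R j = R j * L i := by
  refine LinearMap.ext fun f => funext fun S => ?_
  show L i (R j f) S = R j (L i f) S
  rw [L_apply, R_apply, R_apply, L_apply, tgl_comm i j, sprod_tgl, sprod_tgl]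
  rcases lt_trichotomy i j with h' | rfl | h'
  · rw [if_neg (by simp [h'.le]), if_neg (by simp [h'.le])]
    ring
  · rw [if_neg (by simp), if_neg (by simp)]
    ring
  · rw [if_pos (Finset.mem_Ioi.2 h'), if_pos (Finset.mem_Iio.2 h')]
    ring

theorem L_P_anti (i : Fin n) : L i * P = -(P * L i) := by
  refine LinearMap.ext fun f => funext fun S => ?_
  show L i (P f) S = -(P (L i f) S)
  rw [L_apply, P_apply, P_apply, L_apply, sprod_tgl, if_pos (Finset.mem_univ _)]
  ring

/-- The invariant form. -/
def B (f g : Mod n) : ℝ := ∑ S, f S * g S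

theorem B_L (i : Fin n) (f g : Mod n) : B (L i f) g = B f (L i g) := by
  let e : Equiv.Perm (Fin n → Bool) := ⟨tgl i, tgl i, tgl_tgl i, tgl_tgl i⟩
  unfold B
  rw [← Equiv.sum_comp e]
  refine Finset.sum_congr rfl fun S _ => ?_
  show L i f (tgl i S) * g (tgl i S) = f S * L i g S
  rw [L_apply, L_apply, tgl_tgl, sprod_tgl, if_neg (by simp)]
  ring

/-- The lift of a transposition. -/
noncomputable def x (a b : Fin n) : Module.End ℝ (Mod n) := (Real.sqrt 2)⁻¹ • (L a - L b)

theorem inv_sqrt_two_sq : (Real.sqrt 2)⁻¹ * (Real.sqrt 2)⁻¹ = (1 / 2 : ℝ) := by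
  rw [← mul_inv, Real.mul_self_sqrt (by norm_num)]
  norm_num

theorem x_sq {a b : Fin n} (h : a ≠ b) : x a b * x a b = 1 := by
  rw [x, smul_mul_smul_comm, inv_sqrt_two_sq, sub_mul, mul_sub, mul_sub, L_sq, L_sq,
    L_anti h]
  rw [show (1 : Module.End ℝ (Mod n)) - -(L b * L a) - (L b * L a - 1) = (2 : ℝ) • 1 by
    rw [two_smul]; abel, smul_smul]
  norm_num

theorem x_L {a b : Fin n} (h : a ≠ b) (i : Fin n) :
    x a b * L i = -(L (swap a b i) * x a b) := by
  rw [x, smul_mul_assoc, mul_smul_comm, ← end_smul_neg]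
  congr 1
  rcases eq_or_ne i a with rfl | ha
  · rw [swap_apply_left, sub_mul, mul_sub, L_sq, L_sq]
    abel
  · rcases eq_or_ne i b with rfl | hb
    · rw [swap_apply_right, sub_mul, mul_sub, L_sq, L_sq]
      abel
    · rw [swap_apply_of_ne_of_ne ha hb, sub_mul, mul_sub, L_anti ha, L_anti hb]
      abel

theorem x_R {a b : Fin n} (i : Fin n) : x a b * R i = R i * x a b := by
  rw [x, smul_mul_assoc, mul_smul_comm, sub_mul, mul_sub, L_R_comm, L_R_comm]

theorem x_P {a b : Fin n} : x a b * P = -(P * x a b) := by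
  rw [x, smul_mul_assoc, mul_smul_comm, ← end_smul_neg, sub_mul, mul_sub, L_P_anti, L_P_anti]
  congr 1
  abel

theorem B_x (a b : Fin n) (f g : Mod n) : B (x a b f) g = B f (x a b g) := by
  have h1 : ∀ f g : Mod n, B (x a b f) g = (Real.sqrt 2)⁻¹ * (B (L a f) g - B (L b f) g) := by
    intro f g
    simp only [x, B, LinearMap.smul_apply, LinearMap.sub_apply, Pi.smul_apply, Pi.sub_apply,
      smul_eq_mul, ← Finset.sum_sub_distrib, Finset.mul_sum]
    exact Finset.sum_congr rfl fun S _ => by ring
  have h2 : ∀ f g : Mod n, B f g = B g f := fun f g =>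
    Finset.sum_congr rfl fun S _ => mul_comm _ _
  rw [h1, h2 f (x a b g), h1, B_L, B_L, h2 f, h2 f]

theorem B_x_x {a b : Fin n} (h : a ≠ b) (f g : Mod n) : B (x a b f) (x a b g) = B f g := by
  rw [B_x, ← Module.End.mul_apply, x_sq h, Module.End.one_apply]

theorem x_anti {a b c d : Fin n} (hac : a ≠ c) (had : a ≠ d) (hbc : b ≠ c) (hbd : b ≠ d) :
    x a b * x c d = -(x c d * x a b) := by
  rw [x, x, smul_mul_smul_comm, smul_mul_smul_comm, ← end_smul_neg]
  congr 1
  rw [sub_mul, mul_sub, mul_sub, L_anti hac, L_anti had, L_anti hbc, L_anti hbd, sub_mul, mul_sub,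
    mul_sub]
  abel

variable (n)

/-- The covering group. -/
def cover : Subgroup (alternatingGroup (Fin n) × (Module.End ℝ (Mod n))ˣ) where
  carrier := {p | (∀ i, (p.2 : Module.End ℝ (Mod n)) * L i = L ((p.1 : Perm (Fin n)) i) * (p.2 : Module.End ℝ (Mod n))) ∧
    (∀ i, (p.2 : Module.End ℝ (Mod n)) * R i = R i * (p.2 : Module.End ℝ (Mod n))) ∧
    (p.2 : Module.End ℝ (Mod n)) * P = P * (p.2 : Module.End ℝ (Mod n)) ∧
    ∀ f g, B ((p.2 : Module.End ℝ (Mod n)) f) ((p.2 : Module.End ℝ (Mod n)) g) = B f g}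
  one_mem' := ⟨fun i => by simp, fun i => by simp, by simp, fun f g => by simp⟩
  mul_mem' := by
    intro p q hp hq
    refine ⟨fun i => ?_, fun i => ?_, ?_, fun f g => ?_⟩
    · rw [Prod.snd_mul, Units.val_mul, mul_assoc, hq.1, ← mul_assoc, hp.1, mul_assoc]
      rfl
    · rw [Prod.snd_mul, Units.val_mul, mul_assoc, hq.2.1, ← mul_assoc, hp.2.1, mul_assoc]
    · rw [Prod.snd_mul, Units.val_mul, mul_assoc, hq.2.2.1, ← mul_assoc, hp.2.2.1, mul_assoc]
    · rw [Prod.snd_mul, Units.val_mul, Module.End.mul_apply, Module.End.mul_apply, hp.2.2.2,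
        hq.2.2.2]
  inv_mem' := by
    intro p hp
    refine ⟨fun i => ?_, fun i => ?_, ?_, fun f g => ?_⟩
    · rw [Prod.snd_inv, Units.inv_mul_eq_iff_eq_mul, ← mul_assoc, hp.1, mul_assoc, Units.mul_inv,
        mul_one]
      simp
    · rw [Prod.snd_inv, Units.inv_mul_eq_iff_eq_mul, ← mul_assoc, hp.2.1, mul_assoc, Units.mul_inv,
        mul_one]
    · rw [Prod.snd_inv, Units.inv_mul_eq_iff_eq_mul, ← mul_assoc, hp.2.2.1, mul_assoc,
        Units.mul_inv, mul_one]
    · rw [Prod.snd_inv, ← hp.2.2.2, ← Module.End.mul_apply, ← Module.End.mul_apply, Units.mul_inv,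
        Module.End.one_apply, Module.End.one_apply]

/-- The projection. -/
def proj : cover n →* alternatingGroup (Fin n) :=
  (MonoidHom.fst _ _).comp (cover n).subtype

variable {n}

/-- A pair of transposition lifts. -/
theorem pair_mem {a b c d : Fin n} (hab : a ≠ b) (hcd : c ≠ d) :
    ∃ p ∈ cover n, (p.1 : Perm (Fin n)) = swap a b * swap c d ∧
      (p.2 : Module.End ℝ (Mod n)) = x a b * x c d := by
  refine ⟨(⟨swap a b * swap c d, Perm.mem_alternatingGroup.2 (by simp [hab, hcd])⟩,
    ⟨x a b * x c d, x c d * x a b, by rw [mul_assoc, ← mul_assoc (x c d), x_sq hcd, one_mul,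
      x_sq hab], by rw [mul_assoc, ← mul_assoc (x a b), x_sq hab, one_mul, x_sq hcd]⟩),
    ⟨fun i => ?_, fun i => ?_, ?_, fun f g => ?_⟩, rfl, rfl⟩
  · show x a b * x c d * L i = L (swap a b (swap c d i)) * (x a b * x c d)
    rw [mul_assoc, x_L hcd, end_mul_neg, ← mul_assoc, x_L hab, end_neg_mul, end_neg_neg, mul_assoc]
  · show x a b * x c d * R i = R i * (x a b * x c d)
    rw [mul_assoc, x_R, ← mul_assoc, x_R, mul_assoc]
  · show x a b * x c d * P = P * (x a b * x c d)
    rw [mul_assoc, x_P, end_mul_neg, ← mul_assoc, x_P, end_neg_mul, end_neg_neg, mul_assoc]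
  · show B (x a b (x c d f)) (x a b (x c d g)) = B f g
    rw [B_x_x hab, B_x_x hcd]

theorem proj_surjective : Function.Surjective (proj n) := by
  rw [← MonoidHom.range_eq_top, ← top_le_iff]
  intro s _
  have key : alternatingGroup (Fin n) ≤ (proj n).range.map (alternatingGroup (Fin n)).subtype := by
    conv_lhs => rw [← Perm.closure_three_cycles_eq_alternating, ]
    refine (Subgroup.closure_le _).2 fun σ hσ => ?_
    obtain ⟨a, ha⟩ : σ.support.Nonempty :=
      Finset.card_pos.1 (by rw [Perm.IsThreeCycle.card_support hσ]; norm_num)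
    have h1 : a ≠ σ a := fun h => Perm.mem_support.1 ha h.symm
    have h2 : σ a ≠ σ (σ a) := fun h => h1 (σ.injective h)
    obtain ⟨p, hp, hp1, -⟩ := pair_mem h1 h2
    exact ⟨p.1, ⟨⟨p, hp⟩, rfl⟩,
      hp1.trans (hσ.eq_swap_mul_swap_iff_mem_support.2 ha).symm⟩
  obtain ⟨t, ht, he⟩ := key s.2
  rwa [← Subtype.ext he]

/-- Over the identity the cover has the two signs. -/
theorem eq_one_or_neg_one {p : alternatingGroup (Fin n) × (Module.End ℝ (Mod n))ˣ}
    (hp : p ∈ cover n) (h1 : p.1 = 1) : p.2 = 1 ∨ p.2 = -1 := by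
  classical
  obtain ⟨hL, hR, hP, hB⟩ := hp
  set u : Module.End ℝ (Mod n) := (p.2 : Module.End ℝ (Mod n)) with hu
  have hL' : ∀ i, u * L i = L i * u := fun i => by rw [hL i, h1]; rfl
  set vac : Mod n := Pi.single (fun _ => false) 1 with hvac
  have hvP : P vac = vac := by
    funext S
    rw [P_apply, hvac]
    rcases eq_or_ne S (fun _ => false) with rfl | h
    · simp [sprod, sg]
    · rw [Pi.single_eq_of_ne h, mul_zero]
  have hvLR : ∀ i, L i vac = R i vac := by
    intro i
    funext S
    rw [L_apply, R_apply, hvac]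
    rcases eq_or_ne (tgl i S) (fun _ => false) with h | h
    · have hS : ∀ j, j ≠ i → S j = false := fun j hj => by
        rw [← tgl_ne hj S]; exact congrFun h j
      rw [h, sprod, sprod, Finset.prod_eq_one fun j hj => ?_, Finset.prod_eq_one fun j hj => ?_]
      · rw [hS j (Finset.mem_Ioi.1 hj).ne']; rfl
      · rw [hS j (Finset.mem_Iio.1 hj).ne]; rfl
    · rw [Pi.single_eq_of_ne h, mul_zero, mul_zero]
  set a := u vac with ha
  have haLR : ∀ i, L i a = R i a := fun i => by
    rw [ha, ← Module.End.mul_apply, ← hL', Module.End.mul_apply, hvLR, ← Module.End.mul_apply, hR,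
      Module.End.mul_apply]
  have haP : P a = a := by rw [ha, ← Module.End.mul_apply, ← hP, Module.End.mul_apply, hvP]
  have ha0 : ∀ S, S ≠ (fun _ => false) → a S = 0 := by
    intro S hS
    obtain ⟨i, hi⟩ := Function.ne_iff.1 hS
    have hi' : S i = true := by simpa using hi
    by_contra h0
    have e1 : sprod Finset.univ S = 1 := by
      have := congrFun haP S
      rw [P_apply] at this
      exact mul_right_cancel₀ h0 (this.trans (one_mul _).symm)
    have e2 : sprod (Finset.Iio i) S = sprod (Finset.Ioi i) S := by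
      have := congrFun (haLR i) (tgl i S)
      rw [L_apply, R_apply, tgl_tgl, sprod_tgl, sprod_tgl, if_neg (by simp),
        if_neg (by simp)] at this
      exact mul_right_cancel₀ h0 this
    have e3 : sprod Finset.univ S = sg (S i) * (sprod (Finset.Iio i) S * sprod (Finset.Ioi i) S) := by
      have hd : Disjoint (Finset.Iio i) (Finset.Ioi i) := Finset.disjoint_left.2 fun j h h' =>
        lt_asymm (Finset.mem_Iio.1 h) (Finset.mem_Ioi.1 h')
      rw [sprod, sprod, sprod, ← Finset.prod_union hd,
        ← Finset.prod_insert (f := fun j => sg (S j)) (by simp)]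
      refine Finset.prod_congr ?_ fun j _ => rfl
      ext j
      simpa using (lt_trichotomy i j).elim (fun h => Or.inr (Or.inr h))
        (fun h => h.elim (fun h => Or.inl h.symm) (fun h => Or.inr (Or.inl h)))
    rw [e2, sprod_mul_self, e1, hi'] at e3
    norm_num [sg] at e3
  set c := a (fun _ => false) with hc
  have hac : u vac = c • vac := by
    funext S
    rcases eq_or_ne S (fun _ => false) with rfl | h
    · show a (fun _ => false) = c * vac (fun _ => false)
      rw [hvac, Pi.single_eq_same, mul_one]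
    · rw [← ha, ha0 S h, Pi.smul_apply, hvac, Pi.single_eq_of_ne h, smul_zero]
  have htgl : ∀ (S : Fin n → Bool) (i : Fin n), u (Pi.single S 1) = c • (Pi.single S 1 : Mod n) →
      u (Pi.single (tgl i S) 1) = c • (Pi.single (tgl i S) 1 : Mod n) := by
    intro S i h
    have e : R i (Pi.single S 1) =
        sprod (Finset.Ioi i) (tgl i S) • (Pi.single (tgl i S) 1 : Mod n) := by
      funext T
      rw [R_apply, Pi.smul_apply, smul_eq_mul]
      rcases eq_or_ne (tgl i T) S with rfl | hT
      · rw [tgl_tgl]; simp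
      · rw [Pi.single_eq_of_ne hT, Pi.single_eq_of_ne (fun h => hT (by rw [h, tgl_tgl]))]
        simp
    have h2 := congrArg (R i) h
    rw [← Module.End.mul_apply, ← hR, Module.End.mul_apply, map_smul, e, map_smul, smul_comm] at h2
    refine smul_right_injective (Mod n) (r := sprod (Finset.Ioi i) (tgl i S)) ?_ h2
    intro h0
    have := sprod_mul_self (Finset.Ioi i) (tgl i S)
    rw [h0, zero_mul] at this
    exact zero_ne_one this
  have hall : ∀ S : Fin n → Bool, u (Pi.single S 1) = c • (Pi.single S 1 : Mod n) := by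
    intro S
    suffices ∀ A : Finset (Fin n), u (Pi.single (fun j => decide (j ∈ A)) 1) =
        c • (Pi.single (fun j => decide (j ∈ A)) 1 : Mod n) by
      have h := this (Finset.univ.filter fun j => S j = true)
      rwa [show (fun j => decide (j ∈ Finset.univ.filter fun j => S j = true)) = S from
        funext fun j => by simp] at h
    intro A
    induction A using Finset.induction_on with
    | empty => simpa using hac
    | insert i A hiA ih =>
      have h := htgl _ i ih
      rwa [show tgl i (fun j => decide (j ∈ A)) = fun j => decide (j ∈ insert i A) from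
        funext fun j => by
          rcases eq_or_ne j i with rfl | hj
          · rw [tgl_same]; simp [hiA]
          · rw [tgl_ne hj]; simp [hj]] at h
  have hu' : u = c • 1 := LinearMap.pi_ext' fun S => LinearMap.ext_ring (by simpa using hall S)
  have hc2 : c * c = 1 := by
    have h := hB vac vac
    rw [hac] at h
    simpa [B, hvac, Pi.single_apply, Finset.sum_ite_eq'] using h
  rcases mul_self_eq_one_iff.1 hc2 with h | h
  · exact Or.inl (Units.ext (by rw [← hu, hu', h, one_smul]; rfl))
  · exact Or.inr (Units.ext (by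
      rw [← hu, hu', h]
      exact LinearMap.ext fun f => by simp))

theorem neg_one_ne_one_unit : (-1 : (Module.End ℝ (Mod n))ˣ) ≠ 1 := by
  intro h
  have := congrFun (LinearMap.congr_fun (congrArg Units.val h) (fun _ => (1 : ℝ)))
    (fun _ => false)
  simp at this
  norm_num at this

theorem finite_cover : Finite (cover n) := by
  classical
  have hk : Finite (proj n).ker := by
    refine Finite.of_injective
      (fun p => decide ((((p : cover n) :
        alternatingGroup (Fin n) × (Module.End ℝ (Mod n))ˣ)).2 = 1)) fun p q h => ?_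
    apply Subtype.ext
    apply Subtype.ext
    refine Prod.ext (p.2.trans q.2.symm) ?_
    rcases eq_one_or_neg_one (p : cover n).2 p.2 with hp | hp <;>
      rcases eq_one_or_neg_one (q : cover n).2 q.2 with hq | hq <;>
      simp only [hp, hq] at h ⊢ <;>
      simp [neg_one_ne_one_unit] at h
  exact (MonoidHom.finite_iff_finite_ker_range (proj n)).2 ⟨hk, inferInstance⟩

theorem neg_one_mem : ((1, -1) : alternatingGroup (Fin n) × (Module.End ℝ (Mod n))ˣ) ∈ cover n :=
  ⟨fun i => by simp, fun i => by simp, by simp, fun f g => by simp [B]⟩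

/-- The central involution is a commutator. -/
theorem neg_one_mem_commutator (hn : 4 ≤ n) :
    (⟨(1, -1), neg_one_mem⟩ : cover n) ∈ commutator (cover n) := by
  let i0 : Fin n := ⟨0, by omega⟩
  let i1 : Fin n := ⟨1, by omega⟩
  let i2 : Fin n := ⟨2, by omega⟩
  let i3 : Fin n := ⟨3, by omega⟩
  have h01 : i0 ≠ i1 := by simp [i0, i1]
  have h02 : i0 ≠ i2 := by simp [i0, i2]
  have h03 : i0 ≠ i3 := by simp [i0, i3]
  have h12 : i1 ≠ i2 := by simp [i1, i2]
  have h13 : i1 ≠ i3 := by simp [i1, i3]
  have h23 : i2 ≠ i3 := by simp [i2, i3]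
  obtain ⟨p, hp, hp1, hp2⟩ := pair_mem h01 h23
  obtain ⟨q, hq, hq1, hq2⟩ := pair_mem h02 h13
  have e0 : (p.1 : Perm (Fin n)) i0 = i1 := by
    rw [hp1, Perm.mul_apply, swap_apply_of_ne_of_ne h02 h03, swap_apply_left]
  have e1 : (p.1 : Perm (Fin n)) i1 = i0 := by
    rw [hp1, Perm.mul_apply, swap_apply_of_ne_of_ne h12 h13, swap_apply_right]
  have e2 : (p.1 : Perm (Fin n)) i2 = i3 := by
    rw [hp1, Perm.mul_apply, swap_apply_left, swap_apply_of_ne_of_ne h03.symm h13.symm]
  have e3 : (p.1 : Perm (Fin n)) i3 = i2 := by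
    rw [hp1, Perm.mul_apply, swap_apply_right, swap_apply_of_ne_of_ne h02.symm h12.symm]
  have hcomm : (p.1 : Perm (Fin n)) * q.1 = q.1 * p.1 := by
    have h : swap i0 i2 * swap i1 i3 = swap i1 i3 * swap i0 i2 := by
      rw [mul_swap_eq_swap_mul (swap i0 i2) i1 i3, swap_apply_of_ne_of_ne h01.symm h12,
        swap_apply_of_ne_of_ne h03.symm h23.symm]
    rw [hq1, ← mul_assoc, mul_swap_eq_swap_mul (p.1 : Perm (Fin n)) i0 i2, e0, e2, mul_assoc,
      mul_swap_eq_swap_mul (p.1 : Perm (Fin n)) i1 i3, e1, e3,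
      ← mul_assoc, h]
  have hpq : p * q = (1, -1) * (q * p) := by
    refine Prod.ext (Subtype.ext (by simpa using hcomm)) (Units.ext ?_)
    show (p.2 : Module.End ℝ (Mod n)) * q.2 = (-1) * ((q.2 : Module.End ℝ (Mod n)) * p.2)
    have hx : ∀ a b : Fin n, (p.2 : Module.End ℝ (Mod n)) * x a b =
        x ((p.1 : Perm (Fin n)) a) ((p.1 : Perm (Fin n)) b) * (p.2 : Module.End ℝ (Mod n)) := by
      intro a b
      rw [x, x, mul_smul_comm, smul_mul_assoc, mul_sub, sub_mul, hp.1, hp.1]
    rw [hq2, ← mul_assoc, hx, e0, e2, mul_assoc, hx, e1, e3, ← mul_assoc,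
      x_anti h01.symm h12 h03.symm h23.symm]
    exact (end_neg_mul _ _).trans
      (neg_one_mul ((x i0 i2 * x i1 i3) * (p.2 : Module.End ℝ (Mod n)))).symm
  have hz : (⟨(1, -1), neg_one_mem⟩ : cover n) = ⁅(⟨p, hp⟩ : cover n), ⟨q, hq⟩⁆ := by
    apply Subtype.ext
    show ((1, -1) : alternatingGroup (Fin n) × (Module.End ℝ (Mod n))ˣ) = p * q * p⁻¹ * q⁻¹
    rw [hpq]
    group
  rw [hz]
  exact Subgroup.commutator_mem_commutator (Subgroup.mem_top _) (Subgroup.mem_top _)

/-- The double cover. -/
theorem exists_double_cover (hn : 4 ≤ n) :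
    ∃ (Γ : Type) (_ : Group Γ) (_ : Finite Γ) (z : Γ) (_ : z ∈ Subgroup.center Γ),
      orderOf z = 2 ∧ z ∈ commutator Γ ∧ ∃ _ : (Subgroup.zpowers z).Normal,
        Nonempty (Γ ⧸ Subgroup.zpowers z ≃* alternatingGroup (Fin n)) := by
  let z : cover n := ⟨(1, -1), neg_one_mem⟩
  have hcen : z ∈ Subgroup.center (cover n) := Subgroup.mem_center_iff.2 fun g =>
    Subtype.ext (Prod.ext (by simp [z]) (Units.ext (by simp [z])))
  have hz1 : z ≠ 1 := fun h => neg_one_ne_one_unit
    (congrArg Prod.snd (congrArg Subtype.val h))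
  have hz2 : z ^ 2 = 1 := Subtype.ext (Prod.ext (by simp [z]) (Units.ext (by simp [z, sq])))
  haveI := finite_cover (n := n)
  have hnor : (Subgroup.zpowers z).Normal := ⟨fun a ha g => by
    obtain ⟨k, rfl⟩ := Subgroup.mem_zpowers_iff.1 ha
    rw [Subgroup.mem_center_iff.1 (zpow_mem hcen k) g, mul_inv_cancel_right]
    exact zpow_mem (Subgroup.mem_zpowers z) k⟩
  have hker : (proj n).ker = Subgroup.zpowers z := by
    refine le_antisymm (fun w hw => ?_) (Subgroup.zpowers_le.2 rfl)
    rcases eq_one_or_neg_one w.2 hw with h | h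
    · rw [show w = 1 from Subtype.ext (Prod.ext hw h)]
      exact one_mem _
    · rw [show w = z from Subtype.ext (Prod.ext hw h)]
      exact Subgroup.mem_zpowers z
  exact ⟨cover n, inferInstance, inferInstance, z, hcen,
    orderOf_eq_prime hz2 hz1, neg_one_mem_commutator hn, hnor,
    ⟨(QuotientGroup.quotientMulEquivOfEq hker.symm).trans
      (QuotientGroup.quotientKerEquivOfSurjective _ proj_surjective)⟩⟩

end Cfsg.Agent.H35.Spin
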